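import Cfsg.Agent.Lib.InvChar.RankFourLinear.Eight

/-!
# Two central layers of order two
-/

set_option autoImplicit false
set_option linter.style.haveILetI false
set_option linter.unusedSectionVars false

open Subgroup
open CfsgLib.RankFourAltFive (SecLE)

universe u v

namespace CfsgLib.RankFourLinear

variable {L : Type v} [Group L] [Finite L] [IsSimpleGroup L] (hL : Nat.card L = 168)
variable {G : Type u} [Group G] [Finite G] {π : G →* L}

/-- The four automorphisms form a group. -/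
theorem klein_closed : ∀ φ ∈ ([1, rr * rr, bb, rr * rr * bb] : List (MulAut V3)), ∀ ψ ∈ ([1, rr * rr, bb, rr * rr * bb] : List (MulAut V3)),
    (∀ x, (φ * ψ) x = (1 : MulAut V3) x) ∨ (∀ x, (φ * ψ) x = (rr * rr) x) ∨
      (∀ x, (φ * ψ) x = bb x) ∨ (∀ x, (φ * ψ) x = (rr * rr * bb) x) := by decide +kernel

include hL in
/-- An invariant homomorphism killing `F` kills every invariant natural section above it. -/
theorem hom_kills (hπ : Function.Surjective π) {S0 F : Subgroup G} {V : Type u} [CommGroup V] [Finite V]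
    {ρ : L →* MulAut V} {P : G → V} (C : Coord π S0 F ρ P) (hV : Nat.card V = 8) (hρ : ρ ≠ 1)
    {H : Type*} [Group H] (d : G → H) (hmul : ∀ a ∈ S0, ∀ b ∈ S0, d (a * b) = d a * d b)
    (hF : ∀ x ∈ F, d x = 1) (hinv : ∀ g, ∀ a ∈ S0, d (g * a * g⁻¹) = d a) : ∀ s ∈ S0, d s = 1 := by
  intro s hs
  by_cases hPs : P s = 1
  · exact hF s ((C.eq_one s hs).1 hPs)
  have heq : ∀ a ∈ S0, P a ≠ 1 → d a = d s := by
    intro a ha hPa
    obtain ⟨l, hl⟩ := transitive_eight hL hV C.v2 ρ hρ hPs hPa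
    obtain ⟨g, rfl⟩ := hπ l
    have h := C.div_mem ha (C.conj_mem hs g) (by rw [C.equiv g s hs, hl])
    rw [show a = a * (g * s * g⁻¹)⁻¹ * (g * s * g⁻¹) by group,
      hmul _ (mul_mem ha (inv_mem (C.conj_mem hs g))) _ (C.conj_mem hs g), hF _ h, one_mul, hinv g s hs]
  obtain ⟨b, hb1, hbs⟩ := exists_ne_pair hV (P s)
  obtain ⟨t, ht, rfl⟩ := C.surj b
  have hne : P (s * t) ≠ 1 := by
    rw [C.map_mul s hs t ht]
    intro h
    exact hbs ((inv_eq_of_mul_eq_one_right h).symm.trans (inv_eq_of_mul_eq_one_right (C.v2 _)))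
  have h := heq _ (mul_mem hs ht) hne
  rw [hmul s hs t ht, heq t ht hb1] at h
  exact mul_eq_left.1 h

include hL in
/-- A cyclic layer of order four does not occur. -/
theorem no_central_layers (hπ : Function.Surjective π) (hsec : SecLE G) (F U : Subgroup G) [F.Normal] [U.Normal]
    (hU2 : Nat.card U = 2) (hUF : U ≤ F) (hidx2 : U.relIndex F = 2) (hFle : F ≤ π.ker)
    (hidx : F.relIndex π.ker = 16) (hsq : ∀ m ∈ π.ker, m * m ∈ F)
    (hgen : F ≤ closure {x | ∃ m ∈ π.ker, m * m = x})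
    (hmove : ∃ g, ∃ m ∈ π.ker, g * m * g⁻¹ * m⁻¹ ∉ F) : False := by
  classical
  obtain ⟨hcomm, S0, hS0n, hFS, hS0le, hS0idx, hFS8, hS0iff⟩ :=
    two_layer hL hπ F U hUF hidx2 hFle hidx hsq hgen hmove
  haveI := hS0n
  obtain ⟨u, huU, hu1, huu, hUall, hUc⟩ := central_of_card_two hU2
  have hFcard : Nat.card F = 4 := by
    have h := relIndex_mul_relIndex (⊥ : Subgroup G) U F bot_le hUF
    rw [relIndex_bot_left, relIndex_bot_left, hU2, hidx2] at h
    omega
  obtain ⟨V, iV, iF, ρ, P, C⟩ := exists_coord hπ π.ker F hFle hsq fun c hc m hm => hUF (hcomm c hc m hm)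
  have hV : Nat.card V = 16 := C.card.trans hidx
  have hρ := C.ne_one hmove
  obtain ⟨V', iV', iF', ρ', P', C'⟩ := exists_coord hπ S0 F hFS (fun m hm => hsq m (hS0le hm))
    (fun c hc m hm => hUF (hcomm c hc m (hS0le hm)))
  have hV' : Nat.card V' = 8 := C'.card.trans hFS8
  have hρ' : ρ' ≠ 1 := by
    refine C'.ne_one ?_
    by_contra hcon
    push Not at hcon
    obtain ⟨f7, hf7, hf71⟩ := exists_seven hL
    have h7 := card_fixed_seven hL hV ρ hρ hf7 hf71
    obtain ⟨g, rfl⟩ := hπ f7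
    have hle : Nat.card V' ≤ Nat.card (CfsgLib.RankFourAltFive.fixed (ρ (π g))) := by
      choose Q hQM hQ using C'.surj
      refine Nat.card_le_card_of_injective (fun v => (⟨P (Q v), ?_⟩ : CfsgLib.RankFourAltFive.fixed (ρ (π g))))
        fun v w h => ?_
      · rw [CfsgLib.RankFourAltFive.mem_fixed, ← C.equiv g _ (hS0le (hQM v))]
        have h1 := (C.eq_one _ (mul_mem (C.conj_mem (hS0le (hQM v)) g) (inv_mem (hS0le (hQM v))))).2
          (hcon g _ (hQM v))
        rw [C.map_mul _ (C.conj_mem (hS0le (hQM v)) g) _ (inv_mem (hS0le (hQM v))), C.map_inv (hS0le (hQM v)),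
          mul_eq_one_iff_eq_inv, inv_eq_of_mul_eq_one_right (C.v2 _)] at h1
        exact h1
      · have hF := C.div_mem (hS0le (hQM v)) (hS0le (hQM w)) (congrArg Subtype.val h)
        have h1 := (C'.eq_one _ (mul_mem (hQM v) (inv_mem (hQM w)))).2 hF
        rw [C'.map_mul _ (hQM v) _ (inv_mem (hQM w)), C'.map_inv (hQM w), hQ, hQ, mul_eq_one_iff_eq_inv,
          inv_eq_of_mul_eq_one_right (C'.v2 _)] at h1
        exact h1
    rw [hV', h7] at hle
    omega
  -- an element with square outside `U`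
  obtain ⟨m1, hm1, hm1S⟩ : ∃ m ∈ π.ker, m ∉ S0 := SetLike.not_le_iff_exists.1 fun h => by
    rw [relIndex_eq_one.2 h] at hS0idx; omega
  set z := m1 * m1 with hzdef
  have hzF : z ∈ F := hsq m1 hm1
  have hzU : z ∉ U := fun h => hm1S ((hS0iff m1 hm1).2 h)
  have hcosS : ∀ x ∈ π.ker, x ∈ S0 ∨ m1⁻¹ * x ∈ S0 := by
    intro x hx
    by_cases h : x ∈ S0
    · exact Or.inl h
    refine Or.inr (mem_subgroupOf.1 ((mul_mem_iff_of_index_two hS0idx).2
      ⟨fun h' => absurd ?_ hm1S, fun h' => absurd (mem_subgroupOf.1 h') h⟩ :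
      (⟨m1, hm1⟩ : π.ker)⁻¹ * ⟨x, hx⟩ ∈ S0.subgroupOf π.ker))
    exact inv_mem_iff.1 (mem_subgroupOf.1 h')
  have hFdesc : ∀ x ∈ F, x ∈ U ∨ z⁻¹ * x ∈ U := by
    intro x hx
    by_cases h : x ∈ U
    · exact Or.inl h
    refine Or.inr (mem_subgroupOf.1 ((mul_mem_iff_of_index_two hidx2).2
      ⟨fun h' => absurd ?_ hzU, fun h' => absurd (mem_subgroupOf.1 h') h⟩ :
      (⟨z, hzF⟩ : F)⁻¹ * ⟨x, hx⟩ ∈ U.subgroupOf F))
    exact inv_mem_iff.1 (mem_subgroupOf.1 h')
  have hcm : ∀ h, ∀ a ∈ π.ker, h * a * h⁻¹ ∈ π.ker := fun h a ha => π.normal_ker.conj_mem a ha h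
  have hcS : ∀ h, ∀ a ∈ S0, h * a * h⁻¹ ∈ S0 := fun h a ha => hS0n.conj_mem a ha h
  have hzconj : ∀ g, g * z * g⁻¹ * z⁻¹ ∈ U := by
    intro g
    have h' : g * z * g⁻¹ ∉ U := fun h1 => hzU (by
      have := Normal.conj_mem ‹U.Normal› _ h1 g⁻¹
      rwa [inv_inv, show g⁻¹ * (g * z * g⁻¹) * g = z by group] at this)
    have h2 := (hFdesc _ (Normal.conj_mem ‹F.Normal› z hzF g)).resolve_left h'
    have := Normal.conj_mem ‹U.Normal› _ h2 z
    rwa [show z * (z⁻¹ * (g * z * g⁻¹)) * z⁻¹ = g * z * g⁻¹ * z⁻¹ by group] at this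
  -- `z` is central
  have hzker : ∀ m ∈ π.ker, m * z = z * m := by
    have hd : ∀ s ∈ S0, s * z * s⁻¹ * z⁻¹ = 1 := by
      refine hom_kills hL hπ C' hV' hρ' (fun s => s * z * s⁻¹ * z⁻¹) (fun a ha b hb => ?_) (fun x hx => ?_)
        (fun g a ha => ?_)
      · have hb' := hcomm b (hS0le hb) z (hFle hzF)
        have ha' := hcomm a (hS0le ha) z (hFle hzF)
        rw [show a * b * z * (a * b)⁻¹ * z⁻¹ = a * (b * z * b⁻¹ * z⁻¹) * a⁻¹ * (a * z * a⁻¹ * z⁻¹) by group,
          hUc a _ hb', mul_inv_cancel_right, hUc _ _ ha']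
      · rcases hFdesc x hx with h | h
        · show x * z * x⁻¹ * z⁻¹ = 1
          rw [← hUc z x h, mul_inv_cancel_right, mul_inv_cancel]
        · have e : x * z = z * x := by
            calc x * z = z * ((z⁻¹ * x) * z) := by group
              _ = z * (z * (z⁻¹ * x)) := by rw [← hUc z _ h]
              _ = z * x := by group
          show x * z * x⁻¹ * z⁻¹ = 1
          rw [e, mul_inv_cancel_right, mul_inv_cancel]
      · set w := g⁻¹ * z * g * z⁻¹ with hw
        have hwU : w ∈ U := by have := hzconj g⁻¹; rwa [inv_inv] at this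
        show g * a * g⁻¹ * z * (g * a * g⁻¹)⁻¹ * z⁻¹ = a * z * a⁻¹ * z⁻¹
        calc g * a * g⁻¹ * z * (g * a * g⁻¹)⁻¹ * z⁻¹
            = g * (a * w * (z * a⁻¹ * (g⁻¹ * z * g * z⁻¹ * z)⁻¹)) * g⁻¹ := by rw [hw]; group
          _ = g * (w * a * (z * a⁻¹ * (w * z)⁻¹)) * g⁻¹ := by rw [hUc a w hwU]
          _ = g * (w * (a * z * a⁻¹ * z⁻¹) * w⁻¹) * g⁻¹ := by group
          _ = a * z * a⁻¹ * z⁻¹ := by
            rw [hUc w _ (hcomm a (hS0le ha) z (hFle hzF)),
              mul_inv_cancel_right, hUc g _ (hcomm a (hS0le ha) z (hFle hzF)), mul_inv_cancel_right]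
    intro m hm
    rcases hcosS m hm with h | h
    · exact mul_inv_eq_iff_eq_mul.1 (mul_inv_eq_one.1 (hd m h))
    · calc m * z = m1 * ((m1⁻¹ * m) * z) := by group
        _ = m1 * (z * (m1⁻¹ * m)) := by rw [mul_inv_eq_iff_eq_mul.1 (mul_inv_eq_one.1 (hd _ h))]
        _ = z * m := by rw [hzdef]; group
  have hzc : ∀ g, g * z = z * g := by
    let χ : G →* U := MonoidHom.mk' (fun g => ⟨g * z * g⁻¹ * z⁻¹, hzconj g⟩) fun a b => by
      refine Subtype.ext ?_
      show a * b * z * (a * b)⁻¹ * z⁻¹ = a * z * a⁻¹ * z⁻¹ * (b * z * b⁻¹ * z⁻¹)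
      rw [show a * b * z * (a * b)⁻¹ * z⁻¹ = a * (b * z * b⁻¹ * z⁻¹) * a⁻¹ * (a * z * a⁻¹ * z⁻¹) by group,
        hUc a _ (hzconj b), mul_inv_cancel_right, hUc _ _ (hzconj a)]
    have hk : π.ker ≤ χ.ker := fun m hm => MonoidHom.mem_ker.2 (Subtype.ext (by
      show m * z * m⁻¹ * z⁻¹ = 1
      rw [hzker m hm, mul_inv_cancel_right, mul_inv_cancel]))
    let χ' : L →* U := π.liftOfSurjective hπ ⟨χ, hk⟩
    have hχ' : χ' = 1 := by
      by_contra h
      have := Nat.card_le_card_of_injective χ' (injective_of_ne_one χ' h)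
      omega
    intro g
    have h : χ g = 1 := by
      rw [← π.liftOfRightInverse_comp_apply _ (Function.rightInverse_surjInv hπ) ⟨χ, hk⟩ g]
      exact DFunLike.congr_fun hχ' (π g)
    exact mul_inv_eq_iff_eq_mul.1 (mul_inv_eq_one.1 (congrArg Subtype.val h))
  have hFc : ∀ g, ∀ x ∈ F, g * x = x * g := by
    intro g x hx
    rcases hFdesc x hx with h | h
    · exact hUc g x h
    · calc g * x = g * z * (z⁻¹ * x) := by group
        _ = z * (g * (z⁻¹ * x)) := by rw [hzc g]; group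
        _ = z * ((z⁻¹ * x) * g) := by rw [hUc g _ h]
        _ = x * g := by group
  -- the kernel is abelian
  have hab : ∀ a ∈ π.ker, ∀ b ∈ π.ker, a * b = b * a := by
    choose Q hQM hQ using C.surj
    let c : G → G → G := fun a b => a * b * a⁻¹ * b⁻¹
    have hcl : ∀ a ∈ π.ker, ∀ a' ∈ π.ker, ∀ b ∈ π.ker, c (a * a') b = c a b * c a' b := by
      intro a ha a' ha' b hb
      rw [show c (a * a') b = (a * c a' b * a⁻¹) * c a b by simp only [c]; group, hUc a _ (hcomm a' ha' b hb),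
        mul_inv_cancel_right, hUc _ _ (hcomm a ha b hb)]
    have hc2 : ∀ a ∈ π.ker, ∀ b ∈ π.ker, c b a = c a b := by
      intro a ha b hb
      have h : c a b * c a b = 1 := by
        rcases hUall _ (hcomm a ha b hb) with h | h <;> rw [show c a b = _ from h]
        exacts [one_mul 1, huu]
      rw [show c b a = (c a b)⁻¹ by simp only [c]; group, inv_eq_of_mul_eq_one_right h]
    have hwd : ∀ a ∈ π.ker, ∀ a' ∈ π.ker, P a = P a' → ∀ b ∈ π.ker, c a b = c a' b := by
      intro a ha a' ha' h b hb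
      have hF := C.div_mem ha ha' h
      rw [show a = a * a'⁻¹ * a' by group, hcl _ (mul_mem ha (inv_mem ha')) _ ha' b hb,
        show c (a * a'⁻¹) b = 1 by
          show a * a'⁻¹ * b * (a * a'⁻¹)⁻¹ * b⁻¹ = 1
          rw [← hFc b _ hF, mul_inv_cancel_right, mul_inv_cancel], one_mul]
    have hwd' : ∀ a ∈ π.ker, ∀ a' ∈ π.ker, ∀ b ∈ π.ker, ∀ b' ∈ π.ker, P a = P a' → P b = P b' → c a b = c a' b' := by
      intro a ha a' ha' b hb b' hb' h h'
      rw [hwd a ha a' ha' h b hb, hc2 b hb a' ha', hwd b hb b' hb' h' a' ha', hc2 a' ha' b' hb']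
    have hβ := alternating_trivial hL hV C.v2 ρ hρ huu (fun v w => c (Q v) (Q w))
      (fun a b => hUall _ (hcomm _ (hQM a) _ (hQM b)))
      (fun a b d => by
        rw [← hcl _ (hQM a) _ (hQM b) _ (hQM d)]
        exact hwd _ (hQM _) _ (mul_mem (hQM a) (hQM b)) (by rw [hQ, C.map_mul _ (hQM a) _ (hQM b), hQ, hQ]) _ (hQM d))
      (fun a b d => by
        rw [hc2 _ (hQM (b * d)) _ (hQM a), hc2 _ (hQM b) _ (hQM a), hc2 _ (hQM d) _ (hQM a),
          ← hcl _ (hQM b) _ (hQM d) _ (hQM a)]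
        exact hwd _ (hQM _) _ (mul_mem (hQM b) (hQM d)) (by rw [hQ, C.map_mul _ (hQM b) _ (hQM d), hQ, hQ]) _ (hQM a))
      (fun a => by simp only [c]; group)
      (fun l a b => by
        obtain ⟨g, rfl⟩ := hπ l
        rw [hwd' _ (hQM _) (g * Q a * g⁻¹) (hcm g _ (hQM a)) _ (hQM _) (g * Q b * g⁻¹) (hcm g _ (hQM b))
          (by rw [hQ, C.equiv g _ (hQM a), hQ]) (by rw [hQ, C.equiv g _ (hQM b), hQ])]
        rw [show c (g * Q a * g⁻¹) (g * Q b * g⁻¹) = g * c (Q a) (Q b) * g⁻¹ by simp only [c]; group,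
          hUc g _ (hcomm _ (hQM a) _ (hQM b)), mul_inv_cancel_right])
    intro a ha b hb
    refine mul_inv_eq_iff_eq_mul.1 (mul_inv_eq_one.1 ?_)
    show c a b = 1
    rw [hwd' a ha _ (hQM (P a)) b hb _ (hQM (P b)) (hQ _).symm (hQ _).symm]
    exact hβ _ _
  have hsqmul : ∀ a ∈ π.ker, ∀ b ∈ π.ker, a * b * (a * b) = a * a * (b * b) := by
    intro a ha b hb
    rw [show a * b * (a * b) = a * (b * a) * b by group, hab b hb a ha]
    group
  have hsqfix : ∀ g, ∀ a ∈ π.ker, g * a * g⁻¹ * (g * a * g⁻¹) = a * a := by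
    intro g a ha
    rw [conj_mul, hFc g _ (hsq a ha), mul_inv_cancel_right]
  -- `z` has order four
  have hF4 : ∀ x ∈ F, x * x * (x * x) = 1 := by
    intro x hx
    rcases hUall _ (mem_subgroupOf.1 (mul_self_mem_of_index_two hidx2 (⟨x, hx⟩ : F))) with h | h <;>
      rw [show x * x = _ from h]
    exacts [one_mul 1, huu]
  have hz4 : z * z ≠ 1 := by
    intro hz2
    have hF2 : ∀ x ∈ F, x * x = 1 := by
      intro x hx
      rcases hFdesc x hx with h | h
      · rcases hUall x h with rfl | rfl; exacts [one_mul 1, huu]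
      · rw [show x * x = z * ((z⁻¹ * x) * z) * (z⁻¹ * x) by group, ← hUc z _ h,
          show z * (z * (z⁻¹ * x)) * (z⁻¹ * x) = z * z * ((z⁻¹ * x) * (z⁻¹ * x)) by group, hz2, one_mul]
        rcases hUall _ h with h' | h' <;> rw [h']; exacts [one_mul 1, huu]
    have hS := hom_kills hL hπ C' hV' hρ' (fun s => s * s) (fun a ha b hb => hsqmul a (hS0le ha) b (hS0le hb))
      hF2 (fun g a ha => hsqfix g a (hS0le ha))
    have hle : F ≤ CfsgLib.RankFourAltFive.pair z hz2 := by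
      refine hgen.trans ((closure_le _).2 ?_)
      rintro _ ⟨m, hm, rfl⟩
      rcases hcosS m hm with h | h
      · exact Or.inl (hS m h)
      · refine Or.inr ?_
        rw [show m = m1 * (m1⁻¹ * m) by group, hsqmul m1 hm1 _ (hS0le h), hS _ h, mul_one]
    have h1 := card_le_of_le hle
    have h2 : Nat.card (CfsgLib.RankFourAltFive.pair z hz2) ≤ 2 := CfsgLib.RankFourAltFive.card_pair_le
    omega
  have hFU : ∀ x ∈ F, x * x = 1 → x ∈ U := by
    intro x hx h
    rcases hFdesc x hx with h' | h'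
    · exact h'
    · exfalso
      apply hz4
      rw [show x * x = z * ((z⁻¹ * x) * z) * (z⁻¹ * x) by group, ← hUc z _ h',
        show z * (z * (z⁻¹ * x)) * (z⁻¹ * x) = z * z * ((z⁻¹ * x) * (z⁻¹ * x)) by group] at h
      rcases hUall _ h' with h'' | h'' <;> rw [h''] at h
      · rwa [one_mul, mul_one] at h
      · rwa [huu, mul_one] at h
  have hS4 : ∀ s ∈ S0, s * s * (s * s) = 1 := fun s hs => by
    rcases hUall _ ((hS0iff s (hS0le hs)).1 hs) with h | h <;> rw [h]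
    exacts [one_mul 1, huu]
  have hodd4 : ∀ m ∈ π.ker, m ∉ S0 → m * m * (m * m) ≠ 1 := by
    intro m hm hmS h
    exact hmS ((hS0iff m hm).2 (hFU _ (hsq m hm) h))
  have hlift : ∀ (e : V3 ≃* V') (φ : MulAut V3), ∃ g, Frames ρ' e φ (π g) := by
    intro e φ
    obtain ⟨l, hl⟩ := exists_frames hL hV' C'.v2 ρ' hρ' e φ
    obtain ⟨g, rfl⟩ := hπ l
    exact ⟨g, hl⟩
  have hinjL := injective_of_ne_one ρ' hρ'
  have hsame : ∀ {e : V3 ≃* V'} {φ ψ : MulAut V3} {l l' : L}, Frames ρ' e φ l → Frames ρ' e ψ l' →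
      (∀ x, φ x = ψ x) → l = l' := by
    intro e φ ψ l l' h h' hx
    refine hinjL (MulEquiv.ext fun v => ?_)
    obtain ⟨x, rfl⟩ := e.surjective v
    rw [h, h', hx]
  have hsame1 : ∀ {e : V3 ≃* V'} {φ : MulAut V3} {g : G}, Frames ρ' e φ (π g) → (∀ x, φ x = x) → g ∈ π.ker := by
    intro e φ g h hx
    refine MonoidHom.mem_ker.2 (hsame (ψ := 1) h ?_ hx)
    intro x
    rw [map_one]; rfl
  -- fourth powers of lifts of regular unipotent elements
  have hf4 : ∀ (e : V3 ≃* V') (g : G), Frames ρ' e rr (π g) → g * g * (g * g) ∈ S0 := by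
    intro e g hg
    have hf := (fourth_mem_ker hL ρ' hρ' hg).1
    by_contra hfS
    set f := g * g * (g * g) with hfdef
    obtain ⟨y, hy⟩ := hlift e bb
    set c := g * (y * g * y⁻¹) with hcdef
    have hc : c ∈ π.ker := by
      rw [hcdef]
      refine hsame1 (e := e) (φ := rr * (bb * rr * bb⁻¹)) ?_ (by decide)
      rw [map_mul, map_mul, map_mul, map_inv]
      exact hg.mul ρ' ((hy.mul ρ' hg).mul ρ' (hy.inv ρ'))
    set p := g * g * g * c * (g * g * g)⁻¹ * (g * g * c * (g * g)⁻¹) * (g * c * g⁻¹) * c with hpdef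
    have hpker : p ∈ π.ker := mul_mem (mul_mem (mul_mem (hcm _ c hc) (hcm _ c hc)) (hcm g c hc)) hc
    have hp2 : p * p = c * c * (c * c) * (c * c * (c * c)) := by
      rw [hpdef, hsqmul _ (mul_mem (mul_mem (hcm _ c hc) (hcm _ c hc)) (hcm g c hc)) c hc,
        hsqmul _ (mul_mem (hcm _ c hc) (hcm _ c hc)) _ (hcm g c hc), hsqmul _ (hcm _ c hc) _ (hcm _ c hc),
        hsqfix _ c hc, hsqfix _ c hc, hsqfix _ c hc]
      group
    rw [hF4 _ (hsq c hc)] at hp2
    have e1 : y * f * y⁻¹ = f⁻¹ * p := by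
      rw [hfdef, hpdef]
      calc y * (g * g * (g * g)) * y⁻¹ = (g⁻¹ * c) * (g⁻¹ * c) * ((g⁻¹ * c) * (g⁻¹ * c)) := by rw [hcdef]; group
        _ = _ := by group
    have e2 : f * f = (f * f)⁻¹ := by
      have h := hsqfix y f hf
      rw [e1, hsqmul _ (inv_mem hf) _ hpker, hp2, mul_one] at h
      exact h.symm.trans (mul_inv_rev f f).symm
    exact hodd4 f hf hfS (by nth_rewrite 1 [e2]; rw [inv_mul_cancel])
  have hfixP : ∀ (e : V3 ≃* V') (g : G), Frames ρ' e rr (π g) →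
      P' (g * g * (g * g)) = 1 ∨ P' (g * g * (g * g)) = e (pt 1 0 0) := by
    intro e g hg
    have h := C'.frames hg (hf4 e g hg)
    rw [show g * (g * g * (g * g)) * g⁻¹ = g * g * (g * g) by group, eq_comm] at h
    rcases (rr_fix _).1 h with h' | h' <;> rw [MulEquiv.symm_apply_eq] at h'
    · exact Or.inl (h'.trans (map_one e))
    · exact Or.inr h'
  obtain ⟨v0, hv0, -⟩ := exists_ne_pair hV' (1 : V')
  obtain ⟨e, -⟩ := exists_frame_one hV' C'.v2 hv0
  have hswsw : ∀ x, sw (sw x) = x := by decide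
  have hsw1 : (sw.trans e) (pt 1 0 0) = e (pt 1 0 0) := congrArg e (by decide)
  have hS0card : Nat.card S0 = 32 := by
    have h := relIndex_mul_relIndex (⊥ : Subgroup G) F S0 bot_le hFS
    rw [relIndex_bot_left, relIndex_bot_left, hFcard, hFS8] at h
    exact h.symm
  let K0 : Subgroup G :=
    { carrier := {s | s ∈ S0 ∧ (P' s = 1 ∨ P' s = e (pt 1 0 0))}
      one_mem' := ⟨one_mem _, Or.inl C'.map_one⟩
      mul_mem' := fun {a b} ha hb => ⟨mul_mem ha.1 hb.1, by
        rw [C'.map_mul _ ha.1 _ hb.1]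
        rcases ha.2 with h | h <;> rcases hb.2 with h' | h' <;> simp [h, h', C'.v2]⟩
      inv_mem' := fun {a} ha => ⟨inv_mem ha.1, by rw [C'.map_inv ha.1]; exact ha.2⟩ }
  have hK0 : ∀ s, s ∈ K0 ↔ s ∈ S0 ∧ (P' s = 1 ∨ P' s = e (pt 1 0 0)) := fun s => Iff.rfl
  have hnorm : ∀ (φ : MulAut V3) (x : G), Frames ρ' e φ (π x) → (∀ v, φ v * v = 1 ∨ φ v * v = pt 1 0 0) →
      ∀ s ∈ S0, x * s * x⁻¹ * s ∈ K0 := by
    intro φ x hx hφ s hs
    refine ⟨mul_mem (hcS x s hs) hs, ?_⟩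
    obtain ⟨v, hv⟩ := e.surjective (P' s)
    rw [C'.map_mul _ (hcS x s hs) _ hs, C'.equiv x s hs, ← hv, hx, ← MulEquiv.map_mul]
    rcases hφ v with h | h <;> rw [h]
    · exact Or.inl (map_one e)
    · exact Or.inr rfl
  obtain ⟨g1, hg1⟩ := hlift e rr
  have hg1F : Frames ρ' e (rr * rr) (π (g1 * g1)) := by rw [map_mul]; exact hg1.mul ρ' hg1
  by_cases hsplit : ∃ m ∈ π.ker, m ∉ S0 ∧ ∀ g, g * m * g⁻¹ * m⁻¹ ∈ F
  · -- a fixed vector outside
    obtain ⟨m, hm, hmS, hmfix⟩ := hsplit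
    obtain ⟨g2, hg2⟩ := hlift (sw.trans e) rr
    set xa := g1 * g1
    set xb := g2 * g2
    set xc := g1 * xb * g1⁻¹ with hxc
    have hxbF : Frames ρ' e bb (π xb) := by
      intro v
      have h := hg2.mul ρ' hg2 (sw v)
      rw [← map_mul] at h
      simp only [MulEquiv.trans_apply, hswsw] at h
      rw [h]
      exact congrArg e (sw_conj v)
    have hxcF : Frames ρ' e (rr * rr * bb) (π xc) := by
      intro v
      rw [hxc, map_mul π, map_mul π, map_inv π, ((hg1.mul ρ' hxbF).mul ρ' (hg1.inv ρ')) v]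
      exact congrArg e (rr_bb v)
    have hxa2 : xa * xa ∈ K0 := ⟨hf4 e g1 hg1, hfixP e g1 hg1⟩
    have hxb2 : xb * xb ∈ K0 := ⟨hf4 _ g2 hg2, by have := hfixP _ g2 hg2; rwa [hsw1] at this⟩
    have hxc2 : xc * xc ∈ K0 := by
      rw [hxc, conj_mul]
      refine ⟨hcS g1 _ hxb2.1, ?_⟩
      rw [C'.equiv g1 _ hxb2.1]
      rcases hxb2.2 with h | h <;> rw [h]
      · exact Or.inl (map_one _)
      · rw [hg1, (rr_fix _).2 (Or.inr rfl)]; exact Or.inr rfl
    have hgenH : ∀ (φ : MulAut V3) (x : G), Frames ρ' e φ (π x) → (∀ v, φ v * v = 1 ∨ φ v * v = pt 1 0 0) →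
        x * x ∈ K0 → x * x ∈ π.ker → ∀ h, π h = π x → h * h ∈ K0 := by
      intro φ x hx hφ hxx hxk h hh
      set μ := x⁻¹ * h with hμ
      have hμk : μ ∈ π.ker := by rw [MonoidHom.mem_ker, hμ, map_mul, map_inv, hh, inv_mul_cancel]
      have e1 : h * h = x * μ * x⁻¹ * μ * (x * x) := by
        calc h * h = (x * μ * x⁻¹) * ((x * x) * μ) := by rw [hμ]; group
          _ = (x * μ * x⁻¹) * (μ * (x * x)) := by rw [hab _ hxk μ hμk]
          _ = _ := by group
      rw [e1]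
      refine mul_mem ?_ hxx
      have hmm : x * m * x⁻¹ * m ∈ K0 := by
        have hF : x * m * x⁻¹ * m ∈ F := by
          rw [show x * m * x⁻¹ * m = (x * m * x⁻¹ * m⁻¹) * (m * m) by group]
          exact mul_mem (hmfix x) (hsq m hm)
        exact ⟨hFS hF, Or.inl ((C'.eq_one _ (hFS hF)).2 hF)⟩
      by_cases hμS : μ ∈ S0
      · exact hnorm φ x hx hφ μ hμS
      · have hms : m⁻¹ * μ ∈ S0 := mem_subgroupOf.1 ((mul_mem_iff_of_index_two hS0idx).2
          ⟨fun h' => absurd (inv_mem_iff.1 (mem_subgroupOf.1 h')) hmS, fun h' => absurd (mem_subgroupOf.1 h') hμS⟩ :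
          (⟨m, hm⟩ : π.ker)⁻¹ * ⟨μ, hμk⟩ ∈ S0.subgroupOf π.ker)
        set s := m⁻¹ * μ
        have e2 : x * μ * x⁻¹ * μ = x * m * x⁻¹ * m * (x * s * x⁻¹ * s) := by
          calc x * μ * x⁻¹ * μ = x * m * x⁻¹ * ((x * s * x⁻¹) * m) * s := by simp only [s]; group
            _ = x * m * x⁻¹ * (m * (x * s * x⁻¹)) * s := by rw [hab _ (hcm x s (hS0le hms)) m hm]
            _ = _ := by group
        rw [e2]
        exact mul_mem hmm (hnorm φ x hx hφ s hms)
    let T : Subgroup L :=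
      { carrier := {1, π xa, π xb, π xc}
        one_mem' := Or.inl rfl
        mul_mem' := by
          have h1 : Frames ρ' e (1 : MulAut V3) (1 : L) := fun v => by rw [map_one]; rfl
          have all : ∀ {l}, l ∈ ({1, π xa, π xb, π xc} : Set L) → ∃ φ ∈ ([1, rr * rr, bb, rr * rr * bb] : List (MulAut V3)),
              Frames ρ' e φ l := by
            rintro l (rfl | rfl | rfl | rfl)
            exacts [⟨_, by simp, h1⟩, ⟨_, by simp, hg1F⟩, ⟨_, by simp, hxbF⟩, ⟨_, by simp, hxcF⟩]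
          intro a b ha hb
          obtain ⟨φ, hφ, hφa⟩ := all ha
          obtain ⟨ψ, hψ, hψb⟩ := all hb
          have key := klein_closed
          rcases key φ hφ ψ hψ with h | h | h | h
          · exact Or.inl (hsame (hφa.mul ρ' hψb) h1 h)
          · exact Or.inr (Or.inl (hsame (hφa.mul ρ' hψb) hg1F h))
          · exact Or.inr (Or.inr (Or.inl (hsame (hφa.mul ρ' hψb) hxbF h)))
          · exact Or.inr (Or.inr (Or.inr (hsame (hφa.mul ρ' hψb) hxcF h)))
        inv_mem' := by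
          have h1 : Frames ρ' e (1 : MulAut V3) (1 : L) := fun v => by rw [map_one]; rfl
          rintro a (rfl | rfl | rfl | rfl)
          · exact Or.inl inv_one
          · exact Or.inr (Or.inl (inv_eq_of_mul_eq_one_right (hsame (hg1F.mul ρ' hg1F) h1 (by decide))))
          · exact Or.inr (Or.inr (Or.inl (inv_eq_of_mul_eq_one_right (hsame (hxbF.mul ρ' hxbF) h1 (by decide)))))
          · exact Or.inr (Or.inr (Or.inr (inv_eq_of_mul_eq_one_right (hsame (hxcF.mul ρ' hxcF) h1 (by decide))))) }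
    have hKker : ∀ {x : G}, x * x ∈ K0 → x * x ∈ π.ker := fun h => hS0le h.1
    have hsqH : ∀ h ∈ T.comap π, h * h ∈ K0 := by
      intro h hh
      rcases hh with h' | h' | h' | h'
      · refine hgenH 1 1 (fun v => by rw [map_one, map_one]; rfl) (by decide) (by rw [one_mul]; exact one_mem _)
          (by rw [one_mul]; exact one_mem _) h (h'.trans (map_one π).symm)
      · exact hgenH _ xa hg1F rr_sq_mul hxa2 (hKker hxa2) h h'
      · exact hgenH _ xb hxbF bb_mul hxb2 (hKker hxb2) h h'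
      · exact hgenH _ xc hxcF rb_mul hxc2 (hKker hxc2) h h'
    have hKT : K0 ≤ T.comap π := fun x hx => by
      show π x ∈ T
      rw [MonoidHom.mem_ker.1 (hS0le hx.1)]; exact one_mem T
    have hb := hsec (T.comap π) K0 hKT hsqH
    have hK8 : Nat.card K0 ≤ 8 := by
      obtain ⟨w0, hw0, hPw0⟩ := C'.surj (e (pt 1 0 0))
      have hsub : (K0 : Set G) ⊆ (F : Set G) ∪ (fun x => x * w0) '' (F : Set G) := by
        intro s hs
        rcases hs.2 with h | h
        · exact Or.inl ((C'.eq_one s hs.1).1 h)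
        · exact Or.inr ⟨s * w0⁻¹, C'.div_mem hs.1 hw0 (h.trans hPw0.symm), by group⟩
      have h := (Set.ncard_le_ncard hsub (Set.toFinite _)).trans ((Set.ncard_union_le _ _).trans
        (Nat.add_le_add le_rfl (Set.ncard_image_le (Set.toFinite _))))
      rw [← Nat.card_coe_set_eq, ← Nat.card_coe_set_eq] at h
      change Nat.card K0 ≤ Nat.card F + Nat.card F at h
      omega
    have hT4 : Nat.card T = 4 := by
      have h1 : Frames ρ' e (1 : MulAut V3) (1 : L) := fun v => by rw [map_one]; rfl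
      have sep : ∀ {φ ψ : MulAut V3} {a b : L}, Frames ρ' e φ a → Frames ρ' e ψ b → (¬ ∀ v, φ v = ψ v) → a ≠ b := by
        intro φ ψ a b ha hb hne h
        exact hne fun v => e.injective (by rw [← ha, ← hb, h])
      have a1 := sep h1 hg1F (by decide)
      have a2 := sep h1 hxbF (by decide)
      have a3 := sep h1 hxcF (by decide)
      have a4 := sep hg1F hxbF (by decide)
      have a5 := sep hg1F hxcF (by decide)
      have a6 := sep hxbF hxcF (by decide)
      refine (Nat.card_coe_set_eq _).trans ?_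
      show ({1, π xa, π xb, π xc} : Set L).ncard = 4
      rw [Set.ncard_insert_of_notMem (by simp only [Set.mem_insert_iff, Set.mem_singleton_iff, not_or]; exact ⟨a1, a2, a3⟩)
        (Set.toFinite _), Set.ncard_insert_of_notMem (by simp only [Set.mem_insert_iff, Set.mem_singleton_iff, not_or]; exact ⟨a4, a5⟩)
        (Set.toFinite _), Set.ncard_pair a6]
    have hH : Nat.card (T.comap π) = 256 := by
      have h1 := relIndex_mul_relIndex (⊥ : Subgroup G) π.ker (T.comap π) bot_le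
        (fun x hx => by show π x ∈ T; rw [MonoidHom.mem_ker.1 hx]; exact one_mem T)
      rw [relIndex_bot_left, relIndex_bot_left, relIndex_ker, map_comap_eq_self_of_surjective hπ, hT4] at h1
      have h2 := relIndex_mul_relIndex (⊥ : Subgroup G) F π.ker bot_le hFle
      rw [relIndex_bot_left, relIndex_bot_left, hFcard, hidx] at h2
      omega
    have h := relIndex_mul_relIndex (⊥ : Subgroup G) K0 (T.comap π) bot_le hKT
    rw [relIndex_bot_left, relIndex_bot_left, hH] at h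
    have := Nat.mul_le_mul hK8 hb
    omega
  -- no fixed vector outside
  push Not at hsplit
  let W := {v : V // ∀ s ∈ S0, P s ≠ v}
  let Q : G → Prop := fun g => ∀ m ∈ π.ker, m ∉ S0 → g * g * m * (g * g)⁻¹ * m⁻¹ ∉ F
  have hQ : ∀ g, g * g * (g * g) ∈ π.ker → g * g ∉ π.ker → Q g := by
    intro g hg4 hg2 m hm hmS hfix
    have hWinv : ∀ (l : L) (v : V), (∀ m ∈ S0, P m ≠ v) → ∀ m ∈ S0, P m ≠ ρ l v := by
      intro l v hv m hm h
      obtain ⟨g, rfl⟩ := hπ l
      refine hv _ (hcS g⁻¹ m hm) ?_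
      rw [C.equiv g⁻¹ m (hS0le hm), h, map_inv, map_inv, MulAut.inv_apply_self]
    letI : MulAction L W :=
      { smul := fun l v => ⟨ρ l v.1, hWinv l v.1 v.2⟩
        one_smul := fun v => Subtype.ext (by show ρ 1 v.1 = v.1; rw [map_one, MulAut.one_apply])
        mul_smul := fun a b v => Subtype.ext (by show ρ (a * b) v.1 = ρ a (ρ b v.1); rw [map_mul, MulAut.mul_apply]) }
    have hW8 : Nat.card W = 8 := by
      haveI := Fintype.ofFinite V
      let S : Subgroup V :=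
        { carrier := {v | ∃ m ∈ S0, P m = v}
          one_mem' := ⟨1, one_mem _, C.map_one⟩
          mul_mem' := by
            rintro _ _ ⟨a, ha, rfl⟩ ⟨b, hb, rfl⟩
            exact ⟨a * b, mul_mem ha hb, C.map_mul _ (hS0le ha) _ (hS0le hb)⟩
          inv_mem' := by
            rintro _ ⟨a, ha, rfl⟩
            exact ⟨a, ha, (inv_eq_of_mul_eq_one_right (C.v2 _)).symm⟩ }
      have hS : Nat.card S = 8 := by
        let φ : S0 →* V := MonoidHom.mk' (fun m => P m) fun a b => C.map_mul _ (hS0le a.2) _ (hS0le b.2)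
        have hk : φ.ker = F.subgroupOf S0 := by
          ext m
          rw [MonoidHom.mem_ker, mem_subgroupOf]
          exact C.eq_one m (hS0le m.2)
        have hr : φ.range = S := by
          ext v
          exact ⟨fun ⟨m, hm⟩ => ⟨m, m.2, hm⟩, fun ⟨m, hm, h⟩ => ⟨⟨m, hm⟩, h⟩⟩
        rw [← hr, ← index_ker, hk]
        exact hFS8
      have : Nat.card W = Nat.card {v : V // v ∉ S} := Nat.card_congr (Equiv.subtypeEquivRight fun v =>
        ⟨fun h ⟨m, hm, he⟩ => h m hm he, fun h m hm he => h ⟨m, hm, he⟩⟩)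
      rw [this, Nat.card_eq_fintype_card, Fintype.card_subtype_compl, ← Nat.card_eq_fintype_card,
        ← Nat.card_eq_fintype_card, hV, hS]
    have hmW : ∀ s ∈ S0, P s ≠ P m := by
      intro s hs h
      have := mul_mem (inv_mem (hFS (C.div_mem (hS0le hs) hm h))) hs
      rw [mul_inv_rev, inv_inv, mul_assoc, inv_mul_cancel, mul_one] at this
      exact hmS this
    have hfixP : ρ (π (g * g)) (P m) = P m := by
      rw [← C.equiv _ _ hm]
      have h1 := (C.eq_one _ (mul_mem (hcm _ m hm) (inv_mem hm))).2 hfix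
      rw [C.map_mul _ (hcm _ m hm) _ (inv_mem hm), C.map_inv hm, mul_eq_one_iff_eq_inv,
        inv_eq_of_mul_eq_one_right (C.v2 _)] at h1
      exact h1
    obtain ⟨⟨ū, hū⟩, hūfix⟩ := exists_fixed_point hL hW8 (s := π (g * g))
      (by rw [← map_mul]; exact MonoidHom.mem_ker.1 hg4) (fun h => hg2 (MonoidHom.mem_ker.2 h))
      (x := (⟨P m, hmW⟩ : W)) (Subtype.ext hfixP)
    obtain ⟨m', hm', rfl⟩ := C.surj ū
    obtain ⟨h, hne⟩ := hsplit m' hm' (fun h => hū m' h rfl)
    exact hne (C.div_mem (hcm h m' hm') hm' (by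
      rw [C.equiv h m' hm']; exact congrArg Subtype.val (hūfix (π h))))
  let K : Subgroup G :=
    { carrier := {s | s ∈ K0 ∧ s * s = 1}
      one_mem' := ⟨one_mem _, one_mul 1⟩
      mul_mem' := fun {a b} ha hb => ⟨mul_mem ha.1 hb.1, by
        rw [hsqmul a (hS0le ha.1.1) b (hS0le hb.1.1), ha.2, hb.2, one_mul]⟩
      inv_mem' := fun {a} ha => ⟨inv_mem ha.1, by rw [← mul_inv_rev, ha.2, inv_one]⟩ }
  have hKdef : ∀ s, s ∈ K ↔ s ∈ K0 ∧ s * s = 1 := fun s => Iff.rfl
  -- the step from one involution to the next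
  have step : ∀ (e' : V3 ≃* V') (y : G), e' (pt 1 0 0) = e (pt 1 0 0) → Frames ρ' e' bb (π y) → y * y ∈ S0 →
      ∃ g, Frames ρ' e' rr (π g) ∧ g * g * (g * g) ∈ K ∧ y * g * y⁻¹ * g ∈ S0 ∧
        ∃ w ∈ S0, P' w = e (pt 1 0 0) ∧ w * w = 1 ∧ g * g * w * (g * g)⁻¹ = w ∧ y * w * y⁻¹ = w := by
    intro e' y he' hy hy2
    obtain ⟨ge, hge⟩ := hlift (ps.trans e') rr
    set xe := ge * ge with hxe
    have hxeF : Frames ρ' e' (bb * rr) (π xe) := by
      intro v
      have h := hge.mul ρ' hge (ps.symm v)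
      rw [← map_mul, ← hxe] at h
      simpa [MulEquiv.trans_apply, ps_conj] using h
    set g := y⁻¹ * xe with hgdef
    have hg : Frames ρ' e' rr (π g) := by
      intro v
      rw [hgdef, map_mul, map_inv, map_mul, MulAut.mul_apply, hxeF, map_inv, MulAut.inv_def, MulEquiv.symm_apply_eq, hy]
      rfl
    have hfS := hf4 e' g hg
    have hfk := fourth_mem_ker hL ρ' hρ' hg
    set f := g * g * (g * g) with hfdef
    let c := g * (y * g * y⁻¹)
    have hcS0 : c ∈ S0 := by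
      have e1 : c = y⁻¹ * (xe * xe) * y * (y * y)⁻¹ := by simp only [c, hgdef]; group
      rw [e1]
      refine mul_mem ?_ (inv_mem hy2)
      simpa using hcS y⁻¹ _ (hf4 _ ge hge)
    have hyg : y * g * y⁻¹ * g ∈ S0 := by
      rw [show y * g * y⁻¹ * g = g⁻¹ * c * g⁻¹⁻¹ by simp only [c]; group]
      exact hcS g⁻¹ c hcS0
    have hσσ : ∀ a ∈ π.ker, f * a * f⁻¹ = a := fun a ha => by rw [hab f hfk.1 a ha, mul_inv_cancel_right]
    have hn : g * m1 * g⁻¹ * m1⁻¹ ∈ S0 := by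
      refine mem_subgroupOf.1 ((mul_mem_iff_of_index_two hS0idx).2
        ⟨fun h' => absurd ?_ hm1S, fun h' => absurd ?_ hm1S⟩ :
        (⟨g * m1 * g⁻¹, hcm g m1 hm1⟩ : π.ker) * (⟨m1, hm1⟩ : π.ker)⁻¹ ∈ S0.subgroupOf π.ker)
      · have := hcS g⁻¹ _ (mem_subgroupOf.1 h')
        change g⁻¹ * (g * m1 * g⁻¹) * g⁻¹⁻¹ ∈ S0 at this
        rwa [show g⁻¹ * (g * m1 * g⁻¹) * g⁻¹⁻¹ = m1 by group] at this
      · exact inv_mem_iff.1 (mem_subgroupOf.1 h')
    set n := g * m1 * g⁻¹ * m1⁻¹ with hndef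
    have hax : (e'.symm (P' n)).toAdd.2.2 ≠ 0 := by
      intro h0
      obtain ⟨v, hv⟩ := (rr_diff _).2 h0
      obtain ⟨s, hs, hPs⟩ := C'.surj (e' v)
      have hsk := hS0le hs
      have hms : m1 * s ∈ π.ker := mul_mem hm1 hsk
      have hmsS : m1 * s ∉ S0 := fun h => hm1S (by
        have := mul_mem h (inv_mem hs); rwa [mul_inv_cancel_right] at this)
      have hd : g * (m1 * s) * g⁻¹ * (m1 * s)⁻¹ ∈ F := by
        have e1 : g * (m1 * s) * g⁻¹ * (m1 * s)⁻¹ = n * (g * s * g⁻¹ * s⁻¹) := by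
          calc g * (m1 * s) * g⁻¹ * (m1 * s)⁻¹ = g * m1 * g⁻¹ * ((g * s * g⁻¹ * s⁻¹) * m1⁻¹) := by group
            _ = g * m1 * g⁻¹ * (m1⁻¹ * (g * s * g⁻¹ * s⁻¹)) := by
              rw [hab _ (mul_mem (hcm g s hsk) (inv_mem hsk)) _ (inv_mem hm1)]
            _ = _ := by rw [hndef]; group
        rw [e1, ← C'.eq_one _ (mul_mem hn (mul_mem (hcS g s hs) (inv_mem hs))),
          C'.map_mul _ hn _ (mul_mem (hcS g s hs) (inv_mem hs)), C'.map_mul _ (hcS g s hs) _ (inv_mem hs),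
          C'.map_inv hs, C'.equiv g s hs, hPs, hg, ← MulEquiv.map_mul, hv, MulEquiv.apply_symm_apply, C'.v2]
      refine hQ g hfk.1 hfk.2 _ hms hmsS ?_
      rw [show g * g * (m1 * s) * (g * g)⁻¹ * (m1 * s)⁻¹ =
        g * (g * (m1 * s) * g⁻¹ * (m1 * s)⁻¹) * g⁻¹ * (g * (m1 * s) * g⁻¹ * (m1 * s)⁻¹) by group,
        hFc g _ hd, mul_inv_cancel_right]
      exact mul_mem hd hd
    let N4 : G → G := fun a => a * (g * a * g⁻¹) * (g * g * a * (g * g)⁻¹) * (g * g * g * a * (g * g * g)⁻¹)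
    have hN4mul : ∀ a ∈ π.ker, ∀ b ∈ π.ker, N4 (a * b) = N4 a * N4 b := by
      intro a ha b hb
      have h4 : ∀ p q r s p' q' r' s', p' ∈ π.ker → q ∈ π.ker → r ∈ π.ker → s ∈ π.ker → q' ∈ π.ker → r' ∈ π.ker →
          (p * p') * (q * q') * (r * r') * (s * s') = p * q * r * s * (p' * q' * r' * s') := by
        intro p q r s p' q' r' s' hp' hq hr hs hq' hr'
        calc (p * p') * (q * q') * (r * r') * (s * s') = p * (p' * q) * (q' * r) * (r' * s) * s' := by group
          _ = p * (q * p') * (r * q') * (s * r') * s' := by rw [hab p' hp' q hq, hab q' hq' r hr, hab r' hr' s hs]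
          _ = p * q * (p' * r) * (q' * s) * r' * s' := by group
          _ = p * q * (r * p') * (s * q') * r' * s' := by rw [hab p' hp' r hr, hab q' hq' s hs]
          _ = p * q * r * (p' * s) * q' * r' * s' := by group
          _ = p * q * r * (s * p') * q' * r' * s' := by rw [hab p' hp' s hs]
          _ = _ := by group
      show a * b * (g * (a * b) * g⁻¹) * (g * g * (a * b) * (g * g)⁻¹) * (g * g * g * (a * b) * (g * g * g)⁻¹) = _
      rw [← conj_mul (a := a) (b := g), ← conj_mul (a := a) (b := g * g), ← conj_mul (a := a) (b := g * g * g)]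
      exact h4 _ _ _ _ _ _ _ _ hb (hcm _ a ha) (hcm _ a ha) (hcm _ a ha) (hcm _ b hb) (hcm _ b hb)
    have hN4diff : ∀ b ∈ π.ker, N4 (g * b * g⁻¹ * b⁻¹) = 1 := by
      intro b hb
      have h1 := hN4mul _ (mul_mem (hcm g b hb) (inv_mem hb)) b hb
      rw [inv_mul_cancel_right] at h1
      have h2 : N4 (g * b * g⁻¹) = N4 b := by
        show g * b * g⁻¹ * (g * (g * b * g⁻¹) * g⁻¹) * (g * g * (g * b * g⁻¹) * (g * g)⁻¹) *
          (g * g * g * (g * b * g⁻¹) * (g * g * g)⁻¹) = _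
        calc g * b * g⁻¹ * (g * (g * b * g⁻¹) * g⁻¹) * (g * g * (g * b * g⁻¹) * (g * g)⁻¹) *
              (g * g * g * (g * b * g⁻¹) * (g * g * g)⁻¹)
            = g * b * g⁻¹ * (g * g * b * (g * g)⁻¹) * (g * g * g * b * (g * g * g)⁻¹) * (f * b * f⁻¹) := by
              rw [hfdef]; group
          _ = b * (g * b * g⁻¹ * (g * g * b * (g * g)⁻¹) * (g * g * g * b * (g * g * g)⁻¹)) := by
            rw [hσσ b hb, hab b hb _ (mul_mem (mul_mem (hcm _ b hb) (hcm _ b hb)) (hcm _ b hb))]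
          _ = N4 b := by simp only [N4]; group
      rw [h2] at h1
      exact mul_eq_right.1 h1.symm
    have hN4F : ∀ x ∈ F, N4 x = 1 := by
      intro x hx
      show x * (g * x * g⁻¹) * (g * g * x * (g * g)⁻¹) * (g * g * g * x * (g * g * g)⁻¹) = 1
      rw [hFc g x hx, mul_inv_cancel_right, hFc (g * g) x hx, mul_inv_cancel_right, hFc (g * g * g) x hx,
        mul_inv_cancel_right, show x * x * x * x = x * x * (x * x) by group, hF4 x hx]
    have hN4S : ∀ s ∈ S0, N4 s = 1 := by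
      have key : ∀ s ∈ S0, (e'.symm (P' s)).toAdd.2.2 = 0 → N4 s = 1 := by
        intro s hs h0
        obtain ⟨v, hv⟩ := (rr_diff _).2 h0
        obtain ⟨t, ht, hPt⟩ := C'.surj (e' v)
        have htt : g * t * g⁻¹ * t⁻¹ ∈ S0 := mul_mem (hcS g t ht) (inv_mem ht)
        have hF' : s * (g * t * g⁻¹ * t⁻¹)⁻¹ ∈ F := C'.div_mem hs htt (by
          rw [C'.map_mul _ (hcS g t ht) _ (inv_mem ht), C'.map_inv ht, C'.equiv g t ht, hPt, hg,
            ← MulEquiv.map_mul, hv, MulEquiv.apply_symm_apply])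
        rw [show s = s * (g * t * g⁻¹ * t⁻¹)⁻¹ * (g * t * g⁻¹ * t⁻¹) by group,
          hN4mul _ (hFle hF') _ (hS0le htt), hN4F _ hF', hN4diff t (hS0le ht), one_mul]
      intro s hs
      by_cases h0 : (e'.symm (P' s)).toAdd.2.2 = 0
      · exact key s hs h0
      · have h1 : (e'.symm (P' (s * n⁻¹))).toAdd.2.2 = 0 := by
          rw [C'.map_mul _ hs _ (inv_mem hn), C'.map_inv hn, MulEquiv.map_mul]
          exact (by decide : ∀ a b : V3, a.toAdd.2.2 ≠ 0 → b.toAdd.2.2 ≠ 0 → (a * b).toAdd.2.2 = 0) _ _ h0 hax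
        rw [show s = s * n⁻¹ * n by group, hN4mul _ (hS0le (mul_mem hs (inv_mem hn))) _ (hS0le hn),
          key _ (mul_mem hs (inv_mem hn)) h1, hN4diff m1 hm1, one_mul]
    obtain ⟨k, hk, hPk⟩ := C'.surj (e' (pt 0 0 1))
    have hkk := hS0le hk
    set w := g * g * k * (g * g)⁻¹ * k with hw
    have hwS : w ∈ S0 := mul_mem (hcS _ k hk) hk
    have hg2 : Frames ρ' e' (rr * rr) (π (g * g)) := by rw [map_mul]; exact hg.mul ρ' hg
    have hPw : P' w = e (pt 1 0 0) := by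
      rw [hw, C'.map_mul _ (hcS _ k hk) _ hk, C'.equiv _ k hk, hPk, hg2, ← MulEquiv.map_mul, ← he']
      rfl
    have hw2 : w * w = 1 := by
      rw [hw, hsqmul _ (hcm _ k hkk) k hkk, hsqfix _ k hkk, hS4 k hk]
    have hσw : g * g * w * (g * g)⁻¹ = w := by
      calc g * g * (g * g * k * (g * g)⁻¹ * k) * (g * g)⁻¹
          = f * k * f⁻¹ * (g * g * k * (g * g)⁻¹) := by rw [hfdef]; group
        _ = k * (g * g * k * (g * g)⁻¹) := by rw [hσσ k hkk]
        _ = w := hab _ hkk _ (hcm _ k hkk)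
    have hφw : g * w * g⁻¹ = w := by
      have h1 : g * w * g⁻¹ * w = 1 := by
        rw [← hN4S k hk]
        show g * (g * g * k * (g * g)⁻¹ * k) * g⁻¹ * (g * g * k * (g * g)⁻¹ * k) =
          k * (g * k * g⁻¹) * (g * g * k * (g * g)⁻¹) * (g * g * g * k * (g * g * g)⁻¹)
        calc g * (g * g * k * (g * g)⁻¹ * k) * g⁻¹ * (g * g * k * (g * g)⁻¹ * k)
            = (g * g * g * k * (g * g * g)⁻¹) * ((g * k * g⁻¹) * (g * g * k * (g * g)⁻¹) * k) := by group
          _ = ((g * k * g⁻¹) * (g * g * k * (g * g)⁻¹) * k) * (g * g * g * k * (g * g * g)⁻¹) :=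
            hab _ (hcm _ k hkk) _ (mul_mem (mul_mem (hcm g k hkk) (hcm _ k hkk)) hkk)
          _ = _ := by rw [hab _ (mul_mem (hcm g k hkk) (hcm _ k hkk)) k hkk]; group
      rw [eq_inv_of_mul_eq_one_left h1, inv_eq_of_mul_eq_one_right hw2]
    have hyw : y * w * y⁻¹ = w := by
      obtain ⟨v, hv⟩ := e'.surjective (P' (y * k * y⁻¹))
      have hf0 : y * k * y⁻¹ * k⁻¹ ∈ F := C'.div_mem (hcS y k hk) hk (by
        rw [C'.equiv y k hk, hPk, hy]; rfl)
      set f0 := y * k * y⁻¹ * k⁻¹ with hf0def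
      have hf02 : f0 * f0 = 1 := by
        rw [hf0def, hsqmul _ (hcm y k hkk) _ (inv_mem hkk), hsqfix y k hkk, ← mul_inv_rev, mul_inv_cancel]
      have hbk : y * k * y⁻¹ = f0 * k := by rw [hf0def]; group
      have hcy : ∀ a ∈ π.ker, y * (g * g * a * (g * g)⁻¹) * y⁻¹ = g * g * (y * a * y⁻¹) * (g * g)⁻¹ := by
        intro a ha
        have hq : (g * g)⁻¹ * (y * (g * g) * y⁻¹) ∈ π.ker := by
          refine hsame1 (e := e') (φ := (rr * rr)⁻¹ * (bb * (rr * rr) * bb⁻¹)) ?_ (by decide)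
          rw [map_mul π (g * g)⁻¹, map_inv π, map_mul π (y * (g * g)), map_mul π y, map_inv π]
          exact (hg2.inv ρ').mul ρ' ((hy.mul ρ' hg2).mul ρ' (hy.inv ρ'))
        set q := (g * g)⁻¹ * (y * (g * g) * y⁻¹) with hqdef
        calc y * (g * g * a * (g * g)⁻¹) * y⁻¹ = g * g * (q * (y * a * y⁻¹) * q⁻¹) * (g * g)⁻¹ := by rw [hqdef]; group
          _ = _ := by rw [hab q hq _ (hcm y a ha), mul_inv_cancel_right]
      calc y * w * y⁻¹ = y * (g * g * k * (g * g)⁻¹) * y⁻¹ * (y * k * y⁻¹) := by rw [hw]; group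
        _ = (g * g * f0 * (g * g)⁻¹) * ((g * g * k * (g * g)⁻¹) * f0) * k := by rw [hcy k hkk, hbk]; group
        _ = f0 * (f0 * (g * g * k * (g * g)⁻¹)) * k := by
          rw [hFc (g * g) f0 hf0, mul_inv_cancel_right, hFc _ f0 hf0]
        _ = f0 * f0 * (g * g * k * (g * g)⁻¹ * k) := by group
        _ = w := by rw [hf02, one_mul]
    refine ⟨g, hg, ?_, hyg, w, hwS, hPw, hw2, hσw, hyw⟩
    have hPf := hfixP e' g hg
    rw [he'] at hPf
    refine ⟨⟨hfS, hPf⟩, ?_⟩
    -- `y` fixes and inverts the fourth power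
    have hyf : y * f * y⁻¹ = f := by
      rcases hPf with h | h
      · rw [hFc y f ((C'.eq_one f hfS).1 h), mul_inv_cancel_right]
      · have hF' : f * w⁻¹ ∈ F := C'.div_mem hfS hwS (h.trans hPw.symm)
        calc y * f * y⁻¹ = y * (f * w⁻¹) * y⁻¹ * (y * w * y⁻¹) := by group
          _ = f := by rw [hFc y _ hF', mul_inv_cancel_right, hyw, inv_mul_cancel_right]
    have hinv : y * f * y⁻¹ = f⁻¹ := by
      have hck := hS0le hcS0
      have e1 : y * f * y⁻¹ = f⁻¹ * (g * g * g * c * (g * g * g)⁻¹ * (g * g * c * (g * g)⁻¹) * (g * c * g⁻¹) * c) := by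
        rw [hfdef]
        calc y * (g * g * (g * g)) * y⁻¹ = (g⁻¹ * c) * (g⁻¹ * c) * ((g⁻¹ * c) * (g⁻¹ * c)) := by simp only [c]; group
          _ = _ := by group
      have e2 : g * g * g * c * (g * g * g)⁻¹ * (g * g * c * (g * g)⁻¹) * (g * c * g⁻¹) * c = N4 c := by
        simp only [N4]
        rw [hab _ (mul_mem (mul_mem (hcm _ c hck) (hcm _ c hck)) (hcm g c hck)) c hck,
          hab (g * g * g * c * (g * g * g)⁻¹) (hcm _ c hck) _ (hcm _ c hck),
          mul_assoc (g * g * c * (g * g)⁻¹), hab (g * g * g * c * (g * g * g)⁻¹) (hcm _ c hck) _ (hcm _ c hck),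
          ← mul_assoc (g * g * c * (g * g)⁻¹), hab (g * g * c * (g * g)⁻¹) (hcm _ c hck) _ (hcm _ c hck)]
        group
      rw [e1, e2, hN4S c hcS0, mul_one]
    rw [hyf] at hinv
    show f * f = 1
    nth_rewrite 1 [hinv]
    rw [inv_mul_cancel]
  have hg1y : Frames ρ' (sw.trans e) bb (π (g1 * g1)) := by
    intro v
    have := hg1F (sw v)
    show ρ' (π (g1 * g1)) (e (sw v)) = e (sw (bb v))
    rw [this, ← sw_conj, hswsw]; rfl
  obtain ⟨gy, hgy, hy4, -, -⟩ := step (sw.trans e) (g1 * g1) hsw1 hg1y (hf4 e g1 hg1)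
  set y := gy * gy with hydef
  have hyF : Frames ρ' e bb (π y) := by
    intro v
    have h := hgy.mul ρ' hgy (sw v)
    rw [← map_mul] at h
    simp only [MulEquiv.trans_apply, hswsw] at h
    rw [hydef, h]
    exact congrArg e (sw_conj v)
  obtain ⟨g, hg, hx4, hyg, w, hwS, hPw, hw2, hσw, hyw⟩ := step e y rfl hyF hy4.1.1
  set x := g * g with hxdef
  have hxF : Frames ρ' e (rr * rr) (π x) := by rw [hxdef, map_mul]; exact hg.mul ρ' hg
  have hKsub : (K : Set G) ⊆ (U : Set G) ∪ (fun a => a * w) '' (U : Set G) := by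
    intro s hs
    rcases hs.1.2 with h | h
    · exact Or.inl (hFU s ((C'.eq_one s hs.1.1).1 h) hs.2)
    · refine Or.inr ⟨s * w⁻¹, hFU _ (C'.div_mem hs.1.1 hwS (h.trans hPw.symm)) ?_, by group⟩
      rw [hsqmul _ (hS0le hs.1.1) _ (inv_mem (hS0le hwS)), hs.2, one_mul, ← mul_inv_rev, hw2, inv_one]
  have hKfix : ∀ h : G, h * w * h⁻¹ = w → ∀ k ∈ K, h * k = k * h := by
    intro h hh k hk
    rcases hKsub hk with hk' | ⟨a, ha, rfl⟩
    · exact hUc h k hk'
    · calc h * (a * w) = (h * a) * w := by group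
        _ = a * h * w := by rw [hUc h a ha]
        _ = a * (h * w * h⁻¹) * h := by group
        _ = a * w * h := by rw [hh]
  set z0 := g * y * g⁻¹ with hz0
  have hgK : ∀ k ∈ K, g * k * g⁻¹ ∈ K := by
    intro k hk
    refine ⟨⟨hcS g k hk.1.1, ?_⟩, by rw [conj_mul, hk.2, mul_one, mul_inv_cancel]⟩
    rw [C'.equiv g k hk.1.1]
    rcases hk.1.2 with h | h <;> rw [h]
    · exact Or.inl (map_one _)
    · rw [hg, (rr_fix _).2 (Or.inr rfl)]; exact Or.inr rfl
  have hz02 : z0 * z0 ∈ K := by rw [hz0, conj_mul]; exact hgK _ hy4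
  have hz0F : Frames ρ' e (rr * rr * bb) (π z0) := by
    intro v
    rw [hz0, map_mul π, map_mul π, map_inv π, ((hg.mul ρ' hyF).mul ρ' (hg.inv ρ')) v]
    exact congrArg e (rr_bb v)
  have hnormK : ∀ (φ : MulAut V3) (h : G), Frames ρ' e φ (π h) → (∀ v, φ v * v = 1 ∨ φ v * v = pt 1 0 0) →
      ∀ s ∈ S0, h * s * h⁻¹ * s ∈ K := fun φ h hh hφ s hs =>
    ⟨hnorm φ h hh hφ s hs, by rw [hsqmul _ (hcm h s (hS0le hs)) _ (hS0le hs), hsqfix h s (hS0le hs), hS4 s hs]⟩
  have hsqn : ∀ (h s : G), h * h ∈ K → s ∈ S0 → h * s * h⁻¹ * s ∈ K → h * s * (h * s) ∈ K := by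
    intro h s h1 hs h3
    rw [show h * s * (h * s) = h * s * h⁻¹ * ((h * h) * s) by group, hab _ (hS0le h1.1.1) s (hS0le hs),
      show h * s * h⁻¹ * (s * (h * h)) = h * s * h⁻¹ * s * (h * h) by group]
    exact mul_mem h3 h1
  have hsK : ∀ s ∈ S0, s * s ∈ K := fun s hs => ⟨⟨mul_mem hs hs, Or.inl (by
    rw [C'.map_mul _ hs _ hs, C'.v2])⟩, hS4 s hs⟩
  have hxy2 : x * y * (x * y) ∈ K := by
    have hn : z0⁻¹ * (x * y) ∈ S0 := by
      rw [hz0, hxdef, show (g * y * g⁻¹)⁻¹ * (g * g * y) = g * (y * y)⁻¹ * g⁻¹ * (g * (y * g * y⁻¹ * g) * g⁻¹) *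
        (g * (g⁻¹ * (y * y) * g⁻¹⁻¹) * g⁻¹) by group]
      exact mul_mem (mul_mem (hcS g _ (inv_mem hy4.1.1)) (hcS g _ hyg)) (hcS g _ (hcS g⁻¹ _ hy4.1.1))
    have h := hsqn z0 _ hz02 hn (hnormK _ z0 hz0F rb_mul _ hn)
    rwa [mul_inv_cancel_left] at h
  let S : Set G := {h | h ∈ S0 ∨ h = x ∨ h = y}
  have hSK : ∀ a ∈ S, ∀ k ∈ K, a * k = k * a := by
    rintro a (ha | rfl | rfl) k hk
    · exact hab a (hS0le ha) k (hS0le hk.1.1)
    · exact hKfix _ hσw k hk
    · exact hKfix _ hyw k hk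
  have hSsq : ∀ a ∈ S, a * a ∈ K := by
    rintro a (ha | rfl | rfl)
    exacts [hsK a ha, hx4, hy4]
  have hflip : ∀ a b : G, a * b * a⁻¹ * b⁻¹ ∈ K → b * a * b⁻¹ * a⁻¹ ∈ K := by
    intro a b h
    have := inv_mem h
    rwa [show (a * b * a⁻¹ * b⁻¹)⁻¹ = b * a * b⁻¹ * a⁻¹ by group] at this
  have hpair : ∀ a b : G, a * a ∈ K → b * b ∈ K → a * b * (a * b) ∈ K →
      (∀ k ∈ K, b * k = k * b) → a * b * a⁻¹ * b⁻¹ ∈ K := by
    intro a b ha hb hab' hbK
    rw [show a * b * a⁻¹ * b⁻¹ = (a * b * (a * b)) * (b⁻¹ * ((a * a)⁻¹ * b)) * (b * b)⁻¹ by group,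
      ← hbK _ (inv_mem ha), inv_mul_cancel_left]
    exact mul_mem (mul_mem hab' (inv_mem ha)) (inv_mem hb)
  have hScomm : ∀ a ∈ S, ∀ b ∈ S, a * b * a⁻¹ * b⁻¹ ∈ K := by
    have hxy' : x * y * x⁻¹ * y⁻¹ ∈ K := hpair x y hx4 hy4 hxy2 (hSK y (Or.inr (Or.inr rfl)))
    have hxT : ∀ s ∈ S0, x * s * x⁻¹ * s⁻¹ ∈ K := fun s hs =>
      hpair x s hx4 (hsK s hs) (hsqn x s hx4 hs (hnormK _ x hxF rr_sq_mul s hs)) (hSK s (Or.inl hs))
    have hyT : ∀ s ∈ S0, y * s * y⁻¹ * s⁻¹ ∈ K := fun s hs =>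
      hpair y s hy4 (hsK s hs) (hsqn y s hy4 hs (hnormK _ y hyF bb_mul s hs)) (hSK s (Or.inl hs))
    have hself : ∀ a : G, a * a * a⁻¹ * a⁻¹ ∈ K := fun a => by
      rw [show a * a * a⁻¹ * a⁻¹ = 1 by group]; exact one_mem _
    rintro a (ha | rfl | rfl) b (hb | rfl | rfl)
    · rw [hab a (hS0le ha) b (hS0le hb), mul_inv_cancel_right, mul_inv_cancel]; exact one_mem _
    · exact hflip _ _ (hxT a ha)
    · exact hflip _ _ (hyT a ha)
    · exact hxT b hb
    · exact hself _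
    · exact hxy'
    · exact hyT b hb
    · exact hflip _ _ hxy'
    · exact hself _
  have hKle : K ≤ closure S := fun k hk => subset_closure (Or.inl hk.1.1)
  have hb := hsec (closure S) K hKle (squares_of_closure S K hSK hSsq hScomm)
  have hK4 : Nat.card K ≤ 4 := by
    have h := (Set.ncard_le_ncard hKsub (Set.toFinite _)).trans ((Set.ncard_union_le _ _).trans
      (Nat.add_le_add le_rfl (Set.ncard_image_le (Set.toFinite _))))
    rw [← Nat.card_coe_set_eq, ← Nat.card_coe_set_eq] at h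
    change Nat.card K ≤ Nat.card U + Nat.card U at h
    omega
  have hH : 128 ≤ Nat.card (closure S) := by
    let φ : closure S →* L := π.comp (closure S).subtype
    have h1 := card_mul_index φ.ker
    rw [index_ker] at h1
    have h32 : Nat.card S0 ≤ Nat.card φ.ker :=
      Nat.card_le_card_of_injective (fun m : S0 => (⟨⟨m, subset_closure (Or.inl m.2)⟩, MonoidHom.mem_ker.2
        (MonoidHom.mem_ker.1 (hS0le m.2))⟩ : φ.ker)) fun a b h => Subtype.ext
          (congrArg (fun z : φ.ker => ((z : closure S) : G)) h)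
    have h4 : 4 ≤ Nat.card φ.range := by
      have hmem : ∀ h ∈ closure S, π h ∈ φ.range := fun h hh => ⟨⟨h, hh⟩, rfl⟩
      have hx' : x ∈ closure S := subset_closure (Or.inr (Or.inl rfl))
      have hy' : y ∈ closure S := subset_closure (Or.inr (Or.inr rfl))
      have hsub : ({1, π x, π y, π (x * y)} : Set L) ⊆ (φ.range : Set L) := by
        rintro l (rfl | rfl | rfl | rfl)
        exacts [one_mem _, hmem _ hx', hmem _ hy', hmem _ (mul_mem hx' hy')]
      refine le_trans (le_of_eq ?_) ((Set.ncard_le_ncard hsub (Set.toFinite _)).trans_eq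
        (Nat.card_coe_set_eq _).symm)
      have hzF : Frames ρ' e (rr * rr * bb) (π (x * y)) := by rw [map_mul]; exact hxF.mul ρ' hyF
      have h1F : Frames ρ' e (1 : MulAut V3) (1 : L) := fun v => by rw [map_one]; rfl
      have sep : ∀ {φ ψ : MulAut V3} {a b : L}, Frames ρ' e φ a → Frames ρ' e ψ b → (¬ ∀ v, φ v = ψ v) → a ≠ b := by
        intro φ ψ a b ha hb hne h
        exact hne fun v => e.injective (by rw [← ha, ← hb, h])
      have a1 := sep h1F hxF (by decide)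
      have a2 := sep h1F hyF (by decide)
      have a3 := sep h1F hzF (by decide)
      have a4 := sep hxF hyF (by decide)
      have a5 := sep hxF hzF (by decide)
      have a6 := sep hyF hzF (by decide)
      rw [Set.ncard_insert_of_notMem (by simp only [Set.mem_insert_iff, Set.mem_singleton_iff, not_or]; exact ⟨a1, a2, a3⟩)
        (Set.toFinite _), Set.ncard_insert_of_notMem (by simp only [Set.mem_insert_iff, Set.mem_singleton_iff, not_or]; exact ⟨a4, a5⟩)
        (Set.toFinite _), Set.ncard_pair a6]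
    rw [← h1]
    calc 128 = 32 * 4 := rfl
      _ ≤ Nat.card φ.ker * Nat.card φ.range := Nat.mul_le_mul (hS0card ▸ h32) h4
  have h := relIndex_mul_relIndex (⊥ : Subgroup G) K (closure S) bot_le hKle
  rw [relIndex_bot_left, relIndex_bot_left] at h
  have := Nat.mul_le_mul hK4 hb
  omega

end CfsgLib.RankFourLinear
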