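import Cfsg.Agent.Lib.InvChar.RankFourLinear.Module
import Cfsg.Agent.Lib.InvChar.RankFourAltFive.Section

/-!
# Coordinates on a section of the kernel
-/

set_option autoImplicit false
set_option linter.style.haveILetI false
set_option linter.unusedSectionVars false

open Subgroup

universe u v

namespace CfsgLib.RankFourLinear

variable {G : Type u} [Group G] [Finite G] {L : Type v} [Group L] [Finite L] (π : G →* L)

/-- `P` identifies `M` modulo `U` with the module `V`, compatibly with conjugation. -/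
structure Coord {V : Type u} [CommGroup V] (M U : Subgroup G) (ρ : L →* MulAut V) (P : G → V) : Prop where
  le : U ≤ M
  normal : M.Normal
  normal' : U.Normal
  map_mul : ∀ a ∈ M, ∀ b ∈ M, P (a * b) = P a * P b
  surj : ∀ v, ∃ m ∈ M, P m = v
  eq_one : ∀ m ∈ M, (P m = 1 ↔ m ∈ U)
  v2 : ∀ v : V, v * v = 1
  card : Nat.card V = U.relIndex M
  equiv : ∀ g, ∀ m ∈ M, P (g * m * g⁻¹) = ρ (π g) (P m)

variable {π}
variable {V : Type u} [CommGroup V] {M U : Subgroup G} {ρ : L →* MulAut V} {P : G → V} (C : Coord π M U ρ P)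

include C

theorem Coord.map_one : P 1 = 1 := (C.eq_one 1 (one_mem M)).2 (one_mem U)

theorem Coord.map_inv {m : G} (hm : m ∈ M) : P m⁻¹ = P m := by
  have h := C.map_mul m hm m⁻¹ (inv_mem hm)
  rw [mul_inv_cancel, C.map_one] at h
  rw [← inv_eq_of_mul_eq_one_right h.symm, inv_eq_of_mul_eq_one_right (C.v2 _)]

theorem Coord.div_mem {a b : G} (ha : a ∈ M) (hb : b ∈ M) (h : P a = P b) : a * b⁻¹ ∈ U := by
  rw [← C.eq_one _ (mul_mem ha (inv_mem hb)), C.map_mul _ ha _ (inv_mem hb), C.map_inv hb, h, C.v2]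

theorem Coord.sq_mem {m : G} (hm : m ∈ M) : m * m ∈ U := by
  rw [← C.eq_one _ (mul_mem hm hm), C.map_mul _ hm _ hm, C.v2]

theorem Coord.conj_mem {m : G} (hm : m ∈ M) (g : G) : g * m * g⁻¹ ∈ M := C.normal.conj_mem m hm g

theorem Coord.frames {e : V3 ≃* V} {φ : MulAut V3} {g : G} (hg : Frames ρ e φ (π g)) {m : G} (hm : m ∈ M) :
    e.symm (P (g * m * g⁻¹)) = φ (e.symm (P m)) := by
  rw [MulEquiv.symm_apply_eq, C.equiv g m hm, ← hg, MulEquiv.apply_symm_apply]

omit C

/-- Existence of coordinates. -/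
theorem exists_coord (hπ : Function.Surjective π) (M U : Subgroup G) [M.Normal] [U.Normal] (hU : U ≤ M)
    (hsq : ∀ m ∈ M, m * m ∈ U) (htriv : ∀ c ∈ π.ker, ∀ m ∈ M, c * m * c⁻¹ * m⁻¹ ∈ U) :
    ∃ (V : Type u) (_ : CommGroup V) (_ : Finite V) (ρ : L →* MulAut V) (P : G → V), Coord π M U ρ P := by
  classical
  let N : Subgroup M := U.subgroupOf M
  have h2 : ∀ v : M ⧸ N, v * v = 1 := fun v => by
    induction v using QuotientGroup.induction_on with
    | _ x => exact (QuotientGroup.eq_one_iff _).2 (mem_subgroupOf.2 (hsq _ x.2))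
  have hcomm : ∀ a b : M ⧸ N, a * b = b * a := fun a b => by
    have ha := inv_eq_of_mul_eq_one_right (h2 a)
    have hb := inv_eq_of_mul_eq_one_right (h2 b)
    have hab := inv_eq_of_mul_eq_one_right (h2 (a * b))
    rw [mul_inv_rev, ha, hb] at hab
    exact hab.symm
  letI iV : CommGroup (M ⧸ N) := { (inferInstance : Group (M ⧸ N)) with mul_comm := hcomm }
  have hle : ∀ g : G, N.map (MulAut.conjNormal g : MulAut M).toMonoidHom ≤ N := fun g => by
    rintro _ ⟨x, hx, rfl⟩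
    refine mem_subgroupOf.2 ?_
    show ((MulAut.conjNormal g x : M) : G) ∈ U
    rw [MulAut.conjNormal_apply]
    exact Normal.conj_mem ‹U.Normal› _ (mem_subgroupOf.1 hx) g
  have hmap : ∀ g : G, N.map (MulAut.conjNormal g : MulAut M).toMonoidHom = N := fun g => by
    refine le_antisymm (hle g) fun y hy =>
      ⟨(MulAut.conjNormal g : MulAut M)⁻¹ y, ?_, MulAut.apply_inv_self _ _ _⟩
    rw [← map_inv]
    exact hle g⁻¹ ⟨y, hy, rfl⟩
  let act : G →* MulAut (M ⧸ N) :=
    MonoidHom.mk' (fun g => QuotientGroup.congr _ _ (MulAut.conjNormal g) (hmap g)) (fun g h => by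
      refine MulEquiv.ext fun v => ?_
      induction v using QuotientGroup.induction_on with
      | _ v =>
        show QuotientGroup.mk ((MulAut.conjNormal (g * h) : MulAut M) v) =
          QuotientGroup.mk ((MulAut.conjNormal g : MulAut M) ((MulAut.conjNormal h : MulAut M) v))
        rw [map_mul, MulAut.mul_apply])
  have hker : π.ker ≤ act.ker := by
    intro g hg
    refine MonoidHom.mem_ker.2 (MulEquiv.ext fun v => ?_)
    induction v using QuotientGroup.induction_on with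
    | _ v =>
      show (QuotientGroup.mk ((MulAut.conjNormal g : MulAut M) v) : M ⧸ N) = QuotientGroup.mk v
      have hm : ((MulAut.conjNormal g v : M) * v⁻¹) ∈ N := mem_subgroupOf.2 (by
        rw [Subgroup.coe_mul, Subgroup.coe_inv, MulAut.conjNormal_apply]; exact htriv g hg v v.2)
      rw [← mul_inv_eq_one, ← QuotientGroup.mk_inv, ← QuotientGroup.mk_mul]
      exact (QuotientGroup.eq_one_iff _).2 hm
  let ρ : L →* MulAut (M ⧸ N) := π.liftOfSurjective hπ ⟨act, hker⟩
  have hρ : ∀ g, ρ (π g) = act g := fun g => by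
    simp [ρ]
  refine ⟨M ⧸ N, iV, inferInstance, ρ, fun g => if h : g ∈ M then QuotientGroup.mk' N ⟨g, h⟩ else 1,
    ⟨hU, ‹_›, ‹_›, fun a ha b hb => ?_, fun v => ?_, fun m hm => ?_, h2, rfl, fun g m hm => ?_⟩⟩
  · simp only [dif_pos ha, dif_pos hb, dif_pos (mul_mem ha hb)]
    exact map_mul (QuotientGroup.mk' N) ⟨a, ha⟩ ⟨b, hb⟩
  · obtain ⟨x, rfl⟩ := QuotientGroup.mk'_surjective N v
    exact ⟨x, x.2, by simp only [dif_pos x.2]⟩
  · simp only [dif_pos hm]
    exact (QuotientGroup.eq_one_iff (⟨m, hm⟩ : M)).trans mem_subgroupOf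
  · simp only [dif_pos hm, dif_pos (Normal.conj_mem ‹M.Normal› m hm g)]
    rw [hρ]
    exact congrArg _ (Subtype.ext (MulAut.conjNormal_apply g (⟨m, hm⟩ : M)).symm)

/-- The coordinate action is nontrivial when some element moves the section. -/
theorem Coord.ne_one (C : Coord π M U ρ P) (h : ∃ g, ∃ m ∈ M, g * m * g⁻¹ * m⁻¹ ∉ U) : ρ ≠ 1 := by
  rintro rfl
  obtain ⟨g, m, hm, hne⟩ := h
  refine hne (C.div_mem (C.conj_mem hm g) hm ?_)
  rw [C.equiv g m hm]
  rfl

/-- Squares commuting with everything give commuting elements modulo them. -/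
theorem squares_of_closure (s : Set G) (K : Subgroup G) (hK : ∀ a ∈ s, ∀ k ∈ K, a * k = k * a)
    (hsq : ∀ a ∈ s, a * a ∈ K) (hcomm : ∀ a ∈ s, ∀ b ∈ s, a * b * a⁻¹ * b⁻¹ ∈ K) :
    ∀ h ∈ closure s, h * h ∈ K := by
  have hcen : ∀ h ∈ closure s, ∀ k ∈ K, h * k = k * h := by
    intro h hh k hk
    have hle : closure s ≤ centralizer ({k} : Set G) := (closure_le _).2 fun a ha =>
      mem_centralizer_singleton_iff.2 (hK a ha k hk)
    exact mem_centralizer_singleton_iff.1 (hle hh)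
  have hkey : ∀ c, (∀ k ∈ K, c * k = k * c) → ∀ a b, c * a * c⁻¹ * a⁻¹ ∈ K → c * b * c⁻¹ * b⁻¹ ∈ K →
      (∀ k ∈ K, a * k = k * a) → c * (a * b) * c⁻¹ * (a * b)⁻¹ ∈ K := by
    intro c hc a b ha hb hak
    rw [show c * (a * b) * c⁻¹ * (a * b)⁻¹ = c * a * c⁻¹ * (c * b * c⁻¹ * b⁻¹) * a⁻¹ by group,
      show c * a * c⁻¹ * (c * b * c⁻¹ * b⁻¹) * a⁻¹ = (c * a * c⁻¹ * a⁻¹) * (a * (c * b * c⁻¹ * b⁻¹) * a⁻¹) by group,
      hak _ hb, mul_inv_cancel_right]
    exact mul_mem ha hb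
  have h1 : ∀ h ∈ closure s, ∀ a ∈ s, a * h * a⁻¹ * h⁻¹ ∈ K := by
    intro h hh a ha
    induction hh using closure_induction with
    | mem x hx => exact hcomm a ha x hx
    | one => simp
    | mul x y hx _ ihx ihy => exact hkey a (hK a ha) x y ihx ihy (hcen x hx)
    | inv x hx ih =>
      have e : a * x⁻¹ * a⁻¹ * x⁻¹⁻¹ = x⁻¹ * (a * x * a⁻¹ * x⁻¹)⁻¹ * x := by group
      rw [e, hcen x⁻¹ (inv_mem hx) _ (inv_mem ih), inv_mul_cancel_right]
      exact inv_mem ih
  have h2 : ∀ h ∈ closure s, ∀ h' ∈ closure s, h' * h * h'⁻¹ * h⁻¹ ∈ K := by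
    intro h hh h' hh'
    induction hh using closure_induction with
    | mem x hx =>
      have := inv_mem (h1 h' hh' x hx)
      rwa [show (x * h' * x⁻¹ * h'⁻¹)⁻¹ = h' * x * h'⁻¹ * x⁻¹ by group] at this
    | one => simp
    | mul x y hx _ ihx ihy => exact hkey h' (hcen h' hh') x y ihx ihy (hcen x hx)
    | inv x hx ih =>
      have e : h' * x⁻¹ * h'⁻¹ * x⁻¹⁻¹ = x⁻¹ * (h' * x * h'⁻¹ * x⁻¹)⁻¹ * x := by group
      rw [e, hcen x⁻¹ (inv_mem hx) _ (inv_mem ih), inv_mul_cancel_right]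
      exact inv_mem ih
  intro h hh
  induction hh using closure_induction with
  | mem x hx => exact hsq x hx
  | one => simp
  | mul x y hx hy ihx ihy =>
    rw [show x * y * (x * y) = x * (y * x * y⁻¹ * x⁻¹) * (x * (y * y)) by group,
      hcen x hx _ (h2 x hx y hy), show (y * x * y⁻¹ * x⁻¹) * x * (x * (y * y)) =
        (y * x * y⁻¹ * x⁻¹) * (x * x) * (y * y) by group]
    exact mul_mem (mul_mem (h2 x hx y hy) ihx) ihy
  | inv x _ ih => rw [← mul_inv_rev]; exact inv_mem ih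

end CfsgLib.RankFourLinear
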