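import Cfsg.Agent.Lib.InvChar.RankFourLinear.Coord

/-!
# A central layer of order two below a section of order sixteen
-/

set_option autoImplicit false
set_option linter.style.haveILetI false
set_option linter.unusedSectionVars false

open Subgroup

universe u v

namespace CfsgLib.RankFourLinear

variable {L : Type v} [Group L] [Finite L] [IsSimpleGroup L] (hL : Nat.card L = 168)

include hL in
/-- An invariant alternating form with two values on a module of order sixteen vanishes. -/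
theorem alternating_trivial {V : Type*} [CommGroup V] [Finite V] (hV : Nat.card V = 16)
    (h2 : ∀ v : V, v * v = 1) (ρ : L →* MulAut V) (hρ : ρ ≠ 1) {C : Type*} [Group C] {k : C} (hk : k * k = 1)
    (β : V → V → C) (hval : ∀ a b, β a b = 1 ∨ β a b = k) (hl : ∀ a b c, β (a * b) c = β a c * β b c)
    (hr : ∀ a b c, β a (b * c) = β a b * β a c) (hself : ∀ a, β a a = 1)
    (hinv : ∀ g a b, β (ρ g a) (ρ g b) = β a b) : ∀ a b, β a b = 1 := by
  classical
  haveI : Fact (Nat.Prime 7) := ⟨by norm_num⟩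
  obtain ⟨f, hf, hf1⟩ := exists_seven hL
  obtain ⟨hc8, hdis, u, hu1, hu, hfix, hcos⟩ := moved_facts hL hV h2 ρ hρ hf hf1
  have hsq : ∀ a b, β a b * β a b = 1 := fun a b => by
    rcases hval a b with h | h <;> rw [h]
    exacts [one_mul 1, hk]
  have hone : ∀ b, β 1 b = 1 := fun b => by
    have h := hl 1 1 b
    rwa [one_mul, left_eq_mul] at h
  have hone' : ∀ a, β a 1 = 1 := fun a => by
    have h := hr a 1 1
    rwa [one_mul, left_eq_mul] at h
  have hsymm : ∀ a b, β a b = β b a := by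
    intro a b
    have h := hself (a * b)
    rw [hl, hr, hr, hself, hself, one_mul, mul_one] at h
    rw [eq_inv_of_mul_eq_one_left h, inv_eq_of_mul_eq_one_right (hsq b a)]
  have huM : ∀ v ∈ moved (ρ f), β u v = 1 := by
    rintro _ ⟨x, rfl⟩
    show β u (ρ f x * x) = 1
    rw [hr]
    nth_rewrite 1 [← hu]
    rw [hinv, hsq]
  suffices hM : ∀ a ∈ moved (ρ f), ∀ b ∈ moved (ρ f), β a b = 1 by
    intro a b
    have hd : ∀ v, ∃ m ∈ moved (ρ f), v = m ∨ v = u * m := fun v => by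
      rcases hcos v with h | h
      · exact ⟨v, h, Or.inl rfl⟩
      · exact ⟨u * v, h, Or.inr (by rw [← mul_assoc, h2, one_mul])⟩
    obtain ⟨m, hm, rfl | rfl⟩ := hd a <;> obtain ⟨n, hn, rfl | rfl⟩ := hd b
    · exact hM _ hm _ hn
    · rw [hr, hM _ hm _ hn, hsymm, huM _ hm, one_mul]
    · rw [hl, hM _ hm _ hn, huM _ hn, one_mul]
    · rw [hl, hr, hr, hself, huM _ hn, hsymm m u, huM _ hm, hM _ hm _ hn]; simp
  let R0 : Subgroup V :=
    { carrier := {a | a ∈ moved (ρ f) ∧ ∀ b ∈ moved (ρ f), β a b = 1}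
      one_mem' := ⟨one_mem _, fun b _ => hone b⟩
      mul_mem' := fun {x y} hx hy => ⟨mul_mem hx.1 hy.1, fun b hb => by rw [hl, hx.2 b hb, hy.2 b hb, one_mul]⟩
      inv_mem' := fun {x} hx => ⟨inv_mem hx.1, fun b hb => by
        rw [inv_eq_of_mul_eq_one_right (h2 x)]; exact hx.2 b hb⟩ }
  suffices h : R0 = moved (ρ f) by
    intro a ha b hb
    exact (h.symm ▸ ha : a ∈ R0).2 b hb
  by_contra hne
  have hmf : ∀ v, ρ f v ∈ moved (ρ f) ↔ v ∈ moved (ρ f) := fun v => by
    constructor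
    · rintro ⟨a, ha⟩
      refine ⟨(ρ f).symm a, (ρ f).injective ?_⟩
      show ρ f (ρ f ((ρ f).symm a) * (ρ f).symm a) = ρ f v
      rw [map_mul, MulEquiv.apply_symm_apply]
      exact ha
    · rintro ⟨a, rfl⟩
      exact ⟨ρ f a, (map_mul (ρ f) _ _).symm⟩
  have hinvR : ∀ v, ρ f v ∈ R0 ↔ v ∈ R0 := fun v => by
    constructor
    · intro h
      exact ⟨(hmf v).1 h.1, fun b hb => by rw [← hinv f]; exact h.2 _ ((hmf b).2 hb)⟩
    · intro h
      refine ⟨(hmf v).2 h.1, fun b hb => ?_⟩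
      obtain ⟨b', rfl⟩ := (ρ f).surjective b
      rw [hinv]
      exact h.2 b' ((hmf b').1 hb)
  have hmod := CfsgLib.RankFourAltFive.card_fixed_modEq (p := 7) (ρ f) (by rw [← map_pow, hf, map_one]) R0 hinvR
  have hb : R0 ⊓ CfsgLib.RankFourAltFive.fixed (ρ f) = ⊥ :=
    eq_bot_iff.2 fun x hx => mem_bot.2 (disjoint_def.1 hdis hx.1.1 hx.2)
  rw [hb, card_bot] at hmod
  have hle : R0 ≤ moved (ρ f) := fun x hx => hx.1
  have hlt : Nat.card R0 < 8 := by
    rcases lt_or_eq_of_le (hc8 ▸ card_le_of_le hle) with h | h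
    · exact h
    · exact absurd (eq_of_le_of_card_ge hle (by rw [hc8, h])) hne
  have hR1 : R0 = ⊥ := (eq_bot_iff_card _).2 (by
    rcases CfsgLib.RankFourAltFive.card_dvd_sixteen hV R0 with h | h | h | h | h <;> rw [h] at hmod hlt <;>
      first | exact h | exact absurd hmod (by decide) | omega)
  by_cases hall : ∀ a ∈ moved (ρ f), ∀ b ∈ moved (ρ f), β a b = 1
  · exact hne (le_antisymm hle fun x hx => ⟨hx, fun b hb => hall x hx b hb⟩)
  push Not at hall
  obtain ⟨a, ha, b, hbm, hab⟩ := hall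
  have habk : β a b = k := (hval a b).resolve_left hab
  obtain ⟨c, hc, hc'⟩ : ∃ c ∈ moved (ρ f), c ∉ ({1, a, b, a * b} : Finset V) := by
    by_contra hcon
    push Not at hcon
    haveI := Fintype.ofFinite V
    have h := Set.ncard_le_ncard (s := (moved (ρ f) : Set V)) (t := (({1, a, b, a * b} : Finset V) : Set V))
      (fun x hx => hcon x hx) (Set.toFinite _)
    rw [← Nat.card_coe_set_eq, Set.ncard_coe_finset] at h
    have hc8' : Nat.card ↥(moved (ρ f) : Set V) = 8 := hc8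
    have := Finset.card_le_four (a := (1 : V)) (b := a) (c := b) (d := a * b)
    omega
  simp only [Finset.mem_insert, Finset.mem_singleton, not_or] at hc'
  obtain ⟨hc1, hca, hcb, hcab⟩ := hc'
  obtain ⟨i, hi, hi'⟩ : ∃ i : V, (i = 1 ∨ i = b) ∧ β a (c * i) = 1 := by
    rcases hval a c with h | h
    · exact ⟨1, Or.inl rfl, by rw [mul_one, h]⟩
    · exact ⟨b, Or.inr rfl, by rw [hr, h, habk, hk]⟩
  obtain ⟨j, hj, hj'⟩ : ∃ j : V, (j = 1 ∨ j = a) ∧ β b (c * i * j) = 1 := by
    rcases hval b (c * i) with h | h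
    · exact ⟨1, Or.inl rfl, by rw [mul_one, h]⟩
    · exact ⟨a, Or.inr rfl, by rw [hr, h, hsymm b a, habk, hk]⟩
  set c' := c * i * j
  have hac' : β a c' = 1 := by
    rcases hj with rfl | rfl
    · rw [show c' = c * i from mul_one _]; exact hi'
    · rw [hr, hi', hself, one_mul]
  have hc'M : c' ∈ moved (ρ f) := by
    refine mul_mem (mul_mem hc ?_) ?_
    · rcases hi with rfl | rfl; exacts [one_mem _, hbm]
    · rcases hj with rfl | rfl; exacts [one_mem _, ha]
  have hc'ne : c' ∉ ({1, a, b, a * b} : Set V) := by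
    have hcl : ∀ x ∈ ({1, a, b, a * b} : Set V), ∀ y, y = 1 ∨ y = a ∨ y = b → x * y ∈ ({1, a, b, a * b} : Set V) := by
      simp only [Set.mem_insert_iff, Set.mem_singleton_iff]
      intro x hx y hy
      rcases hy with hy | hy | hy <;> rw [hy] <;> rcases hx with hx | hx | hx | hx <;> rw [hx]
      all_goals
        first
          | (simp [h2]; done)
          | (simp [mul_comm b a]; done)
          | (simp [mul_assoc, h2]; done)
          | (simp [mul_comm a b, mul_assoc, h2]; done)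
    intro h
    have hcc : c = c' * j * i := by
      calc c = c * (i * i) * (j * j) := by rw [h2, h2, mul_one, mul_one]
        _ = c * i * j * j * i := by ac_rfl
    have hmem := hcl _ (hcl _ h j (hj.imp_right Or.inl)) i (hi.imp_right Or.inr)
    rw [← hcc] at hmem
    simp only [Set.mem_insert_iff, Set.mem_singleton_iff] at hmem
    rcases hmem with h | h | h | h
    exacts [hc1 h, hca h, hcb h, hcab h]
  let T : Subgroup V :=
    { carrier := {x | x ∈ moved (ρ f) ∧ β x c' = 1}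
      one_mem' := ⟨one_mem _, hone _⟩
      mul_mem' := fun {x y} hx hy => ⟨mul_mem hx.1 hy.1, by rw [hl, hx.2, hy.2, one_mul]⟩
      inv_mem' := fun {x} hx => ⟨inv_mem hx.1, by rw [inv_eq_of_mul_eq_one_right (h2 x)]; exact hx.2⟩ }
  have hTall : T = moved (ρ f) := by
    refine eq_of_le_of_card_ge (fun x hx => hx.1) ?_
    rw [hc8]
    have hab1 : a * b ≠ 1 := fun h => hab (by
      rw [show a = b by rw [← inv_eq_of_mul_eq_one_left h, inv_eq_of_mul_eq_one_right (h2 b)]]; exact hself b)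
    have hane : a ≠ 1 := fun h => hab (by rw [h]; exact hone b)
    have hbne : b ≠ 1 := fun h => hab (by rw [h]; exact hone' a)
    have hane' : a ≠ b := fun h => hab (by rw [h]; exact hself b)
    have hsub : ({c', 1, a, b, a * b} : Set V) ⊆ (T : Set V) := by
      rintro x (rfl | rfl | rfl | rfl | rfl)
      · exact ⟨hc'M, hself _⟩
      · exact one_mem T
      · exact ⟨ha, hac'⟩
      · exact ⟨hbm, hj'⟩
      · exact ⟨mul_mem ha hbm, by rw [hl, hac', hj', one_mul]⟩
    have h := Set.ncard_le_ncard hsub (Set.toFinite _)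
    rw [Set.ncard_insert_of_notMem hc'ne (Set.toFinite _),
      Set.ncard_insert_of_notMem (by simp [hane.symm, hbne.symm, hab1.symm]) (Set.toFinite _),
      Set.ncard_insert_of_notMem (by simp [hane', hbne]) (Set.toFinite _),
      Set.ncard_pair (fun h => hane (right_eq_mul.1 h)), ← Nat.card_coe_set_eq] at h
    rcases CfsgLib.RankFourAltFive.card_dvd_sixteen hV T with h' | h' | h' | h' | h' <;>
      change _ ≤ Nat.card T at h <;> change _ ≤ Nat.card T <;> omega
  have hc'R : c' ∈ R0 := ⟨hc'M, fun x hx => by rw [hsymm]; exact (hTall.symm ▸ hx : x ∈ T).2⟩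
  rw [hR1, mem_bot] at hc'R
  exact hc'ne (Or.inl hc'R)

variable {G : Type u} [Group G] [Finite G] {π : G →* L}

/-- Commutators lie in a normal subgroup containing the squares of a normal subgroup. -/
theorem comm_mem {M W : Subgroup G} [W.Normal] (hsq : ∀ m ∈ M, m * m ∈ W) {a b : G} (ha : a ∈ M) (hb : b ∈ M) :
    a * b * a⁻¹ * b⁻¹ ∈ W := by
  rw [show a * b * a⁻¹ * b⁻¹ = a * b * (a * b) * (b⁻¹ * (a * a)⁻¹ * b) * (b * b)⁻¹ by group]
  refine mul_mem (mul_mem (hsq _ (mul_mem ha hb)) ?_) (inv_mem (hsq b hb))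
  simpa using Normal.conj_mem ‹W.Normal› _ (inv_mem (hsq a ha)) b⁻¹

/-- A normal subgroup of order two is central. -/
theorem central_of_card_two {F : Subgroup G} [F.Normal] (hF : Nat.card F = 2) :
    ∃ z ∈ F, z ≠ 1 ∧ z * z = 1 ∧ (∀ x ∈ F, x = 1 ∨ x = z) ∧ ∀ g, ∀ x ∈ F, g * x = x * g := by
  obtain ⟨z, hz, hz1⟩ := (bot_or_exists_ne_one F).resolve_left fun h => by rw [h, card_bot] at hF; omega
  have hall : ∀ x ∈ F, x = 1 ∨ x = z := by
    intro x hx
    by_contra hcon
    push Not at hcon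
    have h3 : ({1, z, x} : Set G).ncard ≤ 2 := by
      rw [← hF, ← Nat.card_coe_set_eq]
      exact Nat.card_mono (Set.toFinite _) (by rintro y (rfl | rfl | rfl); exacts [one_mem F, hz, hx])
    rw [Set.ncard_insert_of_notMem (by simp [hz1.symm, hcon.1.symm]) (Set.toFinite _),
      Set.ncard_pair hcon.2.symm] at h3
    omega
  have hzz : z * z = 1 := (hall _ (mul_mem hz hz)).resolve_right fun h => hz1 (mul_eq_left.1 h)
  refine ⟨z, hz, hz1, hzz, hall, fun g x hx => ?_⟩
  rcases hall x hx with rfl | rfl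
  · rw [mul_one, one_mul]
  · rcases hall _ (Normal.conj_mem ‹F.Normal› x hx g) with h | h
    · exact absurd (conj_eq_one_iff.1 h) hz1
    · exact mul_inv_eq_iff_eq_mul.1 h

include hL in
/-- The kernel over a central layer of order two is abelian. -/
theorem two_layer_abelian (hπ : Function.Surjective π) (F : Subgroup G) [F.Normal] (hF : Nat.card F = 2)
    (hFle : F ≤ π.ker) (hidx : F.relIndex π.ker = 16) (hsq : ∀ m ∈ π.ker, m * m ∈ F)
    (hmove : ∃ g, ∃ m ∈ π.ker, g * m * g⁻¹ * m⁻¹ ∉ F) : ∀ a ∈ π.ker, ∀ b ∈ π.ker, a * b = b * a := by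
  obtain ⟨z, hz, hz1, hzz, hall, hcen⟩ := central_of_card_two hF
  obtain ⟨V, iV, iF, ρ, P, C⟩ := exists_coord hπ π.ker F hFle hsq fun c hc m hm => comm_mem hsq hc hm
  have hV : Nat.card V = 16 := C.card.trans hidx
  choose Q hQM hQ using C.surj
  let c : G → G → G := fun a b => a * b * a⁻¹ * b⁻¹
  have hcF : ∀ a ∈ π.ker, ∀ b ∈ π.ker, c a b ∈ F := fun a ha b hb => comm_mem hsq ha hb
  have hc2 : ∀ a ∈ π.ker, ∀ b ∈ π.ker, c b a = c a b := by
    intro a ha b hb
    have h : c a b * c a b = 1 := by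
      rcases hall _ (hcF a ha b hb) with h | h <;> rw [h]
      exacts [one_mul 1, hzz]
    rw [show c b a = (c a b)⁻¹ by simp only [c]; group, inv_eq_of_mul_eq_one_right h]
  have hcl : ∀ a ∈ π.ker, ∀ a' ∈ π.ker, ∀ b ∈ π.ker, c (a * a') b = c a b * c a' b := by
    intro a ha a' ha' b hb
    rw [show c (a * a') b = (a * c a' b * a⁻¹) * c a b by simp only [c]; group, hcen a _ (hcF a' ha' b hb),
      mul_inv_cancel_right, hcen _ _ (hcF a ha b hb)]
  have hcF1 : ∀ x ∈ F, ∀ b, c x b = 1 := fun x hx b => by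
    show x * b * x⁻¹ * b⁻¹ = 1
    rw [← hcen b x hx, mul_inv_cancel_right, mul_inv_cancel]
  have hwd : ∀ a ∈ π.ker, ∀ a' ∈ π.ker, P a = P a' → ∀ b ∈ π.ker, c a b = c a' b := by
    intro a ha a' ha' h b hb
    rw [show a = a * a'⁻¹ * a' by group, hcl _ (mul_mem ha (inv_mem ha')) _ ha' b hb,
      hcF1 _ (C.div_mem ha ha' h), one_mul]
  have hwd' : ∀ a ∈ π.ker, ∀ a' ∈ π.ker, ∀ b ∈ π.ker, ∀ b' ∈ π.ker, P a = P a' → P b = P b' → c a b = c a' b' := by
    intro a ha a' ha' b hb b' hb' h h'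
    rw [hwd a ha a' ha' h b hb, hc2 b hb a' ha', hwd b hb b' hb' h' a' ha', hc2 a' ha' b' hb']
  have hβ := alternating_trivial hL hV C.v2 ρ (C.ne_one hmove) hzz (fun v w => c (Q v) (Q w))
    (fun a b => hall _ (hcF _ (hQM a) _ (hQM b)))
    (fun a b d => by
      rw [← hcl _ (hQM a) _ (hQM b) _ (hQM d)]
      exact hwd _ (hQM _) _ (mul_mem (hQM a) (hQM b)) (by rw [hQ, C.map_mul _ (hQM a) _ (hQM b), hQ, hQ]) _ (hQM d))
    (fun a b d => by
      rw [hc2 _ (hQM (b * d)) _ (hQM a), hc2 _ (hQM b) _ (hQM a), hc2 _ (hQM d) _ (hQM a),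
        ← hcl _ (hQM b) _ (hQM d) _ (hQM a)]
      exact hwd _ (hQM _) _ (mul_mem (hQM b) (hQM d)) (by rw [hQ, C.map_mul _ (hQM b) _ (hQM d), hQ, hQ]) _ (hQM a))
    (fun a => by simp only [c]; group)
    (fun l a b => by
      obtain ⟨g, rfl⟩ := hπ l
      rw [hwd' _ (hQM _) (g * Q a * g⁻¹) (C.conj_mem (hQM a) g) _ (hQM _) (g * Q b * g⁻¹) (C.conj_mem (hQM b) g)
        (by rw [hQ, C.equiv g _ (hQM a), hQ]) (by rw [hQ, C.equiv g _ (hQM b), hQ])]
      rw [show c (g * Q a * g⁻¹) (g * Q b * g⁻¹) = g * c (Q a) (Q b) * g⁻¹ by simp only [c]; group,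
        hcen g _ (hcF _ (hQM a) _ (hQM b)), mul_inv_cancel_right])
  intro a ha b hb
  refine mul_inv_eq_iff_eq_mul.1 (mul_inv_eq_one.1 ?_)
  show c a b = 1
  rw [hwd' a ha _ (hQM (P a)) b hb _ (hQM (P b)) (hQ _).symm (hQ _).symm]
  exact hβ _ _

/-- Images of subgroups above the kernel of a quotient map keep relative indices. -/
theorem relIndex_map_mk {N A B : Subgroup G} [N.Normal] (h : N ≤ A) :
    (A.map (QuotientGroup.mk' N)).relIndex (B.map (QuotientGroup.mk' N)) = A.relIndex B := by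
  rw [← relIndex_comap, comap_map_eq_self (by rw [QuotientGroup.ker_mk']; exact h)]

/-- The facts about a layer of order two modulo a smaller normal subgroup. -/
theorem exists_quotient_hom {N : Subgroup G} [N.Normal] (hπ : Function.Surjective π) (hN : N ≤ π.ker) :
    ∃ π' : G ⧸ N →* L, Function.Surjective π' ∧ π'.ker = π.ker.map (QuotientGroup.mk' N) :=
  ⟨QuotientGroup.lift N π hN, fun a => by obtain ⟨g, rfl⟩ := hπ a; exact ⟨QuotientGroup.mk' N g, rfl⟩,
    QuotientGroup.ker_lift N π hN⟩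

include hL in
/-- The structure of the kernel over a layer of order two. -/
theorem two_layer (hπ : Function.Surjective π) (F U : Subgroup G) [F.Normal] [U.Normal] (hUF : U ≤ F)
    (hidx2 : U.relIndex F = 2) (hFle : F ≤ π.ker) (hidx : F.relIndex π.ker = 16)
    (hsq : ∀ m ∈ π.ker, m * m ∈ F) (hgen : F ≤ closure {x | ∃ m ∈ π.ker, m * m = x})
    (hmove : ∃ g, ∃ m ∈ π.ker, g * m * g⁻¹ * m⁻¹ ∉ F) :
    (∀ a ∈ π.ker, ∀ b ∈ π.ker, a * b * a⁻¹ * b⁻¹ ∈ U) ∧
      ∃ S0 : Subgroup G, S0.Normal ∧ F ≤ S0 ∧ S0 ≤ π.ker ∧ S0.relIndex π.ker = 2 ∧ F.relIndex S0 = 8 ∧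
        (∀ m ∈ π.ker, (m ∈ S0 ↔ m * m ∈ U)) := by
  classical
  obtain ⟨π', hπ', hker⟩ := exists_quotient_hom hπ (hUF.trans hFle)
  let f := QuotientGroup.mk' U
  haveI : (F.map f).Normal := Normal.map ‹F.Normal› f (QuotientGroup.mk'_surjective U)
  have hFcard : Nat.card (F.map f) = 2 := by
    rw [← relIndex_bot_left, ← relIndex_comap, MonoidHom.comap_bot, QuotientGroup.ker_mk', hidx2]
  have hmem : ∀ x, f x ∈ F.map f → x ∈ F := by
    intro x hx
    have : x ∈ (F.map f).comap f := hx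
    rwa [comap_map_eq_self (by rw [QuotientGroup.ker_mk']; exact hUF)] at this
  have hab := two_layer_abelian hL hπ' (F.map f) hFcard (hker ▸ map_mono hFle)
    (by rw [hker, relIndex_map_mk hUF, hidx])
    (by rw [hker]; rintro _ ⟨m, hm, rfl⟩; rw [← map_mul]; exact mem_map_of_mem f (hsq m hm))
    (by
      obtain ⟨g, m, hm, hne⟩ := hmove
      refine ⟨f g, f m, hker ▸ mem_map_of_mem f hm, fun h => hne (hmem _ ?_)⟩
      simpa using h)
  have hcomm : ∀ a ∈ π.ker, ∀ b ∈ π.ker, a * b * a⁻¹ * b⁻¹ ∈ U := fun a ha b hb => by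
    refine (QuotientGroup.eq_one_iff _).1 ?_
    show f (a * b * a⁻¹ * b⁻¹) = 1
    rw [map_mul, map_mul, map_mul, map_inv, map_inv, hab (f a) (hker ▸ mem_map_of_mem f ha) (f b)
      (hker ▸ mem_map_of_mem f hb), mul_inv_cancel_right, mul_inv_cancel]
  obtain ⟨z, hz, hz1, hzz, hall, hcen⟩ := central_of_card_two hFcard
  let q : π.ker →* G ⧸ U := MonoidHom.mk' (fun m => f m * f m) fun a b => by
    have h := hab (f b) (hker ▸ mem_map_of_mem f b.2) (f a) (hker ▸ mem_map_of_mem f a.2)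
    show f ((a : G) * b) * f ((a : G) * b) = f a * f a * (f b * f b)
    rw [map_mul, show f a * f b * (f a * f b) = f a * (f b * f a) * f b by group, h]; group
  have hqr : q.range = F.map f := by
    refine le_antisymm ?_ ?_
    · rintro _ ⟨m, rfl⟩
      show f m * f m ∈ _
      rw [← map_mul]; exact mem_map_of_mem f (hsq m m.2)
    · rw [map_le_iff_le_comap]
      refine hgen.trans ((closure_le _).2 ?_)
      rintro _ ⟨m, hm, rfl⟩
      exact ⟨⟨m, hm⟩, (map_mul f m m).symm⟩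
  have hqker : ∀ m : π.ker, m ∈ q.ker ↔ (m : G) * m ∈ U := fun m => by
    rw [MonoidHom.mem_ker, ← QuotientGroup.eq_one_iff]
    show f m * f m = 1 ↔ f ((m : G) * m) = 1
    rw [map_mul]
  have hidxS : (q.ker.map π.ker.subtype).relIndex π.ker = 2 := by
    have e : (q.ker.map π.ker.subtype).subgroupOf π.ker = q.ker :=
      comap_map_eq_self_of_injective Subtype.val_injective _
    rw [relIndex, e, index_ker, hqr, hFcard]
  have hFS : F ≤ q.ker.map π.ker.subtype := fun x hx => by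
    refine ⟨⟨x, hFle hx⟩, (hqker _).2 ?_, rfl⟩
    exact mem_subgroupOf.1 (mul_self_mem_of_index_two hidx2 (⟨x, hx⟩ : F))
  refine ⟨hcomm, q.ker.map π.ker.subtype, ⟨fun x hx g => ?_⟩, hFS, map_subtype_le _, hidxS, ?_, fun m hm => ?_⟩
  · obtain ⟨m, hm, rfl⟩ := hx
    refine ⟨⟨g * m * g⁻¹, π.normal_ker.conj_mem _ m.2 g⟩, (hqker _).2 ?_, rfl⟩
    show g * (m : G) * g⁻¹ * (g * (m : G) * g⁻¹) ∈ U
    rw [conj_mul]
    exact Normal.conj_mem ‹U.Normal› _ ((hqker m).1 hm) g
  · have := relIndex_mul_relIndex F (q.ker.map π.ker.subtype) π.ker hFS (map_subtype_le _)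
    rw [hidxS, hidx] at this
    omega
  · refine ⟨?_, fun h => ⟨⟨m, hm⟩, (hqker _).2 h, rfl⟩⟩
    rintro ⟨m', hm', rfl⟩
    exact (hqker m').1 hm'

end CfsgLib.RankFourLinear
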