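import Cfsg.Agent.Lib.InvChar.RankFourLinear.Sixteen
import Cfsg.Agent.Lib.InvChar.RankFourLinear.TwoLayer

/-!
# Layers of order eight
-/

set_option autoImplicit false
set_option linter.style.haveILetI false
set_option linter.unusedSectionVars false

open Subgroup
open CfsgLib.RankFourAltFive (SecLE pair)

universe u v

namespace CfsgLib.RankFourLinear

variable {L : Type v} [Group L] [Finite L] [IsSimpleGroup L] (hL : Nat.card L = 168)
variable {G : Type u} [Group G] [Finite G] {π : G →* L}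

include hL in
/-- Fourth powers of lifts of regular unipotent elements lie in the kernel. -/
theorem fourth_mem_ker {V : Type*} [CommGroup V] [Finite V] (ρ : L →* MulAut V) (hρ : ρ ≠ 1) {e : V3 ≃* V}
    {g : G} (hg : Frames ρ e rr (π g)) : g * g * (g * g) ∈ π.ker ∧ g * g ∉ π.ker := by
  have hg2 : Frames ρ e (rr * rr) (π (g * g)) := by rw [map_mul]; exact hg.mul ρ hg
  constructor
  · rw [MonoidHom.mem_ker]
    refine injective_of_ne_one ρ hρ (MulEquiv.ext fun v => ?_)
    obtain ⟨x, rfl⟩ := e.surjective v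
    have h4 : Frames ρ e (rr * rr * (rr * rr)) (π (g * g * (g * g))) := by
      rw [map_mul]; exact hg2.mul ρ hg2
    rw [h4, map_one, MulAut.one_apply]
    exact congrArg e (rr_four x)
  · intro h
    have h1 := hg2 (pt 0 0 1)
    rw [MonoidHom.mem_ker.1 h, map_one, MulAut.one_apply] at h1
    exact rr_sq_ne (e.injective h1.symm)

include hL in
/-- No layer of order eight below a section of order eight. -/
theorem Natural.no_eight {U : Subgroup G} (N : Natural π U) (hsec : SecLE G) (hidx : U.relIndex π.ker = 8)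
    (hsq : ∀ m ∈ π.ker, m * m ∈ U) (hmove : ∃ g, ∃ m ∈ π.ker, g * m * g⁻¹ * m⁻¹ ∉ U)
    (hne : ∃ m ∈ π.ker, m * m ≠ 1) : False := by
  haveI := N.normal
  have htriv : ∀ c ∈ π.ker, ∀ m ∈ π.ker, c * m * c⁻¹ * m⁻¹ ∈ U := fun c hc m hm => comm_mem hsq hc hm
  have HM := N.homocyclic hL π.ker le_rfl N.le hidx hsq htriv hmove hne
  obtain ⟨V, iV, iF, ρ, P, C⟩ := exists_coord N.surj π.ker U N.le hsq htriv
  exact HM.false_of_fourth hL hsec C fun e g hg => (fourth_mem_ker hL ρ (C.ne_one hmove) hg).1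

include hL in
/-- The action on a quotient by a fixed vector is nontrivial. -/
theorem moves_over_fixed (hπ : Function.Surjective π) (R U F : Subgroup G) [R.Normal] [U.Normal] (hUF : U ≤ F)
    (hFR : F ≤ R) (hUR : U.relIndex R = 16) (hsq : ∀ m ∈ R, m * m ∈ U)
    (htriv : ∀ c ∈ π.ker, ∀ m ∈ R, c * m * c⁻¹ * m⁻¹ ∈ U)
    (hmove : ∃ g, ∃ m ∈ R, g * m * g⁻¹ * m⁻¹ ∉ U) (hFfix : ∀ g, ∀ x ∈ F, g * x * g⁻¹ * x⁻¹ ∈ U) :
    ∃ g, ∃ m ∈ R, g * m * g⁻¹ * m⁻¹ ∉ F := by
  obtain ⟨V, iV, iF, ρ, P, C⟩ := exists_coord hπ R U (hUF.trans hFR) hsq htriv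
  have hρ := C.ne_one hmove
  by_contra hcon
  push Not at hcon
  obtain ⟨f, hf, hf1⟩ := exists_seven hL
  refine hf1 (injective_of_ne_one ρ hρ ?_)
  obtain ⟨g, rfl⟩ := hπ f
  have hd : ∀ v, ρ (π g) (ρ (π g) v * v) = ρ (π g) v * v := by
    intro v
    obtain ⟨m, hm, rfl⟩ := C.surj v
    set x := g * m * g⁻¹ * m⁻¹ with hx
    have hxF : x ∈ F := hcon g m hm
    have hPx : P x = ρ (π g) (P m) * P m := by
      rw [hx, C.map_mul _ (C.conj_mem hm g) _ (inv_mem hm), C.map_inv hm, C.equiv g m hm]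
    rw [← hPx, ← C.equiv g x (hFR hxF)]
    have h1 := (C.eq_one _ (mul_mem (C.conj_mem (hFR hxF) g) (inv_mem (hFR hxF)))).2 (hFfix g x hxF)
    rw [C.map_mul _ (C.conj_mem (hFR hxF) g) _ (inv_mem (hFR hxF)), C.map_inv (hFR hxF), mul_eq_one_iff_eq_inv,
      inv_eq_of_mul_eq_one_right (C.v2 _)] at h1
    exact h1
  have h2 : ρ (π g) * ρ (π g) = 1 := MulEquiv.ext fun v => by
    have h := hd v
    rw [map_mul, mul_comm (ρ (π g) v) v] at h
    exact mul_right_cancel h
  have h7 : (ρ (π g)) ^ 7 = 1 := by rw [← map_pow, hf, map_one]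
  rw [show 7 = 2 * 3 + 1 from rfl, pow_succ, pow_mul, pow_two, h2, one_pow, one_mul] at h7
  rw [h7, map_one]

include hL in
/-- No layer of order eight below a section of order sixteen which is the whole kernel. -/
theorem Natural.no_eight_over {U : Subgroup G} (N : Natural π U) (hsec : SecLE G) (hidx : U.relIndex π.ker = 16)
    (hsq : ∀ m ∈ π.ker, m * m ∈ U) (hmove : ∃ g, ∃ m ∈ π.ker, g * m * g⁻¹ * m⁻¹ ∉ U) : False := by
  classical
  haveI := N.normal
  have htriv : ∀ c ∈ π.ker, ∀ m ∈ π.ker, c * m * c⁻¹ * m⁻¹ ∈ U := fun c hc m hm => comm_mem hsq hc hm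
  refine N.no_sixteen hL hsec π.ker le_rfl N.le hidx hsq htriv hmove (fun g hg _ => hg)
    (fun z _ _ h => h) fun y hy hyU hy2 hyfix => ?_
  -- factor out the fixed element
  let Z : Subgroup G := pair y hy2
  haveI hZn : Z.Normal := ⟨fun x hx g => by
    rcases hx with rfl | rfl
    · rw [mul_one, mul_inv_cancel]; exact one_mem _
    · rw [hyfix]; exact Or.inr rfl⟩
  have hZker : Z ≤ π.ker := by rintro x (rfl | rfl); exacts [one_mem _, hy]
  obtain ⟨π', hπ', hker⟩ := exists_quotient_hom N.surj hZker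
  let f := QuotientGroup.mk' Z
  let F : Subgroup G := U ⊔ Z
  have hUF : U ≤ F := le_sup_left
  have hZF : Z ≤ F := le_sup_right
  have hFfix : ∀ g, ∀ x ∈ F, g * x * g⁻¹ * x⁻¹ ∈ U := by
    intro g x hx
    obtain ⟨u, hu, w, hw, rfl⟩ := mem_sup_of_normal_left.1 hx
    have hw' : g * w * g⁻¹ = w := by
      rcases hw with rfl | rfl
      · rw [mul_one, mul_inv_cancel]
      · exact hyfix g
    rw [show g * (u * w) * g⁻¹ * (u * w)⁻¹ = g * u * g⁻¹ * (g * w * g⁻¹ * w⁻¹) * u⁻¹ by group, hw',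
      mul_inv_cancel, mul_one]
    exact mul_mem (Normal.conj_mem N.normal u hu g) (inv_mem hu)
  have hFker : F ≤ π.ker := sup_le N.le hZker
  have hUFidx : U.relIndex F = 2 := by
    have hd : Disjoint U Z := disjoint_def.2 fun {x} hxU hx => by
      rcases hx with rfl | rfl
      · rfl
      · exact absurd hxU hyU
    rw [show F = Z ⊔ U from sup_comm _ _, relIndex_sup_right, ← inf_relIndex_right, hd.eq_bot, relIndex_bot_left,
      CfsgLib.RankFourAltFive.card_pair (fun h => hyU (by rw [h]; exact one_mem U))]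
  have hFidx : F.relIndex π.ker = 8 := by
    have := relIndex_mul_relIndex U F π.ker hUF hFker
    rw [hUFidx, hidx] at this
    omega
  have hmapF : F.map f = U.map f := by
    rw [Subgroup.map_sup, sup_eq_left]
    refine (map_mono (le_refl Z)).trans ?_
    rw [show Z.map f = ⊥ from (Subgroup.map_eq_bot_iff _).2 (by rw [QuotientGroup.ker_mk'])]
    exact bot_le
  have hinj : ∀ x ∈ U, f x = 1 → x = 1 := by
    intro x hx h
    rcases ((QuotientGroup.eq_one_iff x).1 h : x ∈ Z) with rfl | rfl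
    · rfl
    · exact absurd hx hyU
  haveI hUn' : (U.map f).Normal := N.normal.map f (QuotientGroup.mk'_surjective Z)
  have N' : Natural π' (U.map f) := by
    refine ⟨hπ', hker ▸ map_mono N.le, hUn', ?_, ?_, ?_, ?_⟩
    · let φ : U → U.map f := fun u => ⟨f u, mem_map_of_mem f u.2⟩
      rw [← N.card]
      refine (Nat.card_eq_of_bijective φ ⟨fun a b h => ?_, ?_⟩).symm
      · have h' : f ((a : G) * (b : G)⁻¹) = 1 := by
          rw [map_mul, map_inv, show f a = f b from congrArg Subtype.val h, mul_inv_cancel]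
        exact Subtype.ext (mul_inv_eq_one.1 (hinj _ (mul_mem a.2 (inv_mem b.2)) h'))
      · rintro ⟨_, u, hu, rfl⟩
        exact ⟨⟨u, hu⟩, rfl⟩
    · rintro _ ⟨w, hw, rfl⟩
      rw [← map_mul, N.exp w hw, map_one]
    · intro c hc w hw
      rw [hker] at hc
      obtain ⟨c, hc', rfl⟩ := hc
      obtain ⟨w, hw', rfl⟩ := hw
      rw [← map_mul, ← map_mul, N.central c hc' w hw']
    · obtain ⟨g, w, hw, hne⟩ := N.moves
      refine ⟨f g, f w, mem_map_of_mem f hw, fun h => hne ?_⟩
      rw [← map_mul, ← map_mul] at h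
      have h' : f (g * w * g⁻¹ * w⁻¹) = 1 := by
        rw [map_mul, map_mul, h, map_mul, map_inv, map_inv]; group
      exact mul_inv_eq_iff_eq_mul.1 (mul_inv_eq_one.1 (hinj _ (mul_mem (Normal.conj_mem N.normal w hw g) (inv_mem hw)) h'))
  refine N'.no_eight hL (hsec.map f (QuotientGroup.mk'_surjective Z)) ?_ ?_ ?_ ?_
  · rw [← hmapF, hker, relIndex_map_mk hZF, hFidx]
  · rw [hker]
    rintro _ ⟨m, hm, rfl⟩
    rw [← map_mul]
    exact mem_map_of_mem f (hsq m hm)
  · obtain ⟨g, m, hm, hne⟩ := moves_over_fixed hL N.surj π.ker U F hUF hFker hidx hsq htriv hmove hFfix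
    refine ⟨f g, f m, hker ▸ mem_map_of_mem f hm, fun h => hne ?_⟩
    rw [← hmapF, ← map_inv, ← map_inv, ← map_mul, ← map_mul, ← map_mul] at h
    have h' : g * m * g⁻¹ * m⁻¹ ∈ (F.map f).comap f := h
    rwa [comap_map_eq_self (by rw [QuotientGroup.ker_mk']; exact hZF)] at h'
  · by_contra hcon
    push Not at hcon
    have hall : ∀ m ∈ π.ker, m * m = 1 := fun m hm => hinj _ (hsq m hm) (by
      rw [map_mul]; exact hcon (f m) (hker ▸ mem_map_of_mem f hm))
    have h1 := hsec.card_le π.ker hall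
    have h2 := relIndex_mul_relIndex (⊥ : Subgroup G) U π.ker bot_le N.le
    rw [relIndex_bot_left, relIndex_bot_left, N.card, hidx] at h2
    omega

include hL in
/-- No layer of order eight below a layer of order two. -/
theorem Natural.no_second_layer {U : Subgroup G} (N : Natural π U) (hsec : SecLE G) (F : Subgroup G) [F.Normal]
    (hUF : U ≤ F) (hidx2 : U.relIndex F = 2) (hFle : F ≤ π.ker) (hidx : F.relIndex π.ker = 16)
    (hsq : ∀ m ∈ π.ker, m * m ∈ F) (hgen : F ≤ closure {x | ∃ m ∈ π.ker, m * m = x})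
    (hmove : ∃ g, ∃ m ∈ π.ker, g * m * g⁻¹ * m⁻¹ ∉ F) : False := by
  classical
  haveI := N.normal
  obtain ⟨hcomm, S0, hS0n, hFS, hS0le, hS0idx, hFS8, hS0iff⟩ :=
    two_layer hL N.surj F U hUF hidx2 hFle hidx hsq hgen hmove
  haveI := hS0n
  obtain ⟨V, iV, iF, ρ, P, C⟩ := exists_coord N.surj π.ker F hFle hsq fun c hc m hm => hUF (hcomm c hc m hm)
  have hV : Nat.card V = 16 := C.card.trans hidx
  have hρ := C.ne_one hmove
  obtain ⟨V', iV', iF', ρ', P', C'⟩ := exists_coord N.surj S0 F hFS (fun m hm => hsq m (hS0le hm))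
    (fun c hc m hm => hUF (hcomm c hc m (hS0le hm)))
  have hV' : Nat.card V' = 8 := C'.card.trans hFS8
  have hρ' : ρ' ≠ 1 := by
    refine C'.ne_one ?_
    by_contra hcon
    push Not at hcon
    obtain ⟨f7, hf7, hf71⟩ := exists_seven hL
    have h7 := card_fixed_seven hL hV ρ hρ hf7 hf71
    obtain ⟨g, rfl⟩ := N.surj f7
    have hle : Nat.card V' ≤ Nat.card (CfsgLib.RankFourAltFive.fixed (ρ (π g))) := by
      choose Q hQM hQ using C'.surj
      refine Nat.card_le_card_of_injective (fun v => (⟨P (Q v), ?_⟩ : CfsgLib.RankFourAltFive.fixed (ρ (π g))))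
        fun v w h => ?_
      · rw [CfsgLib.RankFourAltFive.mem_fixed, ← C.equiv g _ (hS0le (hQM v))]
        have h1 := (C.eq_one _ (mul_mem (C.conj_mem (hS0le (hQM v)) g) (inv_mem (hS0le (hQM v))))).2
          (hcon g _ (hQM v))
        rw [C.map_mul _ (C.conj_mem (hS0le (hQM v)) g) _ (inv_mem (hS0le (hQM v))), C.map_inv (hS0le (hQM v)),
          mul_eq_one_iff_eq_inv, inv_eq_of_mul_eq_one_right (C.v2 _)] at h1
        exact h1
      · have hF := C.div_mem (hS0le (hQM v)) (hS0le (hQM w)) (congrArg Subtype.val h)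
        have h1 := (C'.eq_one _ (mul_mem (hQM v) (inv_mem (hQM w)))).2 hF
        rw [C'.map_mul _ (hQM v) _ (inv_mem (hQM w)), C'.map_inv (hQM w), hQ, hQ, mul_eq_one_iff_eq_inv,
          inv_eq_of_mul_eq_one_right (C'.v2 _)] at h1
        exact h1
    rw [hV', h7] at hle
    omega
  have hcosF : ∀ y ∈ F, y ∉ U → ∀ x ∈ F, x ∈ U ∨ y⁻¹ * x ∈ U := by
    intro y hy hyU x hx
    by_cases h : x ∈ U
    · exact Or.inl h
    refine Or.inr (mem_subgroupOf.1 ((mul_mem_iff_of_index_two hidx2).2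
      ⟨fun h' => absurd ?_ hyU, fun h' => absurd (mem_subgroupOf.1 h') h⟩ :
      (⟨y, hy⟩ : F)⁻¹ * ⟨x, hx⟩ ∈ U.subgroupOf F))
    exact inv_mem_iff.1 (mem_subgroupOf.1 h')
  have hFfixU : ∀ g, ∀ x ∈ F, g * x * g⁻¹ * x⁻¹ ∈ U := by
    intro g x hx
    by_cases h : x ∈ U
    · exact mul_mem (Normal.conj_mem N.normal x h g) (inv_mem h)
    · have h' : g * x * g⁻¹ ∉ U := fun h1 => h (by
        have := Normal.conj_mem N.normal _ h1 g⁻¹
        rwa [inv_inv, show g⁻¹ * (g * x * g⁻¹) * g = x by group] at this)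
      have h2 := (hcosF x hx h _ (Normal.conj_mem ‹F.Normal› x hx g)).resolve_left h'
      have := Normal.conj_mem N.normal _ h2 x
      rwa [show x * (x⁻¹ * (g * x * g⁻¹)) * x⁻¹ = g * x * g⁻¹ * x⁻¹ by group] at this
  have hF2 : ∀ x ∈ F, x * x = 1 := by
    intro x hx
    refine N.eq_one_of_fixed hL (mem_subgroupOf.1 (mul_self_mem_of_index_two hidx2 (⟨x, hx⟩ : F))) fun g => ?_
    set u := g * x * g⁻¹ * x⁻¹ with hu
    have hu' := hFfixU g x hx
    calc g * (x * x) * g⁻¹ = u * x * (u * x) := by rw [hu]; group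
      _ = u * (x * u) * x := by group
      _ = u * (u * x) * x := by rw [N.central x (hFle hx) u hu']
      _ = u * u * (x * x) := by group
      _ = x * x := by rw [N.exp u hu', one_mul]
  -- nothing outside `U` in `F` is fixed
  have hnofix : ∀ y ∈ F, y ∉ U → (∀ g, g * y * g⁻¹ = y) → False := by
    intro y hy hyU hyfix
    have hy2 := hF2 y hy
    let Z : Subgroup G := pair y hy2
    haveI hZn : Z.Normal := ⟨fun x hx g => by
      rcases hx with rfl | rfl
      · rw [mul_one, mul_inv_cancel]; exact one_mem _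
      · rw [hyfix]; exact Or.inr rfl⟩
    have hZF : Z ≤ F := by rintro x (rfl | rfl); exacts [one_mem _, hy]
    obtain ⟨π', hπ', hker⟩ := exists_quotient_hom N.surj (hZF.trans hFle)
    let f := QuotientGroup.mk' Z
    have hmapF : F.map f = U.map f := by
      refine le_antisymm ?_ (map_mono hUF)
      rintro _ ⟨x, hx, rfl⟩
      rcases hcosF y hy hyU x hx with h | h
      · exact mem_map_of_mem f h
      · refine ⟨y⁻¹ * x, h, ?_⟩
        rw [map_mul, map_inv, show f y = 1 from (QuotientGroup.eq_one_iff y).2 (Or.inr rfl), inv_one, one_mul]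
    have hinj : ∀ x ∈ U, f x = 1 → x = 1 := by
      intro x hx h
      rcases ((QuotientGroup.eq_one_iff x).1 h : x ∈ Z) with rfl | rfl
      · rfl
      · exact absurd hx hyU
    haveI hUn' : (U.map f).Normal := N.normal.map f (QuotientGroup.mk'_surjective Z)
    have N' : Natural π' (U.map f) := by
      refine ⟨hπ', hker ▸ map_mono N.le, hUn', ?_, ?_, ?_, ?_⟩
      · let φ : U → U.map f := fun u => ⟨f u, mem_map_of_mem f u.2⟩
        rw [← N.card]
        refine (Nat.card_eq_of_bijective φ ⟨fun a b h => ?_, ?_⟩).symm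
        · have h' : f ((a : G) * (b : G)⁻¹) = 1 := by
            rw [map_mul, map_inv, show f a = f b from congrArg Subtype.val h, mul_inv_cancel]
          exact Subtype.ext (mul_inv_eq_one.1 (hinj _ (mul_mem a.2 (inv_mem b.2)) h'))
        · rintro ⟨_, u, hu, rfl⟩
          exact ⟨⟨u, hu⟩, rfl⟩
      · rintro _ ⟨w, hw, rfl⟩
        rw [← map_mul, N.exp w hw, map_one]
      · intro c hc w hw
        rw [hker] at hc
        obtain ⟨c, hc', rfl⟩ := hc
        obtain ⟨w, hw', rfl⟩ := hw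
        rw [← map_mul, ← map_mul, N.central c hc' w hw']
      · obtain ⟨g, w, hw, hne⟩ := N.moves
        refine ⟨f g, f w, mem_map_of_mem f hw, fun h => hne ?_⟩
        rw [← map_mul, ← map_mul] at h
        have h' : f (g * w * g⁻¹ * w⁻¹) = 1 := by
          rw [map_mul, map_mul, h, map_mul, map_inv, map_inv]; group
        exact mul_inv_eq_iff_eq_mul.1 (mul_inv_eq_one.1 (hinj _ (mul_mem (Normal.conj_mem N.normal w hw g) (inv_mem hw)) h'))
    refine N'.no_eight_over hL (hsec.map f (QuotientGroup.mk'_surjective Z)) ?_ ?_ ?_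
    · rw [← hmapF, hker, relIndex_map_mk hZF, hidx]
    · rw [hker, ← hmapF]
      rintro _ ⟨m, hm, rfl⟩
      rw [← map_mul]
      exact mem_map_of_mem f (hsq m hm)
    · obtain ⟨g, m, hm, hne⟩ := hmove
      refine ⟨f g, f m, hker ▸ mem_map_of_mem f hm, fun h => hne ?_⟩
      rw [← hmapF, ← map_inv, ← map_inv, ← map_mul, ← map_mul, ← map_mul] at h
      have h' : g * m * g⁻¹ * m⁻¹ ∈ (F.map f).comap f := h
      rwa [comap_map_eq_self (by rw [QuotientGroup.ker_mk']; exact hZF)] at h'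
  have hinF : ∀ y ∈ S0, (∀ g, g * y * g⁻¹ * y⁻¹ ∈ F) → y ∈ F := by
    intro y hy h
    refine (C'.eq_one y hy).1 (fixed_only_one hL hV' C'.v2 ρ' hρ' fun l => ?_)
    obtain ⟨g, rfl⟩ := N.surj l
    rw [← C'.equiv g y hy]
    have h1 := (C'.eq_one _ (mul_mem (C'.conj_mem hy g) (inv_mem hy))).2 (h g)
    rw [C'.map_mul _ (C'.conj_mem hy g) _ (inv_mem hy), C'.map_inv hy, mul_eq_one_iff_eq_inv,
      inv_eq_of_mul_eq_one_right (C'.v2 _)] at h1
    exact h1
  have hkerS : ∀ m ∈ π.ker, m ∉ S0 → ∀ x ∈ π.ker, x ∈ S0 ∨ m⁻¹ * x ∈ S0 := by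
    intro m hm hmS x hx
    by_cases h : x ∈ S0
    · exact Or.inl h
    refine Or.inr (mem_subgroupOf.1 ((mul_mem_iff_of_index_two hS0idx).2
      ⟨fun h' => absurd ?_ hmS, fun h' => absurd (mem_subgroupOf.1 h') h⟩ :
      (⟨m, hm⟩ : π.ker)⁻¹ * ⟨x, hx⟩ ∈ S0.subgroupOf π.ker))
    exact inv_mem_iff.1 (mem_subgroupOf.1 h')
  -- squares of odd elements commute with them
  have hoddF : ∀ m ∈ π.ker, m ∉ S0 → ∀ x ∈ F, m * x = x * m := by
    intro m hm hmS x hx
    have hmm : m * m ∉ U := fun h => hmS ((hS0iff m hm).2 h)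
    rcases hcosF _ (hsq m hm) hmm x hx with h | h
    · exact N.central m hm x h
    · calc m * x = (m * m) * (m * ((m * m)⁻¹ * x)) := by group
        _ = (m * m) * (((m * m)⁻¹ * x) * m) := by rw [N.central m hm _ h]
        _ = x * m := by group
  refine N.no_sixteen hL hsec S0 hS0le (hUF.trans hFS) ?_ (fun m hm => (hS0iff m (hS0le hm)).1 hm)
    (fun c hc m hm => hcomm c hc m (hS0le hm)) ?_ ?_ ?_ ?_
  · rw [← relIndex_mul_relIndex U F S0 hUF hFS, hidx2, hFS8]
  · by_contra hcon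
    push Not at hcon
    apply hρ'
    refine MonoidHom.ext fun l => MulEquiv.ext fun v => ?_
    obtain ⟨g, rfl⟩ := N.surj l
    obtain ⟨m, hm, rfl⟩ := C'.surj v
    have h1 := (C'.eq_one _ (mul_mem (C'.conj_mem hm g) (inv_mem hm))).2 (hUF (hcon g m hm))
    rw [C'.map_mul _ (C'.conj_mem hm g) _ (inv_mem hm), C'.map_inv hm, mul_eq_one_iff_eq_inv,
      inv_eq_of_mul_eq_one_right (C'.v2 _)] at h1
    rw [← C'.equiv g m hm, h1]
    rfl
  · -- fourth powers
    intro g hg4 hg2
    by_contra hf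
    let W := {v : V // ∀ m ∈ S0, P m ≠ v}
    have hWinv : ∀ (l : L) (v : V), (∀ m ∈ S0, P m ≠ v) → ∀ m ∈ S0, P m ≠ ρ l v := by
      intro l v hv m hm h
      obtain ⟨g, rfl⟩ := N.surj l
      refine hv _ (hS0n.conj_mem m hm g⁻¹) ?_
      rw [C.equiv g⁻¹ m (hS0le hm), h, map_inv, map_inv, MulAut.inv_apply_self]
    letI : MulAction L W :=
      { smul := fun l v => ⟨ρ l v.1, hWinv l v.1 v.2⟩
        one_smul := fun v => Subtype.ext (by show ρ 1 v.1 = v.1; rw [map_one, MulAut.one_apply])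
        mul_smul := fun a b v => Subtype.ext (by show ρ (a * b) v.1 = ρ a (ρ b v.1); rw [map_mul, MulAut.mul_apply]) }
    have hW8 : Nat.card W = 8 := by
      haveI := Fintype.ofFinite V
      let S : Subgroup V :=
        { carrier := {v | ∃ m ∈ S0, P m = v}
          one_mem' := ⟨1, one_mem _, C.map_one⟩
          mul_mem' := by
            rintro _ _ ⟨a, ha, rfl⟩ ⟨b, hb, rfl⟩
            exact ⟨a * b, mul_mem ha hb, C.map_mul _ (hS0le ha) _ (hS0le hb)⟩
          inv_mem' := by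
            rintro _ ⟨a, ha, rfl⟩
            exact ⟨a, ha, (inv_eq_of_mul_eq_one_right (C.v2 _)).symm⟩ }
      have hS : Nat.card S = 8 := by
        let φ : S0 →* V := MonoidHom.mk' (fun m => P m) fun a b => C.map_mul _ (hS0le a.2) _ (hS0le b.2)
        have hk : φ.ker = F.subgroupOf S0 := by
          ext m
          rw [MonoidHom.mem_ker, mem_subgroupOf]
          exact C.eq_one m (hS0le m.2)
        have hr : φ.range = S := by
          ext v
          exact ⟨fun ⟨m, hm⟩ => ⟨m, m.2, hm⟩, fun ⟨m, hm, h⟩ => ⟨⟨m, hm⟩, h⟩⟩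
        rw [← hr, ← index_ker, hk]
        exact hFS8
      have : Nat.card W = Nat.card {v : V // v ∉ S} := Nat.card_congr (Equiv.subtypeEquivRight fun v =>
        ⟨fun h ⟨m, hm, he⟩ => h m hm he, fun h m hm he => h ⟨m, hm, he⟩⟩)
      rw [this, Nat.card_eq_fintype_card, Fintype.card_subtype_compl, ← Nat.card_eq_fintype_card,
        ← Nat.card_eq_fintype_card, hV, hS]
    have hfW : ∀ m ∈ S0, P m ≠ P (g * g * (g * g)) := by
      intro m hm h
      have := mul_mem (inv_mem (hFS (C.div_mem (hS0le hm) hg4 h))) hm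
      rw [mul_inv_rev, inv_inv, mul_assoc, inv_mul_cancel, mul_one] at this
      exact hf this
    have hfixP : ρ (π (g * g)) (P (g * g * (g * g))) = P (g * g * (g * g)) := by
      rw [← C.equiv _ _ hg4]
      congr 1
      simp only [mul_assoc, mul_inv_rev, mul_inv_cancel_left, mul_inv_cancel, mul_one]
    obtain ⟨⟨ū, hū⟩, hūfix⟩ := exists_fixed_point hL hW8 (s := π (g * g))
      (by rw [← map_mul]; exact MonoidHom.mem_ker.1 hg4) (fun h => hg2 (MonoidHom.mem_ker.2 h))
      (x := (⟨P (g * g * (g * g)), hfW⟩ : W)) (Subtype.ext hfixP)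
    obtain ⟨m, hm, rfl⟩ := C.surj ū
    have hmS : m ∉ S0 := fun h => hū m h rfl
    refine hnofix _ (hsq m hm) (fun h => hmS ((hS0iff m hm).2 h)) fun h => ?_
    set x := h * m * h⁻¹ * m⁻¹ with hx
    have hxF : x ∈ F := C.div_mem (C.conj_mem hm h) hm (by
      rw [C.equiv h m hm]; exact congrArg Subtype.val (hūfix (π h)))
    calc h * (m * m) * h⁻¹ = x * m * (x * m) := by rw [hx]; group
      _ = x * (m * x) * m := by group
      _ = x * (x * m) * m := by rw [hoddF m hm hmS x hxF]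
      _ = x * x * (m * m) := by group
      _ = m * m := by rw [hF2 x hxF, one_mul]
  · intro z hz hzfix hzc c hc
    have hzF : z ∈ F := hinF z hz fun g => hUF (hzfix g)
    by_cases hcS : c ∈ S0
    · exact hzc c hcS
    · exact (hoddF c hc hcS z hzF).symm
  · intro y hy hyU _ hyfix
    exact hnofix y (hinF y hy fun g => by rw [hyfix, mul_inv_cancel]; exact one_mem _) hyU hyfix

end CfsgLib.RankFourLinear
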