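import Cfsg.Agent.Lib.InvChar.RankFourLinear.Coord

/-!
# A homocyclic normal subgroup of exponent four yields an elementary section of rank five
-/

set_option autoImplicit false
set_option linter.style.haveILetI false
set_option linter.unusedSectionVars false

open Subgroup
open CfsgLib.RankFourAltFive (SecLE)

universe u v

namespace CfsgLib.RankFourLinear

variable {G : Type u} [Group G] [Finite G] {L : Type v} [Group L] [Finite L] [IsSimpleGroup L]
  (hL : Nat.card L = 168) {π : G →* L}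
variable {V : Type u} [CommGroup V] [Finite V] {M U : Subgroup G} {ρ : L →* MulAut V} {P : G → V}

/-- An abelian normal subgroup, homocyclic of exponent four and rank three. -/
structure Homocyclic (π : G →* L) (M U : Subgroup G) : Prop where
  surj : Function.Surjective π
  le : M ≤ π.ker
  normal : M.Normal
  normal' : U.Normal
  le' : U ≤ M
  comm : ∀ a ∈ M, ∀ b ∈ M, a * b = b * a
  sq_mem : ∀ m ∈ M, m * m ∈ U
  of_sq : ∀ m ∈ M, m * m = 1 → m ∈ U
  index : U.relIndex M = 8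
  card : Nat.card U = 8
  exp : ∀ w ∈ U, w * w = 1
  moves : ∃ g, ∃ m ∈ M, g * m * g⁻¹ * m⁻¹ ∉ U
  triv : ∀ c ∈ π.ker, ∀ m ∈ M, c * m * c⁻¹ * m⁻¹ ∈ U

variable (HM : Homocyclic π M U) (C : Coord π M U ρ P)

/-- The squares over the first vector of a frame. -/
def axisSq (HM : Homocyclic π M U) (C : Coord π M U ρ P) (e : V3 ≃* V) : Subgroup G where
  carrier := {y | ∃ m ∈ M, (P m = 1 ∨ P m = e (pt 1 0 0)) ∧ m * m = y}
  one_mem' := ⟨1, one_mem M, Or.inl C.map_one, one_mul 1⟩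
  mul_mem' := by
    rintro _ _ ⟨a, ha, hPa, rfl⟩ ⟨b, hb, hPb, rfl⟩
    refine ⟨a * b, mul_mem ha hb, ?_, ?_⟩
    · rw [C.map_mul _ ha _ hb]
      rcases hPa with h | h <;> rcases hPb with h' | h' <;> simp [h, h', C.v2]
    · rw [show a * b * (a * b) = a * (b * a) * b by group, HM.comm b hb a ha]; group
  inv_mem' := by
    rintro _ ⟨a, ha, hPa, rfl⟩
    exact ⟨a⁻¹, inv_mem ha, by rwa [C.map_inv ha], by group⟩

include HM C

theorem sq_unique {a b : G} (ha : a ∈ M) (hb : b ∈ M) (h : P a = P b) : a * a = b * b := by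
  have hu := C.div_mem ha hb h
  have h1 := HM.exp _ hu
  calc a * a = a * b⁻¹ * b * (a * b⁻¹ * b) := by group
    _ = a * b⁻¹ * (b * (a * b⁻¹)) * b := by group
    _ = a * b⁻¹ * ((a * b⁻¹) * b) * b := by rw [HM.comm b hb _ (HM.le' hu)]
    _ = (a * b⁻¹) * (a * b⁻¹) * (b * b) := by group
    _ = b * b := by rw [h1, one_mul]

theorem sq_inj {a b : G} (ha : a ∈ M) (hb : b ∈ M) (h : a * a = b * b) : P a = P b := by
  have hu : a * b⁻¹ ∈ U := HM.of_sq _ (mul_mem ha (inv_mem hb)) (by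
    rw [show a * b⁻¹ * (a * b⁻¹) = a * (b⁻¹ * a) * b⁻¹ by group, HM.comm b⁻¹ (inv_mem hb) a ha,
      show a * (a * b⁻¹) * b⁻¹ = a * a * (b * b)⁻¹ by group, h, mul_inv_cancel])
  have h1 := (C.eq_one _ (mul_mem ha (inv_mem hb))).2 hu
  rw [C.map_mul _ ha _ (inv_mem hb), C.map_inv hb, mul_eq_one_iff_eq_inv, inv_eq_of_mul_eq_one_right (C.v2 _)] at h1
  exact h1

theorem exists_sqrt {u : G} (hu : u ∈ U) : ∃ m ∈ M, m * m = u := by
  let f : M →* U := MonoidHom.mk' (fun m => ⟨(m : G) * m, HM.sq_mem _ m.2⟩) fun a b => by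
    refine Subtype.ext ?_
    show (a : G) * b * ((a : G) * b) = (a : G) * a * ((b : G) * b)
    rw [show (a : G) * b * ((a : G) * b) = (a : G) * ((b : G) * a) * b by group, HM.comm _ b.2 _ a.2]; group
  have hker : f.ker = U.subgroupOf M := by
    ext m
    rw [MonoidHom.mem_ker, mem_subgroupOf]
    refine ⟨fun h => HM.of_sq _ m.2 (congrArg Subtype.val h), fun h => Subtype.ext (HM.exp _ h)⟩
  have hr : Nat.card f.range = Nat.card U := by
    rw [← index_ker, hker, HM.card]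
    exact HM.index
  obtain ⟨m, hm⟩ := (eq_top_of_card_eq f.range hr ▸ mem_top (⟨u, hu⟩ : U) : (⟨u, hu⟩ : U) ∈ f.range)
  exact ⟨m, m.2, congrArg Subtype.val hm⟩

theorem axisSq_fixed {e : V3 ≃* V} {φ : MulAut V3} (hφ : φ (pt 1 0 0) = pt 1 0 0) {g : G}
    (hg : Frames ρ e φ (π g)) {y : G} (hy : y ∈ axisSq HM C e) : g * y * g⁻¹ = y := by
  obtain ⟨m, hm, hP, rfl⟩ := hy
  rw [← conj_mul]
  refine sq_unique HM C (C.conj_mem hm g) hm ?_
  rw [C.equiv g m hm]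
  rcases hP with h | h <;> rw [h]
  · exact map_one _
  · rw [hg, hφ]

theorem fixed_mem_axisSq {e : V3 ≃* V} {g : G} (hg : Frames ρ e rr (π g)) {y : G} (hy : y ∈ U)
    (hfix : g * y * g⁻¹ = y) : y ∈ axisSq HM C e := by
  obtain ⟨m, hm, rfl⟩ := exists_sqrt HM C hy
  rw [← conj_mul] at hfix
  have h := sq_inj HM C (C.conj_mem hm g) hm hfix
  refine ⟨m, hm, ?_, rfl⟩
  have h' := C.frames hg hm
  rw [h, eq_comm] at h'
  rcases (rr_fix _).1 h' with h'' | h'' <;> rw [MulEquiv.symm_apply_eq] at h''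
  · exact Or.inl (h''.trans (map_one e))
  · exact Or.inr h''

/-- Norms of vectors on the axis lie over the centre. -/
theorem norm_mem {e : V3 ≃* V} {g x : G} (hg : Frames ρ e rr (π g)) (h4 : g * g * (g * g) ∈ M)
    (hx : ∃ μ ∈ M, x = g * g * μ) {n : G} (hn : n ∈ M) (hax : (e.symm (P n)).toAdd.2.2 = 0) :
    x * n * x⁻¹ * n ∈ axisSq HM C e := by
  obtain ⟨μ, hμ, rfl⟩ := hx
  have hσ : ∀ m ∈ M, g * g * μ * m * (g * g * μ)⁻¹ = g * (g * m * g⁻¹) * g⁻¹ := fun m hm => by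
    calc g * g * μ * m * (g * g * μ)⁻¹ = g * g * (μ * m) * μ⁻¹ * (g * g)⁻¹ := by group
      _ = g * (g * m * g⁻¹) * g⁻¹ := by rw [HM.comm μ hμ m hm]; group
  rw [hσ n hn]
  obtain ⟨y, hy⟩ := (rr_diff _).2 hax
  obtain ⟨k, hk, hPk⟩ := C.surj (e y)
  have hcm : ∀ a ∈ M, g * a * g⁻¹ ∈ M := fun a ha => C.conj_mem ha g
  set n0 := g * k * g⁻¹ * k⁻¹ with hn0
  have hn0M : n0 ∈ M := mul_mem (hcm k hk) (inv_mem hk)
  have hPn : P n0 = P n := by
    rw [hn0, C.map_mul _ (hcm k hk) _ (inv_mem hk), C.map_inv hk, C.equiv g k hk, hPk, hg,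
      ← MulEquiv.map_mul, hy, MulEquiv.apply_symm_apply]
  obtain ⟨m, hm, hmu⟩ := exists_sqrt HM C (C.div_mem hn hn0M hPn.symm)
  let D : G → G := fun a => g * (g * a * g⁻¹) * g⁻¹ * a
  have hDmul : ∀ a ∈ M, ∀ b ∈ M, D (a * b) = D a * D b := by
    intro a ha b hb
    calc g * (g * (a * b) * g⁻¹) * g⁻¹ * (a * b)
        = g * (g * a * g⁻¹) * g⁻¹ * ((g * (g * b * g⁻¹) * g⁻¹) * a) * b := by group
      _ = g * (g * a * g⁻¹) * g⁻¹ * (a * (g * (g * b * g⁻¹) * g⁻¹)) * b := by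
        rw [HM.comm _ (hcm _ (hcm b hb)) a ha]
      _ = D a * D b := by simp only [D]; group
  show D n ∈ axisSq HM C e
  rw [show n = (m * m) * n0 by rw [hmu, inv_mul_cancel_right], hDmul _ (mul_mem hm hm) _ hn0M]
  refine mul_mem ?_ ?_
  · refine ⟨g * (g * m * g⁻¹) * g⁻¹ * m, mul_mem (hcm _ (hcm m hm)) hm, ?_, ?_⟩
    · rw [C.map_mul _ (hcm _ (hcm m hm)) _ hm]
      have e1 := C.frames hg (hcm m hm)
      rw [C.frames hg hm] at e1
      rcases rr_sq_mul (e.symm (P m)) with h | h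
      · rw [← e1, ← MulEquiv.map_mul, MulEquiv.symm_apply_eq, map_one] at h; exact Or.inl h
      · rw [← e1, ← MulEquiv.map_mul, MulEquiv.symm_apply_eq] at h; exact Or.inr h
    · show g * (g * m * g⁻¹) * g⁻¹ * m * (g * (g * m * g⁻¹) * g⁻¹ * m) = g * (g * (m * m) * g⁻¹) * g⁻¹ * (m * m)
      calc g * (g * m * g⁻¹) * g⁻¹ * m * (g * (g * m * g⁻¹) * g⁻¹ * m)
          = g * (g * m * g⁻¹) * g⁻¹ * (m * (g * (g * m * g⁻¹) * g⁻¹)) * m := by group
        _ = g * (g * m * g⁻¹) * g⁻¹ * ((g * (g * m * g⁻¹) * g⁻¹) * m) * m := by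
          rw [HM.comm m hm _ (hcm _ (hcm m hm))]
        _ = g * (g * (m * m) * g⁻¹) * g⁻¹ * (m * m) := by group
  · set w := g * (g * k * g⁻¹) * g⁻¹ * k with hw
    have hwM : w ∈ M := mul_mem (hcm _ (hcm k hk)) hk
    have hσw : g * (g * w * g⁻¹) * g⁻¹ = w := by
      calc g * (g * (g * (g * k * g⁻¹) * g⁻¹ * k) * g⁻¹) * g⁻¹
          = (g * g * (g * g)) * k * (g * g * (g * g))⁻¹ * (g * (g * k * g⁻¹) * g⁻¹) := by group
        _ = k * (g * (g * k * g⁻¹) * g⁻¹) := by rw [HM.comm _ h4 k hk, mul_inv_cancel_right]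
        _ = w := by rw [hw, HM.comm _ hk _ (hcm _ (hcm k hk))]
    have e1 := C.frames hg (hcm k hk)
    rw [C.frames hg hk] at e1
    have hPw : P w = 1 ∨ P w = e (pt 1 0 0) := by
      rw [hw, C.map_mul _ (hcm _ (hcm k hk)) _ hk]
      rcases rr_sq_mul (e.symm (P k)) with h | h
      · rw [← e1, ← MulEquiv.map_mul, MulEquiv.symm_apply_eq, map_one] at h; exact Or.inl h
      · rw [← e1, ← MulEquiv.map_mul, MulEquiv.symm_apply_eq] at h; exact Or.inr h
    have hN : g * w * g⁻¹ * w ∈ axisSq HM C e := by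
      refine fixed_mem_axisSq HM C hg ?_ ?_
      · rw [← C.eq_one _ (mul_mem (hcm w hwM) hwM), C.map_mul _ (hcm w hwM) _ hwM, C.equiv g w hwM]
        rcases hPw with h | h <;> rw [h]
        · rw [MulEquiv.map_one, one_mul]
        · rw [hg, (rr_fix _).2 (Or.inr rfl), C.v2]
      · calc g * (g * w * g⁻¹ * w) * g⁻¹ = g * (g * w * g⁻¹) * g⁻¹ * (g * w * g⁻¹) := by group
          _ = g * w * g⁻¹ * w := by rw [hσw, HM.comm w hwM _ (hcm w hwM)]
    have e2 : D n0 = (g * w * g⁻¹ * w) * (w * w)⁻¹ := by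
      have hww : g * w * g⁻¹ * w⁻¹ = g * w * g⁻¹ * w * (w * w)⁻¹ := by group
      rw [← hww]
      simp only [D, hn0, hw]
      calc g * (g * (g * k * g⁻¹ * k⁻¹) * g⁻¹) * g⁻¹ * (g * k * g⁻¹ * k⁻¹)
          = g * (g * (g * k * g⁻¹) * g⁻¹) * g⁻¹ * ((g * (g * k * g⁻¹) * g⁻¹)⁻¹ * ((g * k * g⁻¹) * k⁻¹)) := by group
        _ = g * (g * (g * k * g⁻¹) * g⁻¹) * g⁻¹ * (((g * k * g⁻¹) * k⁻¹) * (g * (g * k * g⁻¹) * g⁻¹)⁻¹) := by
          rw [HM.comm _ (inv_mem (hcm _ (hcm k hk))) _ (mul_mem (hcm k hk) (inv_mem hk))]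
        _ = g * (g * (g * k * g⁻¹) * g⁻¹ * k) * g⁻¹ * (g * (g * k * g⁻¹) * g⁻¹ * k)⁻¹ := by group
    rw [e2]
    exact mul_mem hN (inv_mem ⟨w, hwM, hPw, rfl⟩)

/-- An involution with lift squaring over the centre. -/
theorem exists_involution {e : V3 ≃* V} {y : G} (hy : Frames ρ e bb (π y)) (hy2 : y * y ∈ M)
    (hyn : ∀ n ∈ M, (e.symm (P n)).toAdd.2.1 = 0 → y * n * y⁻¹ * n ∈ axisSq HM C e)
    {ge : G} (hge : Frames ρ (ps.trans e) rr (π ge)) (hge4 : ge * ge * (ge * ge) ∈ M)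
    (h4 : ∀ g, Frames ρ e rr (π g) → g * g * (g * g) ∈ M) :
    ∃ g x, Frames ρ e rr (π g) ∧ (∃ μ ∈ M, x = g * g * μ) ∧ x * x ∈ axisSq HM C e ∧ y * g * y⁻¹ * g ∈ M := by
  set xe := ge * ge with hxe
  have hxeF : Frames ρ e (bb * rr) (π xe) := by
    intro v
    have h := hge.mul ρ hge (ps.symm v)
    rw [← map_mul, ← hxe] at h
    simpa [MulEquiv.trans_apply, ps_conj] using h
  set g := y⁻¹ * xe with hgdef
  have hg : Frames ρ e rr (π g) := by
    intro v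
    rw [hgdef, map_mul, map_inv, map_mul, MulAut.mul_apply, hxeF, map_inv, MulAut.inv_def, MulEquiv.symm_apply_eq, hy]
    rfl
  have hcm : ∀ a ∈ M, ∀ h : G, h * a * h⁻¹ ∈ M := fun a ha h => C.conj_mem ha h
  have hg4 := h4 g hg
  have hsame : ∀ c ∈ M, ∀ a ∈ M, c * a * c⁻¹ = a := fun c hc a ha => by rw [HM.comm c hc a ha, mul_inv_cancel_right]
  have hgg : ∀ a, g * (g * a * g⁻¹) * g⁻¹ = g * g * a * (g * g)⁻¹ := fun a => by group
  -- the square of `g` commutes with `y` on the module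
  have hcommy : ∀ a ∈ M, y * (g * g * a * (g * g)⁻¹) * y⁻¹ = g * g * (y * a * y⁻¹) * (g * g)⁻¹ := by
    intro a ha
    set A := xe * (y * (xe * a * xe⁻¹) * y⁻¹) * xe⁻¹ with hA
    have hAM : A ∈ M := hcm _ (hcm _ (hcm a ha xe) y) xe
    have e0 : g * g * A * (g * g)⁻¹ = y * a * y⁻¹ := by
      have h1 : y⁻¹ * (xe * xe) * y ∈ M := by simpa using hcm _ hge4 y⁻¹
      calc g * g * A * (g * g)⁻¹
          = y⁻¹ * xe * y⁻¹ * ((xe * xe) * (y * (xe * a * xe⁻¹) * y⁻¹) * (xe * xe)⁻¹) * y * xe⁻¹ * y := by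
            rw [hA, hgdef]; group
        _ = y⁻¹ * xe * y⁻¹ * (y * (xe * a * xe⁻¹) * y⁻¹) * y * xe⁻¹ * y := by
            rw [hsame _ hge4 _ (hcm _ (hcm a ha xe) y)]
        _ = y⁻¹ * ((xe * xe) * a * (xe * xe)⁻¹) * y := by group
        _ = (y * y)⁻¹ * (y * a * y⁻¹) * (y * y)⁻¹⁻¹ := by rw [hsame _ hge4 a ha]; group
        _ = y * a * y⁻¹ := hsame _ (inv_mem hy2) _ (hcm a ha y)
    calc y * (g * g * a * (g * g)⁻¹) * y⁻¹
        = xe * (y⁻¹ * (xe * a * xe⁻¹) * y) * xe⁻¹ := by rw [hgdef]; group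
      _ = A := by
        rw [hA, show y⁻¹ * (xe * a * xe⁻¹) * y = (y * y)⁻¹ * (y * (xe * a * xe⁻¹) * y⁻¹) * (y * y)⁻¹⁻¹ by group,
          hsame _ (inv_mem hy2) _ (hcm _ (hcm a ha xe) y)]
      _ = g * g * (g * g * A * (g * g)⁻¹) * (g * g)⁻¹ := by
        conv_lhs => rw [← hsame _ hg4 A hAM]
        group
      _ = g * g * (y * a * y⁻¹) * (g * g)⁻¹ := by rw [e0]
  obtain ⟨k, hk, hPk⟩ := C.surj (e (pt 0 0 1))
  set w := g * g * k * (g * g)⁻¹ * k with hw
  have hwM : w ∈ M := mul_mem (hcm k hk _) hk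
  have hg2 : Frames ρ e (rr * rr) (π (g * g)) := by rw [map_mul]; exact hg.mul ρ hg
  have hPw : P w = e (pt 1 0 0) := by
    rw [hw, C.map_mul _ (hcm k hk _) _ hk, C.equiv _ k hk, hPk, hg2, ← MulEquiv.map_mul]
    rfl
  have hwK : w * w ∈ axisSq HM C e := ⟨w, hwM, Or.inr hPw, rfl⟩
  have hσw : g * g * w * (g * g)⁻¹ = w := by
    calc g * g * (g * g * k * (g * g)⁻¹ * k) * (g * g)⁻¹
        = (g * g * (g * g)) * k * (g * g * (g * g))⁻¹ * (g * g * k * (g * g)⁻¹) := by group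
      _ = k * (g * g * k * (g * g)⁻¹) := by rw [hsame _ hg4 k hk]
      _ = w := HM.comm _ hk _ (hcm k hk _)
  have hσK : ∀ c ∈ axisSq HM C e, g * g * c * (g * g)⁻¹ = c := fun c hc => axisSq_fixed HM C (by decide) hg2 hc
  have hbw : y * w * y⁻¹ = w⁻¹ := by
    have hc : y * k * y⁻¹ * k ∈ axisSq HM C e := hyn k hk (by rw [hPk, MulEquiv.symm_apply_apply]; rfl)
    set c := y * k * y⁻¹ * k with hcdef
    have hc2 : c * c = 1 := by
      obtain ⟨m, hm, -, hm'⟩ := hc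
      rw [← hm']; exact HM.exp _ (HM.sq_mem m hm)
    have hcM : c ∈ M := mul_mem (hcm k hk y) hk
    have hbk : y * k * y⁻¹ = c * k⁻¹ := by rw [hcdef, mul_inv_cancel_right]
    calc y * w * y⁻¹ = y * (g * g * k * (g * g)⁻¹) * y⁻¹ * (y * k * y⁻¹) := by rw [hw]; group
      _ = g * g * (y * k * y⁻¹) * (g * g)⁻¹ * (y * k * y⁻¹) := by rw [hcommy k hk]
      _ = g * g * c * (g * g)⁻¹ * ((g * g * k⁻¹ * (g * g)⁻¹) * c) * k⁻¹ := by rw [hbk]; group
      _ = c * (c * (g * g * k⁻¹ * (g * g)⁻¹)) * k⁻¹ := by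
        rw [hσK c hc, HM.comm _ (hcm _ (inv_mem hk) _) c hcM]
      _ = (c * c) * (k * (g * g * k * (g * g)⁻¹))⁻¹ := by simp only [mul_inv_rev, inv_inv, mul_assoc, inv_mul_cancel_left, mul_inv_cancel_left]
      _ = w⁻¹ := by rw [hc2, one_mul, HM.comm _ hk _ (hcm k hk _)]
  have hφw : g * w * g⁻¹ = w := by
    have hN : g * w * g⁻¹ * w ∈ axisSq HM C e := by
      refine fixed_mem_axisSq HM C hg ?_ ?_
      · rw [← C.eq_one _ (mul_mem (hcm w hwM g) hwM), C.map_mul _ (hcm w hwM g) _ hwM, C.equiv g w hwM, hPw, hg,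
          (rr_fix _).2 (Or.inr rfl), C.v2]
      · calc g * (g * w * g⁻¹ * w) * g⁻¹ = g * g * w * (g * g)⁻¹ * (g * w * g⁻¹) := by group
          _ = g * w * g⁻¹ * w := by rw [hσw, HM.comm w hwM _ (hcm w hwM g)]
    obtain ⟨m, hm, hPm, hmm⟩ := hN
    rcases hPm with h | h
    · exfalso
      have h1 : g * w * g⁻¹ = w⁻¹ := eq_inv_of_mul_eq_one_left (by
        rw [← hmm, sq_unique HM C hm (one_mem M) (h.trans C.map_one.symm), one_mul])
      have h2 : xe * w * xe⁻¹ = w := by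
        calc xe * w * xe⁻¹ = y * (g * w * g⁻¹) * y⁻¹ := by rw [hgdef]; group
          _ = (y * w * y⁻¹)⁻¹ := by rw [h1]; group
          _ = w := by rw [hbw, inv_inv]
      have h3 := norm_mem HM C hge hge4 (x := xe) ⟨1, one_mem M, by rw [mul_one]⟩ hwM (by
        rw [hPw]; simp [MulEquiv.symm_trans_apply]; rfl)
      rw [h2] at h3
      obtain ⟨m', hm', hPm', hmm'⟩ := h3
      have h4 := sq_inj HM C hm' hwM hmm'
      rw [hPw] at h4
      rcases hPm' with h5 | h5 <;> rw [h5] at h4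
      · exact absurd (e.map_eq_one_iff.1 h4.symm) (by decide)
      · exact absurd (e.injective h4) (by decide)
    · rw [sq_unique HM C hm hwM (h.trans hPw.symm)] at hmm
      exact mul_right_cancel hmm.symm
  have hX : g * (g * g * (g * g)) * g⁻¹ = g * g * (g * g) := by group
  have hfix : e.symm (P (g * g * (g * g))) = 1 ∨ e.symm (P (g * g * (g * g))) = pt 1 0 0 := by
    refine (rr_fix _).1 ?_
    rw [← C.frames hg hg4, hX]
  rcases hfix with h | h <;> rw [MulEquiv.symm_apply_eq] at h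
  · refine ⟨g, g * g, hg, ⟨1, one_mem M, by rw [mul_one]⟩, fixed_mem_axisSq HM C hg
      ((C.eq_one _ hg4).1 (h.trans (map_one e))) hX, ?_⟩
    rw [hgdef, show y * (y⁻¹ * xe) * y⁻¹ * (y⁻¹ * xe) = xe * (y * y)⁻¹ * xe⁻¹ * (xe * xe) by group]
    exact mul_mem (hcm _ (inv_mem hy2) xe) hge4
  · refine ⟨g, g * g * k⁻¹, hg, ⟨k⁻¹, inv_mem hk, rfl⟩, ?_, ?_⟩
    · have e1 : g * g * k⁻¹ * (g * g * k⁻¹) = g * g * (g * g) * w⁻¹ := by
        calc g * g * k⁻¹ * (g * g * k⁻¹) = (g * g * k⁻¹ * (g * g)⁻¹) * (g * g * (g * g)) * k⁻¹ := by simp only [mul_inv_rev, inv_inv, mul_assoc, inv_mul_cancel_left, mul_inv_cancel_left]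
          _ = (g * g * (g * g)) * (g * g * k⁻¹ * (g * g)⁻¹) * k⁻¹ := by
            rw [HM.comm _ (hcm _ (inv_mem hk) _) _ hg4]
          _ = g * g * (g * g) * (k * (g * g * k * (g * g)⁻¹))⁻¹ := by simp only [mul_inv_rev, inv_inv, mul_assoc, inv_mul_cancel_left, mul_inv_cancel_left]
          _ = g * g * (g * g) * w⁻¹ := by rw [HM.comm _ hk _ (hcm k hk _)]
      rw [e1]
      refine fixed_mem_axisSq HM C hg ?_ ?_
      · rw [← C.eq_one _ (mul_mem hg4 (inv_mem hwM)), C.map_mul _ hg4 _ (inv_mem hwM), C.map_inv hwM, h, hPw, C.v2]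
      · calc g * (g * g * (g * g) * w⁻¹) * g⁻¹ = g * (g * g * (g * g)) * g⁻¹ * (g * w * g⁻¹)⁻¹ := by group
          _ = _ := by rw [hX, hφw]
    · rw [hgdef, show y * (y⁻¹ * xe) * y⁻¹ * (y⁻¹ * xe) = xe * (y * y)⁻¹ * xe⁻¹ * (xe * xe) by group]
      exact mul_mem (hcm _ (inv_mem hy2) xe) hge4

omit HM C

include hL in
/-- The section of rank five. -/
theorem Homocyclic.false_of_fourth {M U : Subgroup G} (HM : Homocyclic π M U) (hsec : SecLE G)
    {V : Type u} [CommGroup V] [Finite V] {ρ : L →* MulAut V} {P : G → V} (C : Coord π M U ρ P)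
    (h4 : ∀ (e : V3 ≃* V) (g : G), Frames ρ e rr (π g) → g * g * (g * g) ∈ M) : False := by
  classical
  have hV : Nat.card V = 8 := C.card.trans HM.index
  have hρ : ρ ≠ 1 := C.ne_one HM.moves
  obtain ⟨a, b, hab⟩ := Nat.card_pos_iff.1 (show 0 < Nat.card V by omega) |>.1.elim fun v =>
    (⟨v, exists_ne_pair hV v⟩ : ∃ a : V, ∃ b : V, b ≠ 1 ∧ b ≠ a)
  obtain ⟨e, -⟩ := exists_frame_one hV C.v2 hab.1
  have hlift : ∀ (e : V3 ≃* V) (φ : MulAut V3), ∃ g, Frames ρ e φ (π g) := by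
    intro e φ
    obtain ⟨l, hl⟩ := exists_frames hL hV C.v2 ρ hρ e φ
    obtain ⟨g, rfl⟩ := HM.surj l
    exact ⟨g, hl⟩
  -- the two involutions
  obtain ⟨g1, hg1⟩ := hlift e rr
  obtain ⟨ge', hge'⟩ := hlift (ps.trans (sw.trans e)) rr
  have hswsw : ∀ x, sw (sw x) = x := by decide
  have hsq : ∀ (e : V3 ≃* V) (g : G), Frames ρ e rr (π g) → Frames ρ e (rr * rr) (π (g * g)) := fun e g h => by
    rw [map_mul]; exact h.mul ρ h
  have hK : axisSq HM C (sw.trans e) = axisSq HM C e := by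
    ext y
    have : (sw.trans e) (pt 1 0 0) = e (pt 1 0 0) := congrArg e (by decide)
    show (∃ m ∈ M, (P m = 1 ∨ P m = (sw.trans e) (pt 1 0 0)) ∧ m * m = y) ↔ _
    rw [this]
    rfl
  obtain ⟨gy, y, hgy, hyμ, hy2, -⟩ := exists_involution HM C (e := sw.trans e) (y := g1 * g1)
    (fun v => by
      have := hsq e g1 hg1 (sw v)
      show ρ (π (g1 * g1)) (e (sw v)) = e (sw (bb v))
      rw [this, ← sw_conj, hswsw]; rfl)
    (h4 e g1 hg1)
    (fun n hn hax => hK ▸ norm_mem HM C hg1 (h4 e g1 hg1) ⟨1, one_mem M, by rw [mul_one]⟩ hn (by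
      have h1 : e.symm (P n) = sw ((sw.trans e).symm (P n)) := by simp
      rw [h1]; exact hax))
    hge' (h4 _ _ hge') (h4 _)
  rw [hK] at hy2
  have hyF : Frames ρ e bb (π y) := by
    obtain ⟨μ, hμ, rfl⟩ := hyμ
    intro v
    rw [map_mul, MonoidHom.mem_ker.1 (HM.le hμ), mul_one]
    have := hsq _ _ hgy (sw v)
    simp only [MulEquiv.trans_apply, hswsw] at this
    rw [this]
    exact congrArg e (sw_conj v)
  have hyn : ∀ n ∈ M, (e.symm (P n)).toAdd.2.1 = 0 → y * n * y⁻¹ * n ∈ axisSq HM C e := fun n hn hax =>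
    hK ▸ norm_mem HM C hgy (h4 _ _ hgy) hyμ hn (by
      have h1 : (sw.trans e).symm (P n) = sw (e.symm (P n)) := by
        rw [MulEquiv.symm_apply_eq]; simp [hswsw]
      rw [h1]; exact hax)
  have hyM : y * y ∈ M := by
    obtain ⟨m, hm, -, h⟩ := hy2
    exact h ▸ mul_mem hm hm
  obtain ⟨ge, hge⟩ := hlift (ps.trans e) rr
  obtain ⟨g, x, hg, hxμ, hx2, hyg⟩ := exists_involution HM C hyF hyM hyn hge (h4 _ _ hge) (h4 e)
  have hxF : Frames ρ e (rr * rr) (π x) := by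
    obtain ⟨μ, hμ, rfl⟩ := hxμ
    rw [map_mul, MonoidHom.mem_ker.1 (HM.le hμ), mul_one]
    exact hsq e g hg
  have hxn : ∀ n ∈ M, (e.symm (P n)).toAdd.2.2 = 0 → x * n * x⁻¹ * n ∈ axisSq HM C e := fun n hn hax =>
    norm_mem HM C hg (h4 e g hg) hxμ hn hax
  have hxM : x * x ∈ M := by
    obtain ⟨m, hm, -, h⟩ := hx2
    exact h ▸ mul_mem hm hm
  set z := g * y * g⁻¹ with hzdef
  have hz2 : z * z ∈ axisSq HM C e := by
    rw [hzdef, conj_mul, axisSq_fixed HM C (by decide) hg hy2]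
    exact hy2
  have hn : (x * y)⁻¹ * z ∈ M := by
    obtain ⟨μ, hμ, rfl⟩ := hxμ
    rw [hzdef, show (g * g * μ * y)⁻¹ * (g * y * g⁻¹) = y⁻¹ * μ⁻¹ * ((y * g * y⁻¹ * g)⁻¹) * y⁻¹⁻¹ by group,
      mul_assoc y⁻¹]
    exact C.conj_mem (mul_mem (inv_mem hμ) (inv_mem hyg)) y⁻¹
  set n := (x * y)⁻¹ * z with hndef
  obtain ⟨nb, hnb, hPnb⟩ := C.surj (e (pt 0 0 (e.symm (P n)).toAdd.2.2))
  set n' := n * nb⁻¹ with hn'def
  have hn' : n' ∈ M := mul_mem hn (inv_mem hnb)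
  set na := y * n' * y⁻¹ with hnadef
  have hna : na ∈ M := C.conj_mem hn' y
  have hax : (e.symm (P na)).toAdd.2.2 = 0 := by
    rw [hnadef, C.frames hyF hn', hn'def, C.map_mul _ hn _ (inv_mem hnb), C.map_inv hnb, hPnb,
      MulEquiv.map_mul, MulEquiv.symm_apply_apply]
    exact (by decide : ∀ v : V3, (bb (v * pt 0 0 v.toAdd.2.2)).toAdd.2.2 = 0) _
  have hsqn : ∀ (s m : G), s * s ∈ axisSq HM C e → s * s ∈ M → m ∈ M → s * m * s⁻¹ * m ∈ axisSq HM C e →
      s * m * (s * m) ∈ axisSq HM C e := by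
    intro s m h1 h2 hm h3
    rw [show s * m * (s * m) = s * m * s⁻¹ * ((s * s) * m) by group, HM.comm _ h2 m hm,
      show s * m * s⁻¹ * (m * (s * s)) = s * m * s⁻¹ * m * (s * s) by group]
    exact mul_mem h3 h1
  set x1 := x * na with hx1
  set y1 := y * nb with hy1
  have hx1sq : x1 * x1 ∈ axisSq HM C e := hsqn x na hx2 hxM hna (hxn na hna hax)
  have hy1sq : y1 * y1 ∈ axisSq HM C e := hsqn y nb hy2 hyM hnb (hyn nb hnb (by
    rw [hPnb, MulEquiv.symm_apply_apply]; rfl))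
  have hxy : x1 * y1 = z := by
    rw [hx1, hy1, hnadef, hn'def, hndef]; group
  -- the elements over the centre
  let T : Subgroup G :=
    { carrier := {m | m ∈ M ∧ (P m = 1 ∨ P m = e (pt 1 0 0))}
      one_mem' := ⟨one_mem M, Or.inl C.map_one⟩
      mul_mem' := fun {a b} ha hb => ⟨mul_mem ha.1 hb.1, by
        rw [C.map_mul _ ha.1 _ hb.1]
        rcases ha.2 with h | h <;> rcases hb.2 with h' | h' <;> simp [h, h', C.v2]⟩
      inv_mem' := fun {a} ha => ⟨inv_mem ha.1, by rw [C.map_inv ha.1]; exact ha.2⟩ }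
  have hTax : ∀ m ∈ T, (e.symm (P m)).toAdd.2.2 = 0 ∧ (e.symm (P m)).toAdd.2.1 = 0 := by
    intro m hm
    rcases hm.2 with h | h <;> rw [h]
    · rw [map_one]; exact ⟨rfl, rfl⟩
    · rw [MulEquiv.symm_apply_apply]; exact ⟨rfl, rfl⟩
  have hKfix : ∀ (φ : MulAut V3) (h : G), φ (pt 1 0 0) = pt 1 0 0 → Frames ρ e φ (π h) →
      ∀ k ∈ axisSq HM C e, h * k = k * h := fun φ h hφ hh k hk =>
    mul_inv_eq_iff_eq_mul.1 (axisSq_fixed HM C hφ hh hk)
  have hKM : ∀ k ∈ axisSq HM C e, k ∈ M := by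
    rintro _ ⟨m, hm, -, rfl⟩
    exact mul_mem hm hm
  have hx1F : Frames ρ e (rr * rr) (π x1) := by
    rw [hx1, map_mul, MonoidHom.mem_ker.1 (HM.le hna), mul_one]; exact hxF
  have hy1F : Frames ρ e bb (π y1) := by
    rw [hy1, map_mul, MonoidHom.mem_ker.1 (HM.le hnb), mul_one]; exact hyF
  have hTK : ∀ m ∈ T, m * m ∈ axisSq HM C e := fun m hm => ⟨m, hm.1, hm.2, rfl⟩
  have hpair : ∀ a b : G, a * a ∈ axisSq HM C e → b * b ∈ axisSq HM C e → a * b * (a * b) ∈ axisSq HM C e →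
      (∀ k ∈ axisSq HM C e, b * k = k * b) → a * b * a⁻¹ * b⁻¹ ∈ axisSq HM C e := by
    intro a b ha hb hab hbK
    rw [show a * b * a⁻¹ * b⁻¹ = (a * b * (a * b)) * (b⁻¹ * (a * a)⁻¹ * b) * (b * b)⁻¹ by group,
      show b⁻¹ * (a * a)⁻¹ * b = b⁻¹ * ((a * a)⁻¹ * b) by group, ← hbK _ (inv_mem ha), inv_mul_cancel_left]
    exact mul_mem (mul_mem hab (inv_mem ha)) (inv_mem hb)
  let S : Set G := {h | h ∈ T ∨ h = x1 ∨ h = y1}
  have hSK : ∀ a ∈ S, ∀ k ∈ axisSq HM C e, a * k = k * a := by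
    rintro a (ha | rfl | rfl) k hk
    · exact HM.comm a ha.1 k (hKM k hk)
    · exact hKfix _ _ (by decide) hx1F k hk
    · exact hKfix _ _ (by decide) hy1F k hk
  have hSsq : ∀ a ∈ S, a * a ∈ axisSq HM C e := by
    rintro a (ha | rfl | rfl)
    exacts [hTK a ha, hx1sq, hy1sq]
  have hflip : ∀ a b : G, a * b * a⁻¹ * b⁻¹ ∈ axisSq HM C e → b * a * b⁻¹ * a⁻¹ ∈ axisSq HM C e := by
    intro a b h
    have := inv_mem h
    rwa [show (a * b * a⁻¹ * b⁻¹)⁻¹ = b * a * b⁻¹ * a⁻¹ by group] at this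
  have hxT : ∀ m ∈ T, x1 * m * x1⁻¹ * m⁻¹ ∈ axisSq HM C e := fun m hm =>
    hpair x1 m hx1sq (hTK m hm) (hsqn x1 m hx1sq (hKM _ hx1sq) hm.1 (by
      rw [hx1, show x * na * m * (x * na)⁻¹ = x * (na * m * na⁻¹) * x⁻¹ by group, HM.comm na hna m hm.1,
        mul_inv_cancel_right]
      exact hxn m hm.1 (hTax m hm).1)) (hSK m (Or.inl hm))
  have hyT : ∀ m ∈ T, y1 * m * y1⁻¹ * m⁻¹ ∈ axisSq HM C e := fun m hm =>
    hpair y1 m hy1sq (hTK m hm) (hsqn y1 m hy1sq (hKM _ hy1sq) hm.1 (by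
      rw [hy1, show y * nb * m * (y * nb)⁻¹ = y * (nb * m * nb⁻¹) * y⁻¹ by group, HM.comm nb hnb m hm.1,
        mul_inv_cancel_right]
      exact hyn m hm.1 (hTax m hm).2)) (hSK m (Or.inl hm))
  have hScomm : ∀ a ∈ S, ∀ b ∈ S, a * b * a⁻¹ * b⁻¹ ∈ axisSq HM C e := by
    have hxy' : x1 * y1 * x1⁻¹ * y1⁻¹ ∈ axisSq HM C e :=
      hpair x1 y1 hx1sq hy1sq (by rw [hxy]; exact hz2) (hSK y1 (Or.inr (Or.inr rfl)))
    have hself : ∀ a : G, a * a * a⁻¹ * a⁻¹ ∈ axisSq HM C e := fun a => by simp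
    rintro a (ha | rfl | rfl) b (hb | rfl | rfl)
    · rw [HM.comm a ha.1 b hb.1, mul_inv_cancel_right, mul_inv_cancel]; exact one_mem _
    · exact hflip _ _ (hxT a ha)
    · exact hflip _ _ (hyT a ha)
    · exact hxT b hb
    · exact hself _
    · exact hxy'
    · exact hyT b hb
    · exact hflip _ _ hxy'
    · exact hself _
  have hTS : T ≤ closure S := fun m hm => subset_closure (Or.inl hm)
  have hKle : axisSq HM C e ≤ closure S := fun k hk => hTS ⟨hKM k hk, Or.inl (by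
    obtain ⟨m, hm, -, rfl⟩ := hk
    exact (C.eq_one _ (mul_mem hm hm)).2 (HM.sq_mem m hm))⟩
  have hb := hsec (closure S) (axisSq HM C e) hKle (squares_of_closure S _ hSK hSsq hScomm)
  have hKcard : Nat.card (axisSq HM C e) ≤ 2 := by
    obtain ⟨w0, hw0, hPw0⟩ := C.surj (e (pt 1 0 0))
    refine le_trans (le_of_eq (Nat.card_coe_set_eq _)) (le_trans
      (Set.ncard_le_ncard (t := ({1, w0 * w0} : Set G)) ?_ (Set.toFinite _)) ((Set.ncard_insert_le _ _).trans (by rw [Set.ncard_singleton])))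
    rintro _ ⟨m, hm, h | h, rfl⟩
    · exact Or.inl (by rw [sq_unique HM C hm (one_mem M) (h.trans C.map_one.symm), one_mul])
    · exact Or.inr (sq_unique HM C hm hw0 (h.trans hPw0.symm))
  have hT16 : 16 ≤ Nat.card T := by
    have hUT : U ≤ T := fun u hu => ⟨HM.le' hu, Or.inl ((C.eq_one u (HM.le' hu)).2 hu)⟩
    obtain ⟨w0, hw0, hPw0⟩ := C.surj (e (pt 1 0 0))
    have hne : ¬ T ≤ U := fun h => by
      have := (C.eq_one w0 hw0).2 (h ⟨hw0, Or.inr hPw0⟩)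
      rw [hPw0] at this
      exact absurd (e.map_eq_one_iff.1 this) (by decide)
    have h1 := relIndex_mul_relIndex (⊥ : Subgroup G) U T bot_le hUT
    rw [relIndex_bot_left, relIndex_bot_left, HM.card] at h1
    have h2 : U.relIndex T ≠ 1 := fun h => hne (relIndex_eq_one.1 h)
    have h3 : 0 < Nat.card T := Nat.card_pos
    rcases Nat.eq_zero_or_pos (U.relIndex T) with h0 | h0
    · rw [h0] at h1; omega
    · omega
  have hH : 4 * Nat.card T ≤ Nat.card (closure S) := by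
    let f : closure S →* L := π.comp (closure S).subtype
    have h1 := card_mul_index f.ker
    rw [index_ker] at h1
    have hTker : Nat.card T ≤ Nat.card f.ker :=
      Nat.card_le_card_of_injective (fun m : T => (⟨⟨m, hTS m.2⟩, MonoidHom.mem_ker.2
        (MonoidHom.mem_ker.1 (HM.le m.2.1))⟩ : f.ker)) fun a b h => Subtype.ext
          (congrArg (fun z : f.ker => ((z : closure S) : G)) h)
    have h4' : 4 ≤ Nat.card f.range := by
      have hmem : ∀ h ∈ closure S, π h ∈ f.range := fun h hh => ⟨⟨h, hh⟩, rfl⟩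
      have hsub : ({1, π x1, π y1, π (x1 * y1)} : Set L) ⊆ (f.range : Set L) := by
        rintro l (rfl | rfl | rfl | rfl)
        · exact one_mem _
        · exact hmem _ (subset_closure (Or.inr (Or.inl rfl)))
        · exact hmem _ (subset_closure (Or.inr (Or.inr rfl)))
        · exact hmem _ (mul_mem (subset_closure (Or.inr (Or.inl rfl))) (subset_closure (Or.inr (Or.inr rfl))))
      refine le_trans (le_of_eq ?_) ((Set.ncard_le_ncard hsub (Set.toFinite _)).trans_eq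
        (Nat.card_coe_set_eq _).symm)
      have hzF : Frames ρ e (rr * rr * bb) (π (x1 * y1)) := by rw [map_mul]; exact hx1F.mul ρ hy1F
      have h1F : Frames ρ e (1 : MulAut V3) (1 : L) := fun v => by rw [map_one]; rfl
      have sep : ∀ {φ ψ : MulAut V3} {a b : L}, Frames ρ e φ a → Frames ρ e ψ b → (¬ ∀ v, φ v = ψ v) → a ≠ b := by
        intro φ ψ a b ha hb hne h
        exact hne fun v => e.injective (by rw [← ha, ← hb, h])
      have a1 := sep h1F hx1F (by decide)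
      have a2 := sep h1F hy1F (by decide)
      have a3 := sep h1F hzF (by decide)
      have a4 := sep hx1F hy1F (by decide)
      have a5 := sep hx1F hzF (by decide)
      have a6 := sep hy1F hzF (by decide)
      rw [Set.ncard_insert_of_notMem (by simp only [Set.mem_insert_iff, Set.mem_singleton_iff, not_or]; exact ⟨a1, a2, a3⟩)
        (Set.toFinite _), Set.ncard_insert_of_notMem (by simp only [Set.mem_insert_iff, Set.mem_singleton_iff, not_or]; exact ⟨a4, a5⟩)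
        (Set.toFinite _), Set.ncard_pair a6]
    rw [← h1, mul_comm 4]
    exact Nat.mul_le_mul hTker h4'
  have h := relIndex_mul_relIndex (⊥ : Subgroup G) (axisSq HM C e) (closure S) bot_le hKle
  rw [relIndex_bot_left, relIndex_bot_left] at h
  have := Nat.mul_le_mul hKcard hb
  omega

end CfsgLib.RankFourLinear
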