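import Cfsg.Agent.Lib.InvChar.RankFourLinear.Central
import Cfsg.Agent.Lib.GammaRankOne.Two
import Cfsg.Agent.Lib.PGroup.Frattini
import Cfsg.Agent.Lib.Coprime.Commutator

/-!
# Self-centralizing two-groups of sectional rank four extended by the simple group of order 168
-/

set_option autoImplicit false
set_option linter.style.haveILetI false
set_option linter.unusedSectionVars false

open Subgroup
open CfsgLib.RankFourAltFive (SecLE pair card_pair)

universe u v

namespace CfsgLib.RankFourLinear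

variable {L : Type v} [Group L] [Finite L] [IsSimpleGroup L] (hL : Nat.card L = 168)
variable {G : Type u} [Group G] [Finite G] {π : G →* L}

/-- The subgroup generated by the squares of the kernel. -/
def sqSub (π : G →* L) : Subgroup G := closure {x | ∃ m ∈ π.ker, m * m = x}

theorem sqSub_normal : (sqSub π).Normal := by
  refine ⟨fun x hx g => ?_⟩
  induction hx using closure_induction with
  | mem y hy =>
    obtain ⟨m, hm, rfl⟩ := hy
    exact subset_closure ⟨g * m * g⁻¹, Normal.conj_mem π.normal_ker m hm g, by group⟩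
  | one => rw [mul_one, mul_inv_cancel]; exact one_mem _
  | mul y z _ _ hy hz =>
    rw [show g * (y * z) * g⁻¹ = g * y * g⁻¹ * (g * z * g⁻¹) by group]
    exact mul_mem hy hz
  | inv y _ hy =>
    rw [show g * y⁻¹ * g⁻¹ = (g * y * g⁻¹)⁻¹ by group]
    exact inv_mem hy

theorem sqSub_le : sqSub π ≤ π.ker := (closure_le _).2 fun _ ⟨_, hm, h⟩ => h ▸ mul_mem hm hm

/-- A minimal normal subgroup of the two-group kernel is central in it and elementary. -/
theorem minimal_central (hM : IsPGroup 2 π.ker) (U : Subgroup G) [U.Normal] (hU : U ≤ π.ker)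
    (hne : U ≠ ⊥) (hmin : ∀ N : Subgroup G, N.Normal → N ≤ U → N ≠ ⊥ → N = U) :
    (∀ m ∈ π.ker, ∀ w ∈ U, m * w = w * m) ∧ ∀ w ∈ U, w * w = 1 := by
  classical
  haveI : Fact (Nat.Prime 2) := ⟨Nat.prime_two⟩
  let Z : Subgroup G := U ⊓ centralizer (π.ker : Set G)
  have hZn : Z.Normal := inferInstance
  obtain ⟨z, hzU, hzc, hz1⟩ := CfsgLib.GammaRankOne.exists_mem_center_of_ne_bot hM (U.subgroupOf π.ker)
    (fun h => hne (eq_bot_iff.2 fun x hx => mem_bot.2 (by
      have h1 : (⟨x, hU hx⟩ : π.ker) ∈ U.subgroupOf π.ker := mem_subgroupOf.2 hx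
      rw [h, mem_bot] at h1
      exact congrArg Subtype.val h1)))
  have hZ : Z = U := by
    refine hmin Z hZn inf_le_left fun h => hz1 (Subtype.ext ?_)
    have : (z : G) ∈ Z := ⟨mem_subgroupOf.1 hzU, mem_centralizer_iff.2 fun m hm =>
      congrArg Subtype.val (mem_center_iff.1 hzc ⟨m, hm⟩)⟩
    exact mem_bot.1 (h ▸ this)
  have hcen : ∀ m ∈ π.ker, ∀ w ∈ U, m * w = w * m := fun m hm w hw =>
    mem_centralizer_iff.1 (hZ.symm ▸ hw : w ∈ Z).2 m hm
  let T : Subgroup G :=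
    { carrier := {w | w ∈ U ∧ w * w = 1}
      one_mem' := ⟨one_mem _, one_mul 1⟩
      mul_mem' := fun {a b} ha hb => ⟨mul_mem ha.1 hb.1, by
        rw [show a * b * (a * b) = a * (b * a) * b by group, hcen b (hU hb.1) a ha.1,
          show a * (a * b) * b = (a * a) * (b * b) by group, ha.2, hb.2, one_mul]⟩
      inv_mem' := fun {a} ha => ⟨inv_mem ha.1, by rw [← mul_inv_rev, ha.2, inv_one]⟩ }
  have hTn : T.Normal := ⟨fun w hw g => ⟨Normal.conj_mem ‹_› w hw.1 g, by
    rw [conj_mul, hw.2, mul_one, mul_inv_cancel]⟩⟩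
  obtain ⟨k, hk⟩ := (hM.to_le hU).exists_card_eq
  have hk0 : k ≠ 0 := fun h => hne (card_eq_one.1 (by rw [hk, h, pow_zero]))
  obtain ⟨t, ht⟩ := exists_prime_orderOf_dvd_card' 2 (hk ▸ dvd_pow_self 2 hk0)
  have hT : T = U := by
    refine hmin T hTn (fun w hw => hw.1) fun h => ?_
    have h2 : (t : G) * t = 1 := by
      rw [← pow_two, ← ht, ← orderOf_coe, pow_orderOf_eq_one]
    have : (t : G) ∈ T := ⟨t.2, h2⟩
    rw [h, mem_bot] at this
    have ht' : t = 1 := Subtype.ext this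
    rw [ht', orderOf_one] at ht
    omega
  exact ⟨hcen, fun w hw => (hT.symm ▸ hw : w ∈ T).2⟩

include hL in
/-- Such a subgroup has order two and is fixed, or is a natural module of order eight. -/
theorem minimal_cases (hπ : Function.Surjective π) (U : Subgroup G) [U.Normal] (hU : U ≤ π.ker)
    (hne : U ≠ ⊥) (hmin : ∀ N : Subgroup G, N.Normal → N ≤ U → N ≠ ⊥ → N = U)
    (hc : ∀ m ∈ π.ker, ∀ w ∈ U, m * w = w * m) (h2 : ∀ w ∈ U, w * w = 1) (hsec : SecLE G) :
    Nat.card U = 2 ∨ Natural π U := by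
  obtain ⟨V, iV, iF, ρ, P, C⟩ := exists_coord hπ U ⊥ bot_le (fun m hm => mem_bot.2 (h2 m hm))
    (fun c hc' m hm => mem_bot.2 (by rw [hc c hc' m hm, mul_inv_cancel_right, mul_inv_cancel]))
  have hcard : Nat.card V = Nat.card U := by rw [C.card, relIndex_bot_left]
  have hfixed : ∀ w ∈ U, (∀ l, ρ l (P w) = P w) → w ≠ 1 → Nat.card U = 2 := by
    intro w hw hfix hw1
    have hconj : ∀ g, g * w * g⁻¹ = w := fun g =>
      mul_inv_eq_one.1 (mem_bot.1 (C.div_mem (C.conj_mem hw g) hw (by rw [C.equiv g w hw, hfix])))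
    have hn : (pair w (h2 w hw)).Normal := ⟨fun x hx g => by
      rcases hx with rfl | rfl
      · rw [mul_one, mul_inv_cancel]; exact one_mem _
      · rw [hconj g]; exact Or.inr rfl⟩
    have hp := hmin _ hn (fun x hx => by rcases hx with rfl | rfl; exacts [one_mem _, hw])
      (fun hb => hw1 (mem_bot.1 (hb ▸ (Or.inr rfl : w ∈ pair w (h2 w hw)))))
    rw [← hp]
    exact card_pair hw1
  by_cases h : ρ = 1
  · obtain ⟨w, hw, hw1⟩ := (bot_or_exists_ne_one U).resolve_left hne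
    exact Or.inl (hfixed w hw (fun l => by rw [h]; rfl) hw1)
  by_cases hU2 : Nat.card U = 2
  · exact Or.inl hU2
  haveI : Fact (Nat.Prime 2) := ⟨Nat.prime_two⟩
  have hp : IsPGroup 2 V := fun v => ⟨1, by rw [pow_one, pow_two, C.v2]⟩
  obtain ⟨k, hk⟩ := hp.exists_card_eq
  have h16 : Nat.card V ≤ 16 := hcard ▸ hsec.card_le U h2
  have h6 : ¬ Nat.card V ≤ 6 := fun h' => h (trivial_of_le_four hL ρ h')
  have hV : Nat.card V = 8 := by
    rw [hk] at h16 h6
    have hk4 : k ≤ 4 := (Nat.pow_le_pow_iff_right (le_refl 2)).1 h16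
    rcases (show k = 3 ∨ k = 4 by interval_cases k <;> omega) with rfl | rfl
    · exact hk
    exfalso
    rcases fixed_or_invariant hL (hk : Nat.card V = 16) C.v2 ρ h with ⟨u, hu, hfix⟩ | ⟨S, hS, hSinv⟩
    · obtain ⟨w, hw, rfl⟩ := C.surj u
      exact hU2 (hfixed w hw hfix fun h1 => hu (by rw [h1, C.map_one]))
    · let T : Subgroup G :=
        { carrier := {w | w ∈ U ∧ P w ∈ S}
          one_mem' := ⟨one_mem _, by rw [C.map_one]; exact one_mem S⟩
          mul_mem' := fun {a b} ha hb => ⟨mul_mem ha.1 hb.1, by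
            rw [C.map_mul a ha.1 b hb.1]; exact mul_mem ha.2 hb.2⟩
          inv_mem' := fun {a} ha => ⟨inv_mem ha.1, by rw [C.map_inv ha.1]; exact ha.2⟩ }
      have hTn : T.Normal := ⟨fun w hw g => ⟨C.conj_mem hw.1 g, by rw [C.equiv g w hw.1]; exact hSinv _ _ hw.2⟩⟩
      have hST : T = U := by
        refine hmin T hTn (fun w hw => hw.1) fun hb => ?_
        obtain ⟨s, hs, hs1⟩ := (bot_or_exists_ne_one S).resolve_left fun e => by rw [e, card_bot] at hS; omega
        obtain ⟨w, hw, rfl⟩ := C.surj s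
        exact hs1 (by rw [show w = 1 from mem_bot.1 (hb ▸ (⟨hw, hs⟩ : w ∈ T)), C.map_one])
      have hle : Nat.card V ≤ Nat.card S := Nat.card_le_card_of_injective (fun v => (⟨v, by
          obtain ⟨w, hw, rfl⟩ := C.surj v
          exact (hST.symm ▸ hw : w ∈ T).2⟩ : S)) fun a b e => congrArg Subtype.val e
      rw [hS, hk] at hle
      norm_num at hle
  refine Or.inr ⟨hπ, hU, ‹_›, hcard ▸ hV, h2, hc, ?_⟩
  by_contra hcon
  push Not at hcon
  refine h (MonoidHom.ext fun l => MulEquiv.ext fun v => ?_)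
  obtain ⟨g, rfl⟩ := hπ l
  obtain ⟨w, hw, rfl⟩ := C.surj v
  rw [MonoidHom.one_apply, MulAut.one_apply, ← C.equiv g w hw, hcon g w hw, mul_inv_cancel_right]

include hL in
/-- The squares give a section of order eight or sixteen which is moved. -/
theorem layer_sqSub (hπ : Function.Surjective π) (hM : IsPGroup 2 π.ker)
    (hc : centralizer (π.ker : Set G) ≤ π.ker) (hsec : SecLE G) :
    ((sqSub π).relIndex π.ker = 8 ∨ (sqSub π).relIndex π.ker = 16) ∧
      ∃ g, ∃ m ∈ π.ker, g * m * g⁻¹ * m⁻¹ ∉ sqSub π := by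
  classical
  haveI : Fact (Nat.Prime 2) := ⟨Nat.prime_two⟩
  haveI := sqSub_normal (π := π)
  have hsq : ∀ m ∈ π.ker, m * m ∈ sqSub π := fun m hm => subset_closure ⟨m, hm, rfl⟩
  have hΦ : sqSub π ≤ (frattini π.ker).map π.ker.subtype := by
    refine (closure_le _).2 ?_
    rintro x ⟨m, hm, rfl⟩
    exact ⟨⟨m, hm⟩ ^ 2, CfsgLib.PGroup.pow_mem_frattini hM _, by rw [pow_two]; rfl⟩
  obtain ⟨f, hf7, hf1⟩ := exists_seven hL
  haveI : Fact (Nat.Prime 7) := ⟨by norm_num⟩
  set x := Function.surjInv hπ f with hx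
  set e := (orderOf x).factorization 2 with he
  set y := x ^ 2 ^ e with hy
  have hy1 : π y ≠ 1 := by
    rw [hy, map_pow, hx, Function.surjInv_eq hπ f]
    intro h
    have hd := orderOf_dvd_of_pow_eq_one h
    rw [orderOf_eq_prime hf7 hf1] at hd
    have := (Nat.prime_dvd_prime_iff_eq (by norm_num) Nat.prime_two).1 ((by norm_num : Nat.Prime 7).dvd_of_dvd_pow hd)
    omega
  have hyt : ∃ t, Odd t ∧ y ^ t = 1 := ⟨orderOf x / 2 ^ e,
    Nat.odd_iff.2 (Nat.two_dvd_ne_zero.1 (Nat.not_dvd_ordCompl Nat.prime_two (orderOf_pos x).ne')),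
    by rw [hy, ← pow_mul, Nat.mul_div_cancel' (Nat.ordProj_dvd _ _), pow_orderOf_eq_one]⟩
  have hmove : ∃ g, ∃ m ∈ π.ker, g * m * g⁻¹ * m⁻¹ ∉ sqSub π := by
    refine ⟨y, ?_⟩
    by_contra hcon
    push Not at hcon
    refine hy1 (MonoidHom.mem_ker.1 (hc ?_))
    have hle : zpowers y ≤ centralizer (π.ker : Set G) := by
      refine CfsgLib.Coprime.le_centralizer_of_trivial_on_frattini (zpowers y) π.ker
        (le_top.trans (Subgroup.normalizer_eq_top (H := π.ker)).ge) ?_ ?_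
      · rw [Nat.card_zpowers]
        obtain ⟨i, hi⟩ := IsPGroup.iff_card.1 (hM.to_subgroup (frattini π.ker))
        rw [hi]
        obtain ⟨t, ht, hyt⟩ := hyt
        exact Nat.Coprime.pow_right i ((Nat.coprime_two_right.2 (ht.of_dvd_nat (orderOf_dvd_of_pow_eq_one hyt))))
      · intro a ha k hk
        refine hΦ ?_
        let S : Subgroup G :=
          { carrier := {b | ∀ m ∈ π.ker, b * m * b⁻¹ * m⁻¹ ∈ sqSub π}
            one_mem' := fun m _ => by rw [one_mul, inv_one, mul_one, mul_inv_cancel]; exact one_mem _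
            mul_mem' := fun {b c} hb hc m hm => by
              rw [show b * c * m * (b * c)⁻¹ * m⁻¹ = b * (c * m * c⁻¹) * b⁻¹ * (c * m * c⁻¹)⁻¹ * (c * m * c⁻¹ * m⁻¹) by group]
              exact mul_mem (hb _ (Normal.conj_mem π.normal_ker m hm c)) (hc m hm)
            inv_mem' := fun {b} hb m hm => by
              have h := hb (b⁻¹ * m * b) (by simpa using Normal.conj_mem π.normal_ker m hm b⁻¹)
              have h' := inv_mem h
              rw [show (b * (b⁻¹ * m * b) * b⁻¹ * (b⁻¹ * m * b)⁻¹)⁻¹ = b⁻¹ * m * b⁻¹⁻¹ * m⁻¹ by group] at h'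
              exact h' }
        exact (zpowers_le.2 (show y ∈ S from hcon) ha) k hk
    exact hle (mem_zpowers y)
  refine ⟨?_, hmove⟩
  obtain ⟨V, iV, iF, ρ, P, C⟩ := exists_coord hπ π.ker (sqSub π) sqSub_le hsq
    fun c hc m hm => comm_mem hsq hc hm
  have hρ := C.ne_one hmove
  have hp : IsPGroup 2 V := fun v => ⟨1, by rw [pow_one, pow_two, C.v2]⟩
  obtain ⟨k, hk⟩ := hp.exists_card_eq
  have h16 : Nat.card V ≤ 16 := C.card ▸ hsec π.ker (sqSub π) sqSub_le hsq
  have h6 : ¬ Nat.card V ≤ 6 := fun h' => hρ (trivial_of_le_four hL ρ h')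
  rw [hk] at h16 h6
  have hk4 : k ≤ 4 := (Nat.pow_le_pow_iff_right (le_refl 2)).1 h16
  rw [← C.card, hk]
  rcases (show k = 3 ∨ k = 4 by interval_cases k <;> omega) with rfl | rfl <;> norm_num

/-- Passage to a quotient by a normal subgroup below the squares. -/
theorem sqSub_quotient (hπ : Function.Surjective π) (hM : IsPGroup 2 π.ker) (hsec : SecLE G)
    (hmove : ∃ g, ∃ m ∈ π.ker, g * m * g⁻¹ * m⁻¹ ∉ sqSub π) (N : Subgroup G) [N.Normal] (hN : N ≤ sqSub π) :
    ∃ π' : G ⧸ N →* L, Function.Surjective π' ∧ IsPGroup 2 π'.ker ∧ SecLE (G ⧸ N) ∧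
      (sqSub π).map (QuotientGroup.mk' N) ≤ π'.ker ∧
      ((sqSub π).map (QuotientGroup.mk' N)).relIndex π'.ker = (sqSub π).relIndex π.ker ∧
      (∀ m ∈ π'.ker, m * m ∈ (sqSub π).map (QuotientGroup.mk' N)) ∧
      (sqSub π).map (QuotientGroup.mk' N) ≤ closure {x | ∃ m ∈ π'.ker, m * m = x} ∧
      ∃ g, ∃ m ∈ π'.ker, g * m * g⁻¹ * m⁻¹ ∉ (sqSub π).map (QuotientGroup.mk' N) := by
  obtain ⟨π', hπ', hker⟩ := exists_quotient_hom hπ (hN.trans sqSub_le)
  let f := QuotientGroup.mk' N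
  have hf : Function.Surjective f := QuotientGroup.mk'_surjective N
  refine ⟨π', hπ', hker ▸ hM.map f, hsec.map f hf, hker ▸ map_mono sqSub_le, ?_, ?_, ?_, ?_⟩
  · rw [hker, relIndex_map_mk hN]
  · rw [hker]
    rintro _ ⟨m, hm, rfl⟩
    rw [← map_mul]
    exact mem_map_of_mem f (subset_closure ⟨m, hm, rfl⟩)
  · rw [sqSub, MonoidHom.map_closure]
    refine closure_mono ?_
    rintro _ ⟨x, ⟨m, hm, rfl⟩, rfl⟩
    exact ⟨f m, hker ▸ mem_map_of_mem f hm, (map_mul f m m).symm⟩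
  · obtain ⟨g, m, hm, hne⟩ := hmove
    refine ⟨f g, f m, hker ▸ mem_map_of_mem f hm, fun h => hne ?_⟩
    rw [← map_inv, ← map_inv, ← map_mul, ← map_mul, ← map_mul, ← mem_comap,
      comap_map_eq_self (by rw [QuotientGroup.ker_mk']; exact hN)] at h
    exact h

/-- A maximal normal subgroup properly inside gives a minimal one in the quotient. -/
theorem minimal_of_maximal {F N : Subgroup G} [N.Normal] (hNF : N < F)
    (hmax : ∀ N' : Subgroup G, N'.Normal → N ≤ N' → N' < F → N' = N) :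
    F.map (QuotientGroup.mk' N) ≠ ⊥ ∧ ∀ K : Subgroup (G ⧸ N), K.Normal → K ≤ F.map (QuotientGroup.mk' N) →
      K ≠ ⊥ → K = F.map (QuotientGroup.mk' N) := by
  have hf := QuotientGroup.mk'_surjective N
  have hcomap : (F.map (QuotientGroup.mk' N)).comap (QuotientGroup.mk' N) = F :=
    comap_map_eq_self (by rw [QuotientGroup.ker_mk']; exact hNF.le)
  refine ⟨fun h => hNF.ne ?_, fun K hK hKF hKne => ?_⟩
  · rw [← hcomap, h, MonoidHom.comap_bot, QuotientGroup.ker_mk']
  · by_contra hne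
    apply hKne
    have hNK : N ≤ K.comap (QuotientGroup.mk' N) := by
      intro x hx
      rw [mem_comap, show QuotientGroup.mk' N x = 1 from (QuotientGroup.eq_one_iff x).2 hx]
      exact one_mem K
    have hlt : K.comap (QuotientGroup.mk' N) < F := by
      refine lt_of_le_of_ne (hcomap ▸ comap_mono hKF) fun h => hne ?_
      rw [← map_comap_eq_self_of_surjective hf K, h]
    rw [← map_comap_eq_self_of_surjective hf K, hmax _ (hK.comap _) hNK hlt, eq_bot_iff]
    rintro _ ⟨x, hx, rfl⟩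
    exact mem_bot.2 ((QuotientGroup.eq_one_iff x).2 hx)

include hL in
/-- No layer of order two below a section of order eight. -/
theorem no_two_over_eight (hπ : Function.Surjective π) (F : Subgroup G) [F.Normal] (hF : Nat.card F = 2)
    (hFle : F ≤ π.ker) (hidx : F.relIndex π.ker = 8) (hsq : ∀ m ∈ π.ker, m * m ∈ F)
    (hgen : F ≤ closure {x | ∃ m ∈ π.ker, m * m = x})
    (hmove : ∃ g, ∃ m ∈ π.ker, g * m * g⁻¹ * m⁻¹ ∉ F) : False := by
  classical
  obtain ⟨z, hz, hz1, hzz, hall, hcen⟩ := central_of_card_two hF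
  obtain ⟨V, iV, iF, ρ, P, C⟩ := exists_coord hπ π.ker F hFle hsq fun c hc m hm => comm_mem hsq hc hm
  have hV : Nat.card V = 8 := C.card.trans hidx
  have hρ := C.ne_one hmove
  let c : G → G → G := fun a b => a * b * a⁻¹ * b⁻¹
  have hwd : ∀ a ∈ π.ker, ∀ a' ∈ π.ker, ∀ b ∈ π.ker, ∀ b' ∈ π.ker, P a = P a' → P b = P b' → c a b = c a' b' := by
    intro a ha a' ha' b hb b' hb' h h'
    have h1 := C.div_mem ha ha' h
    have h2 := C.div_mem hb hb' h'
    set s := a * a'⁻¹ with hs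
    set t := b * b'⁻¹ with ht
    have ea : a = s * a' := by rw [hs]; group
    have eb : b = t * b' := by rw [ht]; group
    show a * b * a⁻¹ * b⁻¹ = a' * b' * a'⁻¹ * b'⁻¹
    rw [ea, eb]
    calc s * a' * (t * b') * (s * a')⁻¹ * (t * b')⁻¹
        = s * (a' * t * b' * a'⁻¹) * s⁻¹ * b'⁻¹ * t⁻¹ := by group
      _ = (a' * t * b' * a'⁻¹) * b'⁻¹ * t⁻¹ := by rw [← hcen (a' * t * b' * a'⁻¹) s h1, mul_inv_cancel_right]
      _ = (a' * t) * (b' * a'⁻¹ * b'⁻¹) * t⁻¹ := by group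
      _ = t * (a' * b' * a'⁻¹ * b'⁻¹) * t⁻¹ := by rw [hcen a' t h2]; group
      _ = a' * b' * a'⁻¹ * b'⁻¹ := by rw [← hcen (a' * b' * a'⁻¹ * b'⁻¹) t h2, mul_inv_cancel_right]
  have hconj : ∀ g a b, c (g * a * g⁻¹) (g * b * g⁻¹) = g * c a b * g⁻¹ := fun g a b => by simp only [c]; group
  have hab : ∀ a ∈ π.ker, ∀ b ∈ π.ker, a * b = b * a := by
    intro a ha b hb
    refine mul_inv_eq_iff_eq_mul.1 (mul_inv_eq_one.1 ?_)
    show c a b = 1
    have hone : ∀ m : G, c 1 m = 1 ∧ c m 1 = 1 ∧ c m m = 1 := fun m => ⟨by simp [c], by simp [c], by simp [c]⟩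
    by_cases hA : P a = 1
    · rw [hwd a ha 1 (one_mem _) b hb b hb (hA.trans C.map_one.symm) rfl, (hone b).1]
    by_cases hB : P b = 1
    · rw [hwd a ha a ha b hb 1 (one_mem _) rfl (hB.trans C.map_one.symm), (hone a).2.1]
    by_cases hAB : P a = P b
    · rw [hwd a ha a ha b hb a ha rfl hAB.symm, (hone a).2.2]
    obtain ⟨e, hea, heb⟩ := exists_frame hV C.v2 hA hB hAB
    obtain ⟨d, hd, hPd⟩ := C.surj (e (pt 0 0 1))
    have hmove2 : ∀ b' ∈ π.ker, ∀ d' ∈ π.ker, P b' ≠ 1 → P a ≠ P b' → P d' ≠ 1 → P a ≠ P d' → c a b' = c a d' := by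
      intro b' hb' d' hd' h1 h2 h3 h4
      obtain ⟨l, hla, hlb⟩ := transitive_pairs hL hV C.v2 ρ hρ hA h1 h2 hA h3 h4
      obtain ⟨g, rfl⟩ := hπ l
      rw [← hwd _ (C.conj_mem ha g) a ha _ (C.conj_mem hb' g) d' hd' (by rw [C.equiv g a ha, hla])
        (by rw [C.equiv g b' hb', hlb]), hconj, hcen g _ (comm_mem hsq ha hb'), mul_inv_cancel_right]
    have hinj : ∀ {p q : V3}, p ≠ q → e p ≠ e q := fun h h' => h (e.injective h')
    have hd1 : P d ≠ 1 := by rw [hPd, ← map_one e]; exact hinj (by decide)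
    have had : P a ≠ P d := by rw [hPd, ← hea]; exact hinj (by decide)
    have hbd : P (b * d) = e (pt 0 1 1) := by
      rw [C.map_mul b hb d hd, ← heb, hPd, ← map_mul]
      exact congrArg e (by decide)
    have hbd1 : P (b * d) ≠ 1 := by rw [hbd, ← map_one e]; exact hinj (by decide)
    have habd : P a ≠ P (b * d) := by rw [hbd, ← hea]; exact hinj (by decide)
    have h1 : c a d = c a b := hmove2 d hd b hb hd1 had hB hAB
    have h2 : c a (b * d) = c a b := hmove2 _ (mul_mem hb hd) b hb hbd1 habd hB hAB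
    have h3 : c a (b * d) = c a b * c a d := by
      calc c a (b * d) = c a b * (b * c a d * b⁻¹) := by simp only [c]; group
        _ = c a b * c a d := by rw [hcen b _ (comm_mem hsq ha hd), mul_inv_cancel_right]
    rw [h2, h1] at h3
    exact mul_left_cancel (h3.symm.trans (mul_one _).symm)
  have hF2 : ∀ x ∈ F, x * x = 1 := fun x hx => by
    rcases hall x hx with rfl | rfl; exacts [one_mul 1, hzz]
  have hS := hom_kills hL hπ C hV hρ (fun s => s * s) (fun a ha b hb => by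
      show a * b * (a * b) = a * a * (b * b)
      rw [show a * b * (a * b) = a * (b * a) * b by group, hab b hb a ha]; group)
    hF2 (fun g a ha => by
      show g * a * g⁻¹ * (g * a * g⁻¹) = a * a
      rw [conj_mul, hcen g _ (hsq a ha), mul_inv_cancel_right])
  refine hz1 (mem_bot.1 ((hgen.trans ((closure_le _).2 ?_)) hz))
  rintro _ ⟨m, hm, rfl⟩
  exact mem_bot.2 (hS m hm)

/-- Coordinates in the model. -/
theorem pt_decomp : ∀ x : V3,
    pt 1 0 0 ^ x.toAdd.1.val * pt 0 1 0 ^ x.toAdd.2.1.val * pt 0 0 1 ^ x.toAdd.2.2.val = x := by decide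

/-- Additive exponents. -/
theorem pow_val_add {M : Type*} [Monoid M] {n : ℕ} [NeZero n] {x : M} (hx : x ^ n = 1) (i j : ZMod n) :
    x ^ (i + j).val = x ^ i.val * x ^ j.val := by
  rw [← pow_add, ZMod.val_add, ← pow_eq_pow_mod _ hx]

include hL in
/-- An elementary layer of order two under a section of order sixteen gives the exceptional kernel. -/
theorem kernel_thirty_two (hπ : Function.Surjective π) (F : Subgroup G) [F.Normal] (hF : Nat.card F = 2)
    (hFle : F ≤ π.ker) (hidx : F.relIndex π.ker = 16) (hsq : ∀ m ∈ π.ker, m * m ∈ F)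
    (hgen : F ≤ closure {x | ∃ m ∈ π.ker, m * m = x})
    (hmove : ∃ g, ∃ m ∈ π.ker, g * m * g⁻¹ * m⁻¹ ∉ F) :
    Nonempty (π.ker ≃* Multiplicative (ZMod 4) × (Fin 3 → Multiplicative (ZMod 2))) := by
  classical
  obtain ⟨z, hz, hz1, hzz, hall, hcen⟩ := central_of_card_two hF
  obtain ⟨hcomm, S0, hS0n, hFS, hS0le, hS0idx, hFS8, hS0iff⟩ :=
    two_layer hL hπ F ⊥ bot_le (by rw [relIndex_bot_left, hF]) hFle hidx hsq hgen hmove
  have hS2 : ∀ m ∈ S0, m * m = 1 := fun m hm => mem_bot.1 ((hS0iff m (hS0le hm)).1 hm)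
  have hab : ∀ a b : π.ker, a * b = b * a := fun a b => Subtype.ext
    (mul_inv_eq_iff_eq_mul.1 (mul_inv_eq_one.1 (mem_bot.1 (hcomm a a.2 b b.2))))
  letI : CommGroup π.ker := { (inferInstance : Group π.ker) with mul_comm := hab }
  obtain ⟨m1, hm1, hm1S⟩ : ∃ m ∈ π.ker, m ∉ S0 := SetLike.not_le_iff_exists.1 fun h => by
    rw [relIndex_eq_one.2 h] at hS0idx; omega
  have hm1z : m1 * m1 = z := (hall _ (hsq m1 hm1)).resolve_left fun h => hm1S ((hS0iff m1 hm1).2 (mem_bot.2 h))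
  have hcosS : ∀ m ∈ π.ker, m ∈ S0 ∨ m1⁻¹ * m ∈ S0 := by
    intro m hm
    by_cases h : m ∈ S0
    · exact Or.inl h
    refine Or.inr (mem_subgroupOf.1 ((mul_mem_iff_of_index_two hS0idx).2
      ⟨fun h' => absurd ?_ hm1S, fun h' => absurd (mem_subgroupOf.1 h') h⟩ :
      (⟨m1, hm1⟩ : π.ker)⁻¹ * ⟨m, hm⟩ ∈ S0.subgroupOf π.ker))
    exact inv_mem_iff.1 (mem_subgroupOf.1 h')
  obtain ⟨V, iV, iF, ρ, P, C⟩ := exists_coord hπ S0 F hFS (fun m hm => hsq m (hS0le hm))
    (fun c hc m hm => by rw [show c * m * c⁻¹ * m⁻¹ = 1 from mem_bot.1 (hcomm c hc m (hS0le hm))]; exact one_mem F)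
  have hV : Nat.card V = 8 := C.card.trans hFS8
  obtain ⟨v0, hv0, -⟩ := exists_ne_pair hV (1 : V)
  obtain ⟨e, -⟩ := exists_frame_one hV C.v2 hv0
  choose Q hQS hQ using C.surj
  let B : Fin 3 → π.ker := ![⟨Q (e (pt 1 0 0)), hS0le (hQS _)⟩, ⟨Q (e (pt 0 1 0)), hS0le (hQS _)⟩,
    ⟨Q (e (pt 0 0 1)), hS0le (hQS _)⟩]
  have hB2 : ∀ i, B i ^ 2 = 1 := fun i => by
    fin_cases i <;> exact Subtype.ext (by rw [Subgroup.coe_pow, pow_two]; exact hS2 _ (hQS _))
  have hM4 : (⟨m1, hm1⟩ : π.ker) ^ 4 = 1 := Subtype.ext (by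
    rw [Subgroup.coe_pow, pow_succ, pow_succ, pow_two, mul_assoc (m1 * m1), hm1z, hzz]; rfl)
  let φ : Multiplicative (ZMod 4) × (Fin 3 → Multiplicative (ZMod 2)) →* π.ker :=
    MonoidHom.mk' (fun p => (⟨m1, hm1⟩ : π.ker) ^ p.1.toAdd.val *
      (B 0 ^ (p.2 0).toAdd.val * B 1 ^ (p.2 1).toAdd.val * B 2 ^ (p.2 2).toAdd.val)) fun p q => by
      simp only [Prod.fst_mul, Prod.snd_mul, Pi.mul_apply, toAdd_mul, pow_val_add hM4, pow_val_add (hB2 0),
        pow_val_add (hB2 1), pow_val_add (hB2 2)]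
      ac_rfl
  have hcardker : Nat.card π.ker = 32 := by
    have h := relIndex_mul_relIndex (⊥ : Subgroup G) F π.ker bot_le hFle
    rw [relIndex_bot_left, relIndex_bot_left, hF, hidx] at h
    omega
  have hsurj : Function.Surjective φ := by
    have hS : ∀ m (hm : m ∈ S0), (⟨m, hS0le hm⟩ : π.ker) ∈ φ.range := by
      intro m hm
      obtain ⟨x, hx⟩ := e.surjective (P m)
      let q : Multiplicative (ZMod 4) × (Fin 3 → Multiplicative (ZMod 2)) :=
        (1, ![Multiplicative.ofAdd x.toAdd.1, Multiplicative.ofAdd x.toAdd.2.1, Multiplicative.ofAdd x.toAdd.2.2])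
      set s := Q (e (pt 1 0 0)) ^ x.toAdd.1.val * Q (e (pt 0 1 0)) ^ x.toAdd.2.1.val *
        Q (e (pt 0 0 1)) ^ x.toAdd.2.2.val with hs
      have hq : ((φ q : π.ker) : G) = s := by
        show ((((⟨m1, hm1⟩ : π.ker) ^ (0 : ZMod 4).val * _ : π.ker)) : G) = s
        simp [B, q, hs]
      have hsS : s ∈ S0 := mul_mem (mul_mem (pow_mem (hQS _) _) (pow_mem (hQS _) _)) (pow_mem (hQS _) _)
      have hPpow : ∀ a ∈ S0, ∀ i : ZMod 2, P (a ^ i.val) = P a ^ i.val := by
        intro a ha i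
        rcases (show i = 0 ∨ i = 1 by revert i; decide) with rfl | rfl
        · rw [ZMod.val_zero, pow_zero, pow_zero, C.map_one]
        · rw [ZMod.val_one, pow_one, pow_one]
      have hPs : P s = P m := by
        rw [hs, C.map_mul _ (mul_mem (pow_mem (hQS _) _) (pow_mem (hQS _) _)) _ (pow_mem (hQS _) _),
          C.map_mul _ (pow_mem (hQS _) _) _ (pow_mem (hQS _) _), hPpow _ (hQS _), hPpow _ (hQS _), hPpow _ (hQS _),
          hQ, hQ, hQ, ← map_pow, ← map_pow, ← map_pow, ← map_mul, ← map_mul, ← hx]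
        exact congrArg e (pt_decomp x)
      rcases hall _ (C.div_mem hm hsS hPs.symm) with h | h
      · exact ⟨q, Subtype.ext (hq.trans (mul_inv_eq_one.1 h).symm)⟩
      · refine ⟨(Multiplicative.ofAdd 2, q.2), Subtype.ext ?_⟩
        have hq2 : φ (Multiplicative.ofAdd 2, q.2) = φ (Multiplicative.ofAdd 2, 1) * φ q := by
          rw [← map_mul]; congr 1; exact Prod.ext (mul_one _).symm (one_mul _).symm
        rw [hq2, Subgroup.coe_mul, hq]
        show ((((⟨m1, hm1⟩ : π.ker) ^ (2 : ZMod 4).val * _ : π.ker)) : G) * s = m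
        rw [mul_inv_eq_iff_eq_mul.1 h]
        simp [show (2 : ZMod 4).val = 2 from rfl, pow_two, hm1z]
    intro y
    rcases hcosS y y.2 with h | h
    · exact hS y h
    · have h1 : (⟨m1, hm1⟩ : π.ker) ∈ φ.range := ⟨(Multiplicative.ofAdd 1, 1), by
        show (⟨m1, hm1⟩ : π.ker) ^ (1 : ZMod 4).val * _ = _
        simp [show (1 : ZMod 4).val = 1 from rfl]⟩
      have := mul_mem h1 (hS _ h)
      rwa [show (⟨m1, hm1⟩ : π.ker) * ⟨m1⁻¹ * y, hS0le h⟩ = y from Subtype.ext (mul_inv_cancel_left _ _)] at this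
  refine ⟨(MulEquiv.ofBijective φ ((Nat.bijective_iff_surjective_and_card φ).2 ⟨hsurj, ?_⟩)).symm⟩
  rw [hcardker, Nat.card_prod, Nat.card_fun]
  simp [Nat.card_eq_fintype_card]

include hL in
/-- The kernel is elementary of order eight or sixteen, or is `Z₄ × E₈`. -/
theorem radical_cases (hπ : Function.Surjective π) (hM : IsPGroup 2 π.ker)
    (hc : centralizer (π.ker : Set G) ≤ π.ker) (hsec : SecLE G) :
    ((Nat.card π.ker = 8 ∨ Nat.card π.ker = 16) ∧ ∀ m ∈ π.ker, m * m = 1) ∨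
      Nonempty (π.ker ≃* Multiplicative (ZMod 4) × (Fin 3 → Multiplicative (ZMod 2))) := by
  classical
  obtain ⟨hidx, hmove⟩ := layer_sqSub hL hπ hM hc hsec
  have hsq : ∀ m ∈ π.ker, m * m ∈ sqSub π := fun m hm => subset_closure ⟨m, hm, rfl⟩
  by_cases hΦ : sqSub π = ⊥
  · refine Or.inl ⟨?_, fun m hm => mem_bot.1 (hΦ ▸ hsq m hm)⟩
    rwa [hΦ, relIndex_bot_left] at hidx
  right
  haveI := sqSub_normal (π := π)
  have hex : ∀ (F : Subgroup G), F ≠ ⊥ → ∃ N : Subgroup G, N.Normal ∧ N < F ∧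
      ∀ N' : Subgroup G, N'.Normal → N ≤ N' → N' < F → N' = N := by
    intro F hF
    obtain ⟨N, hN⟩ := (Set.toFinite {N : Subgroup G | N.Normal ∧ N < F}).exists_maximal
      ⟨⊥, inferInstance, bot_lt_iff_ne_bot.2 hF⟩
    exact ⟨N, hN.prop.1, hN.prop.2, fun N' h1 h2 h3 => le_antisymm (hN.2 ⟨h1, h3⟩ h2) h2⟩
  obtain ⟨N, hNn, hNlt, hNmax⟩ := hex _ hΦ
  obtain ⟨π', hπ', hM', hsec', hle', hidx', hsq', hgen', hmove'⟩ := sqSub_quotient hπ hM hsec hmove N hNlt.le
  obtain ⟨hne, hmin⟩ := minimal_of_maximal hNlt hNmax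
  haveI : ((sqSub π).map (QuotientGroup.mk' N)).Normal :=
    Normal.map (sqSub_normal (π := π)) _ (QuotientGroup.mk'_surjective N)
  obtain ⟨hcen, h2⟩ := minimal_central hM' _ hle' hne hmin
  rcases minimal_cases hL hπ' _ hle' hne hmin hcen h2 hsec' with hW2 | hW8
  swap
  · exfalso
    rcases hidx with h | h
    · refine hW8.no_eight hL hsec' (hidx'.trans h) hsq' hmove' ?_
      by_contra hcon
      push Not at hcon
      refine hne (eq_bot_iff.2 (hgen'.trans ((closure_le _).2 ?_)))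
      rintro _ ⟨m, hm, rfl⟩
      exact mem_bot.2 (hcon m hm)
    · exact hW8.no_eight_over hL hsec' (hidx'.trans h) hsq' hmove'
  rcases hidx with h | h
  · exact (no_two_over_eight hL hπ' _ hW2 hle' (hidx'.trans h) hsq' hgen' hmove').elim
  have hNbot : N = ⊥ := by
    by_contra hNne
    obtain ⟨N', hN'n, hN'lt, hN'max⟩ := hex _ hNne
    obtain ⟨π'', hπ'', hM'', hsec'', hle'', hidx'', hsq'', hgen'', hmove''⟩ :=
      sqSub_quotient hπ hM hsec hmove N' (hN'lt.le.trans hNlt.le)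
    obtain ⟨hne'', hmin''⟩ := minimal_of_maximal hN'lt hN'max
    haveI : (N.map (QuotientGroup.mk' N')).Normal := hNn.map _ (QuotientGroup.mk'_surjective N')
    haveI : ((sqSub π).map (QuotientGroup.mk' N')).Normal :=
      Normal.map (sqSub_normal (π := π)) _ (QuotientGroup.mk'_surjective N')
    have hUF : N.map (QuotientGroup.mk' N') ≤ (sqSub π).map (QuotientGroup.mk' N') := map_mono hNlt.le
    have hidx2 : (N.map (QuotientGroup.mk' N')).relIndex ((sqSub π).map (QuotientGroup.mk' N')) = 2 := by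
      rw [relIndex_map_mk hN'lt.le, ← hW2, ← relIndex_bot_left, ← relIndex_comap, MonoidHom.comap_bot,
        QuotientGroup.ker_mk']
    obtain ⟨hcen'', h2''⟩ := minimal_central hM'' _ (hUF.trans hle'') hne'' hmin''
    rcases minimal_cases hL hπ'' _ (hUF.trans hle'') hne'' hmin'' hcen'' h2'' hsec'' with hU2 | hU8
    · exact no_central_layers hL hπ'' hsec'' _ _ hU2 hUF hidx2 hle'' (hidx''.trans h) hsq'' hgen'' hmove''
    · exact hU8.no_second_layer hL hsec'' _ hUF hidx2 hle'' (hidx''.trans h) hsq'' hgen'' hmove''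
  subst hNbot
  have hinj : Function.Injective (QuotientGroup.mk' (⊥ : Subgroup G)) := by
    rw [← MonoidHom.ker_eq_bot_iff, QuotientGroup.ker_mk']
  have hΦ2 : Nat.card (sqSub π) = 2 := by rw [← hW2, card_map_of_injective hinj]
  exact kernel_thirty_two hL hπ _ hΦ2 sqSub_le h hsq le_rfl hmove

end CfsgLib.RankFourLinear
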