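import Mathlib

/-!
# The elementary group of order eight with four standard automorphisms
-/

set_option autoImplicit false

namespace CfsgLib.RankFourLinear

/-- The model group. -/
abbrev V3 : Type := Multiplicative (ZMod 2 × ZMod 2 × ZMod 2)

/-- The model element with the given coordinates. -/
def pt (a b c : ZMod 2) : V3 := Multiplicative.ofAdd (a, b, c)

/-- Build an automorphism of the model from a pair of inverse maps on coordinates. -/
def mkAut (f g : ZMod 2 × ZMod 2 × ZMod 2 → ZMod 2 × ZMod 2 × ZMod 2) (h1 : ∀ x, g (f x) = x) (h2 : ∀ x, f (g x) = x)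
    (h3 : ∀ x y, f (x + y) = f x + f y) : MulAut V3 where
  toFun x := Multiplicative.ofAdd (f x.toAdd)
  invFun x := Multiplicative.ofAdd (g x.toAdd)
  left_inv x := congrArg Multiplicative.ofAdd (h1 x.toAdd)
  right_inv x := congrArg Multiplicative.ofAdd (h2 x.toAdd)
  map_mul' x y := congrArg Multiplicative.ofAdd (h3 x.toAdd y.toAdd)

/-- A regular unipotent element. -/
def rr : MulAut V3 := mkAut (fun p => (p.1 + p.2.1, p.2.1 + p.2.2, p.2.2))
  (fun p => (p.1 + p.2.1 + p.2.2, p.2.1 + p.2.2, p.2.2)) (by decide) (by decide) (by decide)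

/-- A transvection with the same centre as the square of `rr`. -/
def bb : MulAut V3 := mkAut (fun p => (p.1 + p.2.1, p.2.1, p.2.2))
  (fun p => (p.1 + p.2.1, p.2.1, p.2.2)) (by decide) (by decide) (by decide)

/-- An element of order three fixing the centre. -/
def tt : MulAut V3 := mkAut (fun p => (p.1, p.2.2, p.2.1 + p.2.2))
  (fun p => (p.1, p.2.1 + p.2.2, p.2.1)) (by decide) (by decide) (by decide)

/-- Exchange of the last two coordinates. -/
def sw : MulAut V3 := mkAut (fun p => (p.1, p.2.2, p.2.1))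
  (fun p => (p.1, p.2.2, p.2.1)) (by decide) (by decide) (by decide)

/-- A change of frame. -/
def ps : MulAut V3 := mkAut (fun p => (p.1 + p.2.1, p.1, p.2.2))
  (fun p => (p.2.1, p.1 + p.2.1, p.2.2)) (by decide) (by decide) (by decide)

theorem rr_sq_eq : ∀ x, rr (rr x) = x ↔ x.toAdd.2.2 = 0 := by decide

theorem rr_fix : ∀ x, rr x = x ↔ x = 1 ∨ x = pt 1 0 0 := by decide

theorem rr_four : ∀ x, rr (rr (rr (rr x))) = x := by decide

theorem rr_sq_ne : rr (rr (pt 0 0 1)) ≠ pt 0 0 1 := by decide

theorem rr_sq_mul : ∀ x, rr (rr x) * x = 1 ∨ rr (rr x) * x = pt 1 0 0 := by decide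

theorem bb_mul : ∀ x, bb x * x = 1 ∨ bb x * x = pt 1 0 0 := by decide

theorem rb_mul : ∀ x, rr (rr (bb x)) * x = 1 ∨ rr (rr (bb x)) * x = pt 1 0 0 := by decide

theorem rr_diff : ∀ x, (∃ y, rr y * y = x) ↔ x.toAdd.2.2 = 0 := by decide

theorem sw_conj : ∀ x, sw (rr (rr (sw x))) = bb x := by decide

theorem ps_conj : ∀ x, ps (rr (rr (ps.symm x))) = bb (rr x) := by decide

theorem rr_bb : ∀ x, rr (bb (rr.symm x)) = rr (rr (bb x)) := by decide

theorem bb_sq : ∀ x, bb (bb x) = x := by decide

theorem eight : Nat.card V3 = 8 := by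
  rw [Nat.card_eq_fintype_card]; rfl

/-- The fourteen words used to bound a point stabiliser from below. -/
def words : List (MulAut V3) :=
  rr :: ((List.range 2).flatMap fun i => (List.range 2).flatMap fun j => (List.range 3).map fun k =>
    (rr * rr) ^ i * bb ^ j * tt ^ k)

theorem words_nodup : (words.map fun w => (w (pt 0 1 0), w (pt 0 0 1))).Nodup := by decide +kernel

theorem words_length : words.length = 13 := by decide +kernel

theorem bb_eq_conj : ∀ x, tt (rr (rr (tt.symm x))) = bb x := by decide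

theorem tt_three : ∀ x, tt (tt (tt x)) = x := by decide

end CfsgLib.RankFourLinear
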