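import Cfsg.Agent.Lib.InvChar.RankFourLinear.Model
import Cfsg.Agent.Lib.InvChar.RankFourAltFive.Modules
import Cfsg.Agent.Lib.Fusion48.JankoThreeMain

/-!
# Small modules for a simple group of order 168
-/

set_option autoImplicit false
set_option linter.style.haveILetI false
set_option linter.unusedSectionVars false

open Subgroup
open CfsgLib.RankFourAltFive (fixed mem_fixed card_fixed_modEq card_dvd_sixteen)

namespace CfsgLib.RankFourLinear

variable {L : Type*} [Group L] [Finite L] [IsSimpleGroup L] (hL : Nat.card L = 168)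

theorem injective_of_ne_one {H : Type*} [Group H] (ρ : L →* H) (hρ : ρ ≠ 1) : Function.Injective ρ := by
  rcases (inferInstance : ρ.ker.Normal).eq_bot_or_eq_top with h | h
  · exact (MonoidHom.ker_eq_bot_iff ρ).1 h
  · exact absurd (MonoidHom.ext fun g => MonoidHom.mem_ker.1 (h ▸ mem_top g : g ∈ ρ.ker)) hρ

include hL in
/-- An orbit map into a set with at most six elements is constant. -/
theorem eq_one_of_small {α : Type*} [Finite α] (φ : L →* Equiv.Perm α) (hα : Nat.card α ≤ 6) : φ = 1 := by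
  by_contra h
  have hinj := injective_of_ne_one φ h
  have hd : Nat.card L ∣ Nat.card (Equiv.Perm α) := card_dvd_of_injective φ hinj
  rw [hL, Nat.card_perm] at hd
  generalize Nat.card α = k at hα hd
  interval_cases k <;> norm_num [Nat.factorial] at hd

include hL in
theorem trivial_of_le_four {V : Type*} [Group V] [Finite V] (ρ : L →* MulAut V) (hV : Nat.card V ≤ 6) :
    ρ = 1 := by
  have h := eq_one_of_small hL ((MulAut.toPerm V).comp ρ) hV
  exact MonoidHom.ext fun g => MulEquiv.ext fun v => Equiv.Perm.congr_fun (DFunLike.congr_fun h g) v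

include hL in
theorem exists_seven : ∃ f : L, f ^ 7 = 1 ∧ f ≠ 1 := by
  haveI : Fact (Nat.Prime 7) := ⟨by norm_num⟩
  obtain ⟨f, hf⟩ := exists_prime_orderOf_dvd_card' 7 (show 7 ∣ Nat.card L by rw [hL]; norm_num)
  exact ⟨f, by rw [← hf, pow_orderOf_eq_one], fun h => by rw [h, orderOf_one] at hf; norm_num at hf⟩

section Eight

variable {S : Type*} [CommGroup S] [Finite S] (hS : Nat.card S = 8) (h2 : ∀ v : S, v * v = 1)
variable (ρ : L →* MulAut S) (hρ : ρ ≠ 1)

include hL hS h2 hρ in
theorem surjective_eight (φ : MulAut S) : ∃ g, ρ g = φ := by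
  have hinj := injective_of_ne_one ρ hρ
  have hd := CfsgLib.Fusion48.JankoThree.card_mulAut_dvd h2 hS
  have h := Nat.card_le_card_of_injective ρ hinj
  have hc : Nat.card (MulAut S) = Nat.card L := le_antisymm (hL ▸ Nat.le_of_dvd (by norm_num) hd) h
  exact ((Nat.bijective_iff_injective_and_card ρ).2 ⟨hinj, hc.symm⟩).2 φ

include hS h2 in
/-- Any two independent elements extend to a frame. -/
theorem exists_frame {a b : S} (ha : a ≠ 1) (hb : b ≠ 1) (hab : a ≠ b) :
    ∃ e : V3 ≃* S, e (pt 1 0 0) = a ∧ e (pt 0 1 0) = b := by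
  classical
  haveI := Fintype.ofFinite S
  obtain ⟨c, hc⟩ : ∃ c : S, c ∉ ({1, a, b, a * b} : Finset S) := by
    refine not_forall.1 fun h => ?_
    have := Finset.card_le_card (fun x _ => h x : (Finset.univ : Finset S) ⊆ {1, a, b, a * b})
    rw [Finset.card_univ, ← Nat.card_eq_fintype_card, hS] at this
    have := Finset.card_le_four (a := (1 : S)) (b := a) (c := b) (d := a * b)
    omega
  simp only [Finset.mem_insert, Finset.mem_singleton, not_or] at hc
  obtain ⟨hc1, hca, hcb, hcab⟩ := hc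
  let P : S → ZMod 2 → S := fun x i => x ^ i.val
  have hP : ∀ x i j, P x (i + j) = P x i * P x j := by
    intro x i j
    have hxx : x ^ 2 = 1 := by rw [pow_two, h2]
    simp only [P]
    rw [← pow_add, ZMod.val_add, ← pow_eq_pow_mod _ hxx]
  let f : V3 →* S := MonoidHom.mk' (fun x => P a x.toAdd.1 * P b x.toAdd.2.1 * P c x.toAdd.2.2) fun x y => by
    simp only [toAdd_mul, Prod.fst_add, Prod.snd_add, hP]
    ac_rfl
  have hinj : Function.Injective f := by
    rw [injective_iff_map_eq_one]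
    intro x hx
    obtain ⟨⟨i, j, k⟩, rfl⟩ := Multiplicative.ofAdd.surjective x
    have hx' : P a i * P b j * P c k = 1 := hx
    have h0 : ∀ z : ZMod 2, z = 0 ∨ z = 1 := by decide
    have hab' : a * b ≠ 1 := fun h => hab (by
      calc a = a * (b * b) := by rw [h2, mul_one]
        _ = b := by rw [← mul_assoc, h, one_mul])
    have hinv : ∀ y : S, y⁻¹ = y := fun y => inv_eq_of_mul_eq_one_right (h2 y)
    rcases h0 i with rfl | rfl <;> rcases h0 j with rfl | rfl <;> rcases h0 k with rfl | rfl <;>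
      simp only [P, ZMod.val_zero, ZMod.val_one, pow_zero, pow_one, one_mul, mul_one] at hx'
    · rfl
    · exact absurd hx' hc1
    · exact absurd hx' hb
    · exact absurd ((mul_eq_one_iff_eq_inv'.1 hx').trans (hinv b)) hcb
    · exact absurd hx' ha
    · exact absurd ((mul_eq_one_iff_eq_inv'.1 hx').trans (hinv a)) hca
    · exact absurd hx' hab'
    · exact absurd ((mul_eq_one_iff_eq_inv'.1 hx').trans (hinv _)) hcab
  have hbij : Function.Bijective f := (Nat.bijective_iff_injective_and_card f).2 ⟨hinj, by rw [eight, hS]⟩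
  refine ⟨MulEquiv.ofBijective f hbij, ?_, ?_⟩
  · show P a 1 * P b 0 * P c 0 = a
    simp [P, ZMod.val_one]
  · show P a 0 * P b 1 * P c 0 = b
    simp [P, ZMod.val_one]

include hS in
theorem exists_ne_pair (a : S) : ∃ b : S, b ≠ 1 ∧ b ≠ a := by
  classical
  haveI := Fintype.ofFinite S
  obtain ⟨b, hb⟩ : ∃ b : S, b ∉ ({1, a} : Finset S) := by
    refine not_forall.1 fun h => ?_
    have := Finset.card_le_card (fun x _ => h x : (Finset.univ : Finset S) ⊆ {1, a})
    rw [Finset.card_univ, ← Nat.card_eq_fintype_card, hS] at this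
    have := Finset.card_le_two (a := (1 : S)) (b := a)
    omega
  exact ⟨b, by simpa [not_or] using hb⟩

include hS h2 in
theorem exists_frame_one {a : S} (ha : a ≠ 1) : ∃ e : V3 ≃* S, e (pt 1 0 0) = a := by
  obtain ⟨b, hb, hba⟩ := exists_ne_pair hS a
  obtain ⟨e, he, -⟩ := exists_frame hS h2 ha hb hba.symm
  exact ⟨e, he⟩

/-- `g` moves the frame as the given model automorphism. -/
def Frames (e : V3 ≃* S) (φ : MulAut V3) (g : L) : Prop := ∀ x, ρ g (e x) = e (φ x)

include hL hS h2 hρ in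
theorem exists_frames (e : V3 ≃* S) (φ : MulAut V3) : ∃ g, Frames ρ e φ g := by
  obtain ⟨g, hg⟩ := surjective_eight hL hS h2 ρ hρ ((e.symm.trans φ).trans e)
  exact ⟨g, fun x => by rw [hg]; simp⟩

theorem Frames.mul {e : V3 ≃* S} {φ ψ : MulAut V3} {g h : L} (hg : Frames ρ e φ g) (hh : Frames ρ e ψ h) :
    Frames ρ e (φ * ψ) (g * h) := fun x => by
  rw [map_mul, MulAut.mul_apply, hh, hg]; rfl

theorem Frames.pow {e : V3 ≃* S} {φ : MulAut V3} {g : L} (hg : Frames ρ e φ g) :
    ∀ n : ℕ, Frames ρ e (φ ^ n) (g ^ n) := fun n => by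
  induction n with
  | zero => intro x; simp
  | succ n ih => rw [pow_succ, pow_succ]; exact Frames.mul ρ ih hg

theorem Frames.inv {e : V3 ≃* S} {φ : MulAut V3} {g : L} (hg : Frames ρ e φ g) : Frames ρ e φ⁻¹ g⁻¹ := fun x => by
  rw [map_inv, MulAut.inv_def, MulEquiv.symm_apply_eq, hg, MulAut.inv_def, MulEquiv.apply_symm_apply]

theorem Frames.change {e : V3 ≃* S} {φ ψ χ : MulAut V3} {g : L} (hg : Frames ρ e φ g)
    (h : ∀ x, φ (ψ x) = ψ (χ x)) : Frames ρ (ψ.trans e) χ g := fun x => by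
  show ρ g (e (ψ x)) = e (ψ (χ x))
  rw [hg, h]

include hL hS h2 hρ in
theorem transitive_eight {a b : S} (ha : a ≠ 1) (hb : b ≠ 1) : ∃ g, ρ g a = b := by
  obtain ⟨e, he⟩ := exists_frame_one hS h2 ha
  obtain ⟨e', he'⟩ := exists_frame_one hS h2 hb
  obtain ⟨g, hg⟩ := surjective_eight hL hS h2 ρ hρ (e.symm.trans e')
  refine ⟨g, ?_⟩
  rw [hg, MulEquiv.trans_apply, ← he, MulEquiv.symm_apply_apply, he']

include hL hS h2 hρ in
theorem transitive_pairs {a b a' b' : S} (ha : a ≠ 1) (hb : b ≠ 1) (hab : a ≠ b) (ha' : a' ≠ 1) (hb' : b' ≠ 1)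
    (hab' : a' ≠ b') : ∃ g, ρ g a = a' ∧ ρ g b = b' := by
  obtain ⟨e, he, he2⟩ := exists_frame hS h2 ha hb hab
  obtain ⟨e', he', he2'⟩ := exists_frame hS h2 ha' hb' hab'
  obtain ⟨g, hg⟩ := surjective_eight hL hS h2 ρ hρ (e.symm.trans e')
  refine ⟨g, ?_, ?_⟩
  · rw [hg, MulEquiv.trans_apply, ← he, MulEquiv.symm_apply_apply, he']
  · rw [hg, MulEquiv.trans_apply, ← he2, MulEquiv.symm_apply_apply, he2']

include hL hS h2 hρ in
theorem fixed_only_one {a : S} (ha : ∀ g, ρ g a = a) : a = 1 := by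
  by_contra h
  obtain ⟨b, hb, hba⟩ := exists_ne_pair hS a
  obtain ⟨g, hg⟩ := transitive_eight hL hS h2 ρ hρ h hb
  exact hba (hg.symm.trans (ha g))

include hL hS h2 hρ in
theorem eq_top_of_invariant {T : Subgroup S} (hT : ∀ g v, v ∈ T → ρ g v ∈ T) (hne : T ≠ ⊥) : T = ⊤ := by
  obtain ⟨a, haT, ha⟩ := (bot_or_exists_ne_one T).resolve_left hne
  refine eq_top_iff.2 fun b _ => ?_
  by_cases hb : b = 1
  · exact hb ▸ one_mem T
  · obtain ⟨g, rfl⟩ := transitive_eight hL hS h2 ρ hρ ha hb
    exact hT g a haT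

end Eight

section Sixteen

variable {V : Type*} [CommGroup V] [Finite V] (hV : Nat.card V = 16) (h2 : ∀ v : V, v * v = 1)
variable (ρ : L →* MulAut V) (hρ : ρ ≠ 1)

include hL hV hρ in
/-- An element of order seven fixes one nontrivial vector. -/
theorem card_fixed_seven {f : L} (hf : f ^ 7 = 1) (hf1 : f ≠ 1) : Nat.card (fixed (ρ f)) = 2 := by
  haveI : Fact (Nat.Prime 7) := ⟨by norm_num⟩
  have h := card_fixed_modEq (p := 7) (ρ f) (by rw [← map_pow, hf, map_one]) ⊤ (fun v => by simp)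
  rw [top_inf_eq, card_top, hV] at h
  rcases card_dvd_sixteen hV (fixed (ρ f)) with hc | hc | hc | hc | hc <;> rw [hc] at h
  · exact absurd h (by decide)
  · exact hc
  · exact absurd h (by decide)
  · exact absurd h (by decide)
  · exfalso
    refine hf1 (injective_of_ne_one ρ hρ ?_)
    have htop : fixed (ρ f) = ⊤ := eq_top_of_card_eq _ (hc.trans hV.symm)
    rw [map_one]
    exact MulEquiv.ext fun w => mem_fixed.1 (htop ▸ mem_top w : w ∈ fixed (ρ f))

/-- The moving part of an automorphism. -/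
def moved (φ : MulAut V) : Subgroup V := (φ.toMonoidHom * MonoidHom.id V).range

include hL hV h2 hρ in
theorem moved_facts {f : L} (hf : f ^ 7 = 1) (hf1 : f ≠ 1) :
    Nat.card (moved (ρ f)) = 8 ∧ Disjoint (moved (ρ f)) (fixed (ρ f)) ∧
      ∃ u, u ≠ 1 ∧ ρ f u = u ∧ (∀ v, ρ f v = v → v = 1 ∨ v = u) ∧ ∀ v, v ∈ moved (ρ f) ∨ u * v ∈ moved (ρ f) := by
  classical
  have hc2 := card_fixed_seven hL hV ρ hρ hf hf1
  let D : V →* V := (ρ f).toMonoidHom * MonoidHom.id V
  have hD : ∀ a, D a = ρ f a * a := fun a => rfl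
  have hker : D.ker = fixed (ρ f) := by
    ext v
    rw [MonoidHom.mem_ker, hD, mem_fixed, mul_eq_one_iff_eq_inv, inv_eq_of_mul_eq_one_right (h2 v)]
  have hcard : Nat.card (moved (ρ f)) = 8 := by
    have h := card_mul_index D.ker
    rw [index_ker, hker, hc2, hV] at h
    show Nat.card D.range = 8
    omega
  obtain ⟨u, hu, hu1⟩ := (bot_or_exists_ne_one (fixed (ρ f))).resolve_left fun h => by
    rw [h, card_bot] at hc2; omega
  have hfix : ∀ v, ρ f v = v → v = 1 ∨ v = u := by
    intro v hv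
    by_contra hcon
    push Not at hcon
    have : ({1, u, v} : Set V).ncard ≤ 2 := by
      rw [← hc2, ← Nat.card_coe_set_eq]
      exact Nat.card_mono (Set.toFinite _) fun x hx => by
        rcases hx with rfl | rfl | rfl
        exacts [one_mem _, hu, mem_fixed.2 hv]
    rw [Set.ncard_insert_of_notMem (by simp [hu1.symm, hcon.1.symm]) (Set.toFinite _),
      Set.ncard_pair hcon.2.symm] at this
    omega
  have hnu : u ∉ moved (ρ f) := by
    intro hum
    haveI : Fact (Nat.Prime 7) := ⟨by norm_num⟩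
    have hinv : ∀ v, ρ f v ∈ moved (ρ f) ↔ v ∈ moved (ρ f) := by
      intro v
      constructor
      · rintro ⟨a, ha⟩
        refine ⟨(ρ f).symm a, (ρ f).injective ?_⟩
        show ρ f (D ((ρ f).symm a)) = ρ f v
        rw [hD, map_mul, MulEquiv.apply_symm_apply, ← hD]
        exact ha
      · rintro ⟨a, rfl⟩
        exact ⟨ρ f a, by show D _ = ρ f (D a); rw [hD, hD, map_mul]⟩
    have h := card_fixed_modEq (p := 7) (ρ f) (by rw [← map_pow, hf, map_one]) (moved (ρ f)) hinv
    have hle : fixed (ρ f) ≤ moved (ρ f) := fun v hv => by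
      rcases hfix v hv with rfl | rfl
      exacts [one_mem _, hum]
    rw [inf_eq_right.2 hle, hc2, hcard] at h
    exact absurd h (by decide)
  have hdis : Disjoint (moved (ρ f)) (fixed (ρ f)) := disjoint_def.2 fun {v} hv hv' => by
    rcases hfix v hv' with rfl | rfl
    · rfl
    · exact absurd hv hnu
  refine ⟨hcard, hdis, u, hu1, hu, hfix, fun v => ?_⟩
  have hidx : (moved (ρ f)).index = 2 := by
    have := card_mul_index (moved (ρ f))
    rw [hcard, hV] at this
    omega
  by_cases hv : v ∈ moved (ρ f)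
  · exact Or.inl hv
  · exact Or.inr ((mul_mem_iff_of_index_two hidx).2 ⟨fun h => absurd h hnu, fun h => absurd h hv⟩)

include hL hV h2 hρ in
/-- An invariant homomorphism takes at most two values, being trivial on the moved part. -/
theorem invariant_hom {U : Type*} [Group U] (φ : V →* U) (hφ : ∀ g v, φ (ρ g v) = φ v) {f : L} (hf : f ^ 7 = 1)
    (hf1 : f ≠ 1) {u : V} (hu : u ∉ moved (ρ f)) : ∀ v, φ v = 1 ∨ φ v = φ u := by
  have hk : ∀ v ∈ moved (ρ f), φ v = 1 := by
    rintro _ ⟨a, rfl⟩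
    show φ (ρ f a * a) = 1
    rw [map_mul, hφ, ← map_mul, h2, map_one]
  intro v
  obtain ⟨hc, -, -⟩ := moved_facts hL hV h2 ρ hρ hf hf1
  have hidx : (moved (ρ f)).index = 2 := by
    have := card_mul_index (moved (ρ f))
    rw [hc, hV] at this
    omega
  by_cases hv : v ∈ moved (ρ f)
  · exact Or.inl (hk v hv)
  · refine Or.inr ?_
    have h : u * v ∈ moved (ρ f) := (mul_mem_iff_of_index_two hidx).2 ⟨fun h => absurd h hu, fun h => absurd h hv⟩
    calc φ v = φ (u * (u * v)) := by rw [← mul_assoc, h2, one_mul]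
      _ = φ u := by rw [map_mul, hk _ h, mul_one]

include hL hV h2 hρ in
/-- A fixed vector or an invariant subgroup of order eight. -/
theorem fixed_or_invariant : (∃ u : V, u ≠ 1 ∧ ∀ g, ρ g u = u) ∨
    ∃ S : Subgroup V, Nat.card S = 8 ∧ ∀ g v, v ∈ S → ρ g v ∈ S := by
  classical
  obtain ⟨f, hf, hf1⟩ := exists_seven hL
  obtain ⟨hc8, hdis, u, hu1, hu, hfix, hcos⟩ := moved_facts hL hV h2 ρ hρ hf hf1
  let O : Set V := Set.range fun g => ρ g u
  have hOinv : ∀ g v, v ∈ O → ρ g v ∈ O := by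
    rintro g _ ⟨h, rfl⟩
    exact ⟨g * h, by simp [map_mul]⟩
  have hO1 : ∀ v ∈ O, v ≠ 1 := by
    rintro _ ⟨g, rfl⟩ h
    exact hu1 ((ρ g).map_eq_one_iff.1 h)
  haveI : Fact (Nat.Prime 7) := ⟨by norm_num⟩
  have hfo : orderOf f = 7 := orderOf_eq_prime hf hf1
  let C := zpowers f
  letI : MulAction C V := MulAction.compHom V (ρ.comp C.subtype)
  have hseven : ∀ x : V, ρ f x ≠ x → Nat.card (MulAction.orbit C x) = 7 := by
    intro x hx
    have hle : Nat.card (MulAction.orbit C x) ∣ Nat.card C := by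
      rw [Nat.card_congr (MulAction.orbitEquivQuotientStabilizer C x)]
      exact card_quotient_dvd_card _
    rw [Nat.card_zpowers, hfo] at hle
    refine ((Nat.dvd_prime (by norm_num)).1 hle).resolve_left fun h => hx ?_
    have hsub : (MulAction.orbit C x).Subsingleton := by
      rw [← Set.ncard_le_one_iff_subsingleton, ← Nat.card_coe_set_eq, h]
    exact hsub ⟨⟨f, mem_zpowers f⟩, rfl⟩ (MulAction.mem_orbit_self x)
  have hCO : ∀ x ∈ O, MulAction.orbit C x ⊆ O := by
    rintro x hx _ ⟨c, rfl⟩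
    exact hOinv _ _ hx
  have hM : ∀ c : C, ∀ v, c • v ∈ moved (ρ f) ↔ v ∈ moved (ρ f) := by
    have key : ∀ c : C, ∀ v, v ∈ moved (ρ f) → c • v ∈ moved (ρ f) := by
      rintro ⟨c, hc⟩ _ ⟨a, rfl⟩
      obtain ⟨i, rfl⟩ := mem_zpowers_iff.1 hc
      refine ⟨ρ (f ^ i) a, ?_⟩
      show ρ f (ρ (f ^ i) a) * ρ (f ^ i) a = ρ (f ^ i) (ρ f a * a)
      rw [map_mul (ρ (f ^ i)), ← MulAut.mul_apply, ← MulAut.mul_apply, ← map_mul, ← map_mul,
        ((Commute.refl f).zpow_right i).eq]
    exact fun c v => ⟨fun h => by simpa using key c⁻¹ _ h, key c v⟩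
  have hcu : ∀ c : C, c • u = u := by
    rintro ⟨c, hc⟩
    obtain ⟨i, rfl⟩ := mem_zpowers_iff.1 hc
    letI : MulAction L V := MulAction.compHom V ρ
    have : f ∈ MulAction.stabilizer L u := hu
    exact MulAction.mem_stabilizer_iff.1 (zpow_mem this i)
  have hc1 : ∀ c : C, c • (1 : V) = 1 := fun c => map_one (ρ (c : L))
  have hcmul : ∀ (c : C) (a b : V), c • (a * b) = c • a * c • b := fun c a b => map_mul (ρ (c : L)) a b
  have hcancel : ∀ a b : V, a * (a * b) = b := fun a b => by rw [← mul_assoc, h2, one_mul]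
  have hM7 : {v : V | v ∈ moved (ρ f) ∧ v ≠ 1}.ncard = 7 := by
    rw [show {v : V | v ∈ moved (ρ f) ∧ v ≠ 1} = (moved (ρ f) : Set V) \ {1} from rfl,
      Set.ncard_sdiff (Set.singleton_subset_iff.2 (one_mem _)) (Set.toFinite _), Set.ncard_singleton,
      ← Nat.card_coe_set_eq]
    exact congrArg (· - 1) hc8
  have hin : ∀ x ∈ O, x ∈ moved (ρ f) → ∀ v ∈ moved (ρ f), v ≠ 1 → v ∈ O := by
    intro x hxO hxM v hv hv1
    have hx : ρ f x ≠ x := fun h => hO1 x hxO (disjoint_def.1 hdis hxM h)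
    have heq : MulAction.orbit C x = {v : V | v ∈ moved (ρ f) ∧ v ≠ 1} := Set.eq_of_subset_of_ncard_le (by
      rintro _ ⟨c, rfl⟩
      exact ⟨(hM c x).2 hxM, hO1 _ (hOinv _ _ hxO)⟩) (by rw [hM7, ← Nat.card_coe_set_eq, hseven x hx])
      (Set.toFinite _)
    exact hCO x hxO (heq ▸ ⟨hv, hv1⟩)
  have hnu : u ∉ moved (ρ f) := fun h => hu1 (disjoint_def.1 hdis h hu)
  have hout : ∀ x ∈ O, x ∉ moved (ρ f) → x ≠ u → ∀ v, v ∉ moved (ρ f) → v ∈ O := by
    intro x hxO hxM hxu v hv
    by_cases hvu : v = u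
    · exact hvu ▸ ⟨1, by simp⟩
    have hx : ρ f x ≠ x := fun h => by
      rcases hfix x h with rfl | rfl
      exacts [hO1 _ hxO rfl, hxu rfl]
    have heq : MulAction.orbit C x = (fun v => u * v) '' {v : V | v ∈ moved (ρ f) ∧ v ≠ 1} :=
      Set.eq_of_subset_of_ncard_le (by
        rintro _ ⟨c, rfl⟩
        refine ⟨u * c • x, ⟨?_, fun h => hxu ?_⟩, hcancel u _⟩
        · have h1 := (hM c (u * x)).2 ((hcos x).resolve_left hxM)
          rwa [hcmul, hcu] at h1
        · have h' : c • (u * x) = c • (1 : V) := by rw [hcmul, hcu, hc1]; exact h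
          calc x = u * (u * x) := (hcancel u x).symm
            _ = u := by rw [MulAction.injective c h', mul_one])
        (by rw [Set.ncard_image_of_injective _ (mul_right_injective u), hM7, ← Nat.card_coe_set_eq, hseven x hx])
        (Set.toFinite _)
    refine hCO x hxO (heq ▸ ⟨u * v, ⟨(hcos v).resolve_left hv, fun h => hvu ?_⟩, hcancel u v⟩)
    calc v = u * (u * v) := (hcancel u v).symm
      _ = u := by rw [h, mul_one]
  by_cases hA : ∃ x ∈ O, x ∈ moved (ρ f)
  · by_cases hB : ∃ x ∈ O, x ∉ moved (ρ f) ∧ x ≠ u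
    · exfalso
      obtain ⟨x, hx, hxM⟩ := hA
      obtain ⟨y, hy, hyM, hyu⟩ := hB
      letI : MulAction L V := MulAction.compHom V ρ
      have hd : Nat.card (MulAction.orbit L u) ∣ Nat.card L := by
        rw [Nat.card_congr (MulAction.orbitEquivQuotientStabilizer L u)]
        exact card_quotient_dvd_card _
      have heq : O = ({1} : Set V)ᶜ := Set.Subset.antisymm (fun v hv => hO1 v hv) fun v hv => by
        by_cases hvM : v ∈ moved (ρ f)
        · exact hin x hx hxM v hvM hv
        · exact hout y hy hyM hyu v hvM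
      rw [show MulAction.orbit L u = O from rfl, heq, Nat.card_coe_set_eq, Set.ncard_compl, Set.ncard_singleton,
        hV, hL] at hd
      norm_num at hd
    · left
      push Not at hB
      obtain ⟨x, hx, hxM⟩ := hA
      haveI := Fintype.ofFinite V
      refine ⟨∏ v ∈ O.toFinset, v, ?_, fun g => ?_⟩
      swap
      · rw [map_prod]
        refine Finset.prod_bij (fun v _ => ρ g v) (fun v hv => ?_) (fun a _ b _ h => (ρ g).injective h)
          (fun v hv => ⟨ρ g⁻¹ v, ?_, ?_⟩) fun v _ => rfl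
        · rw [Set.mem_toFinset] at hv ⊢; exact hOinv g v hv
        · rw [Set.mem_toFinset] at hv ⊢; exact hOinv g⁻¹ v hv
        · rw [map_inv]; exact MulAut.apply_inv_self _ _ _
      let T := {v : V | v ∈ moved (ρ f) ∧ v ≠ 1}.toFinset
      have hPf : ρ f (∏ v ∈ T, v) = ∏ v ∈ T, v := by
        rw [map_prod]
        have hc : ∀ c : C, ∀ v ∈ T, c • v ∈ T := fun c v hv => by
          rw [Set.mem_toFinset] at hv ⊢
          exact ⟨(hM c v).2 hv.1, fun h => hv.2 (MulAction.injective c (h.trans (hc1 c).symm))⟩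
        refine Finset.prod_bij (fun v _ => (⟨f, mem_zpowers f⟩ : C) • v) (fun v hv => hc _ v hv)
          (fun a _ b _ h => MulAction.injective _ h)
          (fun v hv => ⟨(⟨f, mem_zpowers f⟩ : C)⁻¹ • v, hc _ v hv, smul_inv_smul _ _⟩) fun v _ => rfl
      have hP1 : (∏ v ∈ T, v) = 1 := disjoint_def.1 hdis (prod_mem fun v hv => by
        rw [Set.mem_toFinset] at hv; exact hv.1) hPf
      have e : O.toFinset = insert u T := by
        ext v
        rw [Set.mem_toFinset, Finset.mem_insert, Set.mem_toFinset]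
        refine ⟨fun hv => ?_, fun hv => ?_⟩
        · by_cases hvM : v ∈ moved (ρ f)
          · exact Or.inr ⟨hvM, hO1 v hv⟩
          · exact Or.inl (hB v hv hvM)
        · rcases hv with rfl | hv
          · exact ⟨1, by simp⟩
          · exact hin x hx hxM v hv.1 hv.2
      rw [e, Finset.prod_insert (fun h => hnu ((Set.mem_toFinset.1 h).1)), hP1, mul_one]
      exact hu1
  · push Not at hA
    by_cases hB : ∃ x ∈ O, x ∉ moved (ρ f) ∧ x ≠ u
    · obtain ⟨y, hy, hyM, hyu⟩ := hB
      refine Or.inr ⟨moved (ρ f), hc8, fun g v hv => ?_⟩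
      by_contra hcon
      have h5 := hOinv g⁻¹ _ (hout y hy hyM hyu _ hcon)
      rw [map_inv, MulAut.inv_apply_self] at h5
      exact hA v h5 hv
    · push Not at hB
      refine Or.inl ⟨u, hu1, fun g => ?_⟩
      exact hB _ ⟨g, rfl⟩ (hA _ ⟨g, rfl⟩)

end Sixteen

section Orbit

include hL in
/-- An involution fixing a point of an eight-element set forces a point fixed by everything. -/
theorem exists_fixed_point {α : Type*} [Finite α] [MulAction L α] (hα : Nat.card α = 8) {s : L}
    (hs : s * s = 1) (hs1 : s ≠ 1) {x : α} (hx : s • x = x) : ∃ y : α, ∀ g : L, g • y = y := by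
  classical
  have hd := Nat.card_congr (MulAction.orbitEquivQuotientStabilizer L x)
  have hmul := card_mul_index (MulAction.stabilizer L x)
  rw [hL] at hmul
  have h2 : 2 ∣ Nat.card (MulAction.stabilizer L x) := by
    have ho : orderOf (⟨s, hx⟩ : MulAction.stabilizer L x) = 2 := by
      haveI : Fact (Nat.Prime 2) := ⟨Nat.prime_two⟩
      exact orderOf_eq_prime (Subtype.ext (by rw [pow_two]; exact hs)) fun h => hs1 (congrArg Subtype.val h)
    exact ho ▸ orderOf_dvd_natCard _
  set O := MulAction.orbit L x with hO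
  have hcard : Nat.card O = (MulAction.stabilizer L x).index := hd
  have hne8 : Nat.card O ≠ 8 := by
    intro h
    rw [← hcard, h] at hmul
    omega
  have hle : Nat.card O ≤ 8 := hα ▸ Nat.card_le_card_of_injective _ Subtype.val_injective
  by_cases h7 : Nat.card O = 7
  · have hc : Oᶜ.ncard = 1 := by
      rw [Set.ncard_compl, hα, ← Nat.card_coe_set_eq, h7]
    obtain ⟨y, hy⟩ := Set.ncard_eq_one.1 hc
    refine ⟨y, fun g => ?_⟩
    have hyO : g • y ∈ Oᶜ := fun h => (hy.symm ▸ rfl : y ∈ Oᶜ) (by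
      obtain ⟨k, hk⟩ := h
      exact ⟨g⁻¹ * k, by simp only at hk ⊢; rw [mul_smul, hk, inv_smul_smul]⟩)
    rw [hy] at hyO
    exact hyO
  · refine ⟨x, fun g => ?_⟩
    have h := eq_one_of_small hL (MulAction.toPermHom L O) (by omega)
    exact congrArg Subtype.val (Equiv.Perm.congr_fun (DFunLike.congr_fun h g) ⟨x, MulAction.mem_orbit_self x⟩)

end Orbit

end CfsgLib.RankFourLinear
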