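import Cfsg.Agent.Lib.InvChar.RankFourLinear.Coord

/-!
# Small orbits on modules of order sixteen and fixed points in cosets
-/

set_option autoImplicit false
set_option linter.style.haveILetI false
set_option linter.unusedSectionVars false

open Subgroup

universe u v

namespace CfsgLib.RankFourLinear

variable {L : Type v} [Group L] [Finite L] [IsSimpleGroup L] (hL : Nat.card L = 168)

include hL in
/-- A small orbit away from a fixed vector gives an invariant subgroup of order eight. -/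
theorem invariant_of_small_orbit {V : Type*} [CommGroup V] [Finite V] (hV : Nat.card V = 16)
    (h2 : ∀ v : V, v * v = 1) (ρ : L →* MulAut V) (hρ : ρ ≠ 1) {u a : V} (hu1 : u ≠ 1)
    (hu : ∀ g, ρ g u = u) (ha1 : a ≠ 1) (hau : a ≠ u) (hsmall : (Set.range fun g => ρ g a).ncard ≤ 12) :
    ∃ S : Subgroup V, Nat.card S = 8 ∧ ∀ g v, v ∈ S → ρ g v ∈ S := by
  classical
  haveI : Fact (Nat.Prime 7) := ⟨by norm_num⟩
  obtain ⟨f, hf, hf1⟩ := exists_seven hL
  obtain ⟨hc8, hdis, u', -, hu', hfix, hcos⟩ := moved_facts hL hV h2 ρ hρ hf hf1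
  obtain rfl : u = u' := (hfix u (hu f)).resolve_left hu1
  have hfo : orderOf f = 7 := orderOf_eq_prime hf hf1
  let C := zpowers f
  letI : MulAction C V := MulAction.compHom V (ρ.comp C.subtype)
  set O := Set.range fun g => ρ g a with hO
  have hOinv : ∀ g v, v ∈ O → ρ g v ∈ O := by
    rintro g _ ⟨h, rfl⟩
    exact ⟨g * h, by simp [map_mul]⟩
  have hne : ∀ x ∈ O, ρ f x ≠ x := by
    rintro _ ⟨g, rfl⟩ h
    rcases hfix _ h with h' | h'
    · exact ha1 ((ρ g).map_eq_one_iff.1 h')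
    · exact hau ((ρ g).injective (h'.trans (hu g).symm))
  have horb : ∀ x, ρ f x ≠ x → Nat.card (MulAction.orbit C x) = 7 := by
    intro x hx
    have hle : Nat.card (MulAction.orbit C x) ∣ Nat.card C := by
      rw [Nat.card_congr (MulAction.orbitEquivQuotientStabilizer C x)]
      exact card_quotient_dvd_card _
    rw [Nat.card_zpowers, hfo] at hle
    refine ((Nat.dvd_prime (by norm_num)).1 hle).resolve_left fun h => hx ?_
    have hsub : (MulAction.orbit C x).Subsingleton := by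
      rw [← Set.ncard_le_one_iff_subsingleton, ← Nat.card_coe_set_eq, h]
    exact hsub ⟨⟨f, mem_zpowers f⟩, rfl⟩ (MulAction.mem_orbit_self x)
  have hsub : ∀ x ∈ O, MulAction.orbit C x ⊆ O := by
    rintro x hx _ ⟨c, rfl⟩
    exact hOinv _ _ hx
  have haO : a ∈ O := ⟨1, by simp⟩
  have hOeq : O = MulAction.orbit C a := by
    refine Set.Subset.antisymm (fun x hx => ?_) (hsub a haO)
    by_contra hxn
    have hd : Disjoint (MulAction.orbit C a) (MulAction.orbit C x) := by
      rw [Set.disjoint_left]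
      intro y hy hy'
      refine hxn ?_
      rw [← MulAction.orbit_eq_iff.2 hy, MulAction.orbit_eq_iff.2 hy']
      exact MulAction.mem_orbit_self x
    have h := Set.ncard_le_ncard (Set.union_subset (hsub a haO) (hsub x hx)) (Set.toFinite _)
    rw [Set.ncard_union_eq hd (Set.toFinite _) (Set.toFinite _), ← Nat.card_coe_set_eq, ← Nat.card_coe_set_eq,
      horb a (hne a haO), horb x (hne x hx)] at h
    omega
  have hM : ∀ c : C, ∀ v, v ∈ moved (ρ f) → c • v ∈ moved (ρ f) := by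
    rintro ⟨c, hc⟩ _ ⟨b, rfl⟩
    obtain ⟨i, rfl⟩ := mem_zpowers_iff.1 hc
    refine ⟨ρ (f ^ i) b, ?_⟩
    show ρ f (ρ (f ^ i) b) * ρ (f ^ i) b = ρ (f ^ i) (ρ f b * b)
    rw [map_mul (ρ (f ^ i)), ← MulAut.mul_apply, ← MulAut.mul_apply, ← map_mul, ← map_mul,
      ((Commute.refl f).zpow_right i).eq]
  obtain ⟨t, htu, htM⟩ : ∃ t : V, (∀ g, ρ g t = t) ∧ t * a ∈ moved (ρ f) := by
    rcases hcos a with h | h
    · exact ⟨1, fun g => map_one _, by rwa [one_mul]⟩
    · exact ⟨u, hu, h⟩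
  refine ⟨moved (ρ f), hc8, fun g v hv => ?_⟩
  by_cases hv1 : v = 1
  · rw [hv1, map_one]; exact one_mem _
  have htt : ∀ x : V, t * (t * x) = x := fun x => by rw [← mul_assoc, h2, one_mul]
  have hinO : ∀ x ∈ O, t * x ∈ moved (ρ f) ∧ t * x ≠ 1 := by
    intro x hx
    obtain ⟨c, rfl⟩ : x ∈ MulAction.orbit C a := hOeq ▸ hx
    have h1 := hM c _ htM
    rw [show c • (t * a) = c • t * c • a from map_mul (ρ (c : L)) t a,
      show c • t = t from htu _] at h1
    refine ⟨h1, fun h => ?_⟩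
    have e1 : c • a = t := (htt (c • a)).symm.trans (by rw [show t * c • a = 1 from h, mul_one])
    exact hne _ (hOinv c _ haO) (by rw [show ρ (c : L) a = t from e1]; exact htu f)
  have hSO : {x : V | x ∈ moved (ρ f) ∧ x ≠ 1} = (fun x => t * x) '' O := by
    symm
    refine Set.eq_of_subset_of_ncard_le (by rintro _ ⟨x, hx, rfl⟩; exact hinO x hx) ?_ (Set.toFinite _)
    rw [Set.ncard_image_of_injective _ (mul_right_injective t), hOeq, ← Nat.card_coe_set_eq (MulAction.orbit C a),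
      horb a (hne a haO), show {x : V | x ∈ moved (ρ f) ∧ x ≠ 1} = (moved (ρ f) : Set V) \ {1} from rfl,
      Set.ncard_sdiff (Set.singleton_subset_iff.2 (one_mem _)) (Set.toFinite _), Set.ncard_singleton,
      ← Nat.card_coe_set_eq]
    exact (congrArg (· - 1) hc8).le
  obtain ⟨x, hx, rfl⟩ : v ∈ (fun x => t * x) '' O := hSO ▸ (⟨hv, hv1⟩ : v ∈ moved (ρ f) ∧ v ≠ 1)
  show ρ g (t * x) ∈ _
  rw [map_mul, htu]
  exact (hinO _ (hOinv g x hx)).1

variable {G : Type u} [Group G] [Finite G] {π : G →* L}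

include hL in
/-- A point of a coset fixed by an involution yields a point fixed by the whole group. -/
theorem exists_fixed_in_coset (hπ : Function.Surjective π) {U : Subgroup G} (hU : Nat.card U = 8) {z : G}
    (hzU : ∀ g : G, ∀ x, z⁻¹ * x ∈ U → z⁻¹ * (g * x * g⁻¹) ∈ U)
    (hker : ∀ c ∈ π.ker, ∀ x, z⁻¹ * x ∈ U → c * x * c⁻¹ = x) {s x : G} (hs : s * s ∈ π.ker) (hs1 : s ∉ π.ker)
    (hx : z⁻¹ * x ∈ U) (hfix : s * x * s⁻¹ = x) : ∃ y, z⁻¹ * y ∈ U ∧ ∀ g : G, g * y * g⁻¹ = y := by
  classical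
  let T := {y : G // z⁻¹ * y ∈ U}
  let act : G →* Equiv.Perm T :=
    MonoidHom.mk' (fun g =>
      { toFun := fun y => ⟨g * y * g⁻¹, hzU g y y.2⟩
        invFun := fun y => ⟨g⁻¹ * y * g⁻¹⁻¹, hzU g⁻¹ y y.2⟩
        left_inv := fun y => Subtype.ext (by group)
        right_inv := fun y => Subtype.ext (by group) }) fun a b => Equiv.ext fun y => Subtype.ext (by
      show a * b * y * (a * b)⁻¹ = a * (b * y * b⁻¹) * a⁻¹
      group)
  have hk : π.ker ≤ act.ker := fun c hc => MonoidHom.mem_ker.2 (Equiv.ext fun y => Subtype.ext (hker c hc y y.2))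
  let φ : L →* Equiv.Perm T := π.liftOfSurjective hπ ⟨act, hk⟩
  have hφ : ∀ g, φ (π g) = act g := fun g => by simp [φ]
  letI : MulAction L T := MulAction.compHom T φ
  let e : U ≃ T :=
    { toFun := fun u => ⟨z * u, by rw [inv_mul_cancel_left]; exact u.2⟩
      invFun := fun y => ⟨z⁻¹ * y, y.2⟩
      left_inv := fun u => Subtype.ext (inv_mul_cancel_left z _)
      right_inv := fun y => Subtype.ext (mul_inv_cancel_left z _) }
  have hT : Nat.card T = 8 := by rw [← Nat.card_congr e, hU]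
  obtain ⟨y, hy⟩ := exists_fixed_point hL hT (s := π s) (by rw [← map_mul]; exact MonoidHom.mem_ker.1 hs)
    (fun h => hs1 (MonoidHom.mem_ker.2 h)) (x := ⟨x, hx⟩)
    (by show φ (π s) _ = _; rw [hφ]; exact Subtype.ext hfix)
  refine ⟨y, y.2, fun g => ?_⟩
  have h : φ (π g) y = y := hy (π g)
  rw [hφ] at h
  exact congrArg Subtype.val h

end CfsgLib.RankFourLinear
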