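import Cfsg.Agent.Lib.InvChar.RankFourLinear.Orbit
import Cfsg.Agent.Lib.InvChar.RankFourLinear.Frame

/-!
# A layer of order eight below a layer of order sixteen
-/

set_option autoImplicit false
set_option linter.style.haveILetI false
set_option linter.unusedSectionVars false

open Subgroup
open CfsgLib.RankFourAltFive (SecLE pair)

universe u v

namespace CfsgLib.RankFourLinear

variable {G : Type u} [Group G] [Finite G] {L : Type v} [Group L] [Finite L] [IsSimpleGroup L]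
  (hL : Nat.card L = 168) {π : G →* L}

/-- A normal subgroup of order eight, elementary, central in the kernel and moved by the group. -/
structure Natural (π : G →* L) (U : Subgroup G) : Prop where
  surj : Function.Surjective π
  le : U ≤ π.ker
  normal : U.Normal
  card : Nat.card U = 8
  exp : ∀ w ∈ U, w * w = 1
  central : ∀ c ∈ π.ker, ∀ w ∈ U, c * w = w * c
  moves : ∃ g, ∃ w ∈ U, g * w ≠ w * g

include hL in
theorem Natural.eq_one_of_fixed {U : Subgroup G} (N : Natural π U) {w : G} (hw : w ∈ U)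
    (hfix : ∀ g, g * w * g⁻¹ = w) : w = 1 := by
  haveI := N.normal
  obtain ⟨V, iV, iF, ρ, P, C⟩ := exists_coord N.surj U ⊥ bot_le (fun m hm => mem_bot.2 (N.exp m hm))
    (fun c hc m hm => mem_bot.2 (by rw [N.central c hc m hm, mul_inv_cancel_right, mul_inv_cancel]))
  have hV : Nat.card V = 8 := by rw [C.card, relIndex_bot_left, N.card]
  have hρ : ρ ≠ 1 := C.ne_one (by
    obtain ⟨g, w, hw, hne⟩ := N.moves
    exact ⟨g, w, hw, fun h => hne (mul_inv_eq_iff_eq_mul.1 (mul_inv_eq_one.1 (mem_bot.1 h)))⟩)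
  have h1 : P w = 1 := fixed_only_one hL hV C.v2 ρ hρ fun l => by
    obtain ⟨g, rfl⟩ := N.surj l
    rw [← C.equiv g w hw, hfix]
  exact mem_bot.1 ((C.eq_one w hw).1 h1)

theorem sq_of_central {a b : G} (hc : a * b⁻¹ * b = b * (a * b⁻¹)) (h1 : a * b⁻¹ * (a * b⁻¹) = 1) :
    a * a = b * b := by
  calc a * a = a * b⁻¹ * (b * (a * b⁻¹)) * b := by group
    _ = a * b⁻¹ * (a * b⁻¹ * b) * b := by rw [hc]
    _ = (a * b⁻¹) * (a * b⁻¹) * (b * b) := by group
    _ = b * b := by rw [h1, one_mul]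

include hL in
/-- A section of order eight with a nontrivial square is rigid. -/
theorem Natural.rigid {U : Subgroup G} (N : Natural π U) (M W : Subgroup G) [M.Normal] [W.Normal] (hWM : W ≤ M)
    (hUW : U ≤ W) (hidx : W.relIndex M = 8) (hsq : ∀ m ∈ M, m * m ∈ U) (hW2 : ∀ w ∈ W, w * w = 1)
    (hWc : ∀ m ∈ M, ∀ w ∈ W, m * w = w * m) (htriv : ∀ c ∈ π.ker, ∀ m ∈ M, c * m * c⁻¹ * m⁻¹ ∈ W)
    (hmove : ∃ g, ∃ m ∈ M, g * m * g⁻¹ * m⁻¹ ∉ W) (hne : ∃ m ∈ M, m * m ≠ 1) :
    (∀ a ∈ M, ∀ b ∈ M, a * b = b * a) ∧ ∀ m ∈ M, m * m = 1 → m ∈ W := by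
  obtain ⟨V, iV, iF, ρ, P, C⟩ := exists_coord N.surj M W hWM (fun m hm => hUW (hsq m hm)) htriv
  have hV : Nat.card V = 8 := C.card.trans hidx
  have hρ := C.ne_one hmove
  have hcm : ∀ g, ∀ a ∈ M, g * a * g⁻¹ ∈ M := fun g a ha => C.conj_mem ha g
  have huniq : ∀ a ∈ M, ∀ b ∈ M, P a = P b → a * a = b * b := by
    intro a ha b hb h
    have hu := C.div_mem ha hb h
    exact sq_of_central (hWc b hb _ hu).symm (hW2 _ hu)
  have hconj : ∀ g a : G, g * (a * a) * g⁻¹ = g * a * g⁻¹ * (g * a * g⁻¹) := fun g a => conj_mul.symm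
  obtain ⟨m0, hm0, hm01⟩ := hne
  have hP0 : P m0 ≠ 1 := fun h => hm01 (by rw [huniq m0 hm0 1 (one_mem M) (h.trans C.map_one.symm), one_mul])
  have hnz : ∀ a ∈ M, P a ≠ 1 → a * a ≠ 1 := by
    intro a ha hPa h1
    obtain ⟨l, hl⟩ := transitive_eight hL hV C.v2 ρ hρ hPa hP0
    obtain ⟨g, rfl⟩ := N.surj l
    apply hm01
    rw [← huniq _ (hcm g a ha) m0 hm0 (by rw [C.equiv g a ha, hl]), ← hconj, h1, mul_one, mul_inv_cancel]
  have hinj : ∀ a ∈ M, ∀ b ∈ M, a * a = b * b → P a = P b := by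
    intro a ha b hb h
    by_cases hPa : P a = 1
    · by_contra hne'
      exact hnz b hb (fun hb1 => hne' (hPa.trans hb1.symm))
        (by rw [← h, huniq a ha 1 (one_mem M) (hPa.trans C.map_one.symm), one_mul])
    by_cases hPb : P b = 1
    · exact absurd (by rw [h, huniq b hb 1 (one_mem M) (hPb.trans C.map_one.symm), one_mul]) (hnz a ha hPa)
    by_contra hab
    refine hnz a ha hPa (N.eq_one_of_fixed hL (hsq a ha) fun g => ?_)
    by_cases hc : P (g * a * g⁻¹) = P a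
    · rw [hconj, huniq _ (hcm g a ha) a ha hc]
    have hc1 : P (g * a * g⁻¹) ≠ 1 := by
      rw [C.equiv g a ha]; exact fun h => hPa ((ρ (π g)).map_eq_one_iff.1 h)
    obtain ⟨l, hl1, hl2⟩ := transitive_pairs hL hV C.v2 ρ hρ hPa hPb hab hPa hc1 (Ne.symm hc)
    obtain ⟨h', rfl⟩ := N.surj l
    have e1 := huniq _ (hcm h' a ha) a ha (by rw [C.equiv h' a ha, hl1])
    have e2 := huniq _ (hcm h' b hb) _ (hcm g a ha) (by rw [C.equiv h' b hb, hl2])
    rw [hconj, ← e2, ← hconj, ← h, hconj, e1]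
  refine ⟨fun a ha b hb => ?_, fun m hm h1 => (C.eq_one m hm).1 (by
    by_contra h; exact hnz m hm h h1)⟩
  by_cases hPa : P a = 1
  · exact (hWc b hb a ((C.eq_one a ha).1 hPa)).symm
  by_cases hPb : P b = 1
  · exact hWc a ha b ((C.eq_one b hb).1 hPb)
  by_cases hab : P a = P b
  · have hu := C.div_mem ha hb hab
    calc a * b = (a * b⁻¹) * b * b := by group
      _ = b * (a * b⁻¹) * b := by rw [hWc b hb _ hu]
      _ = b * a := by group
  obtain ⟨e, he1, he2⟩ := exists_frame hV C.v2 hPa hPb hab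
  obtain ⟨l, hl⟩ := exists_frames hL hV C.v2 ρ hρ e (rr * rr)
  obtain ⟨g, rfl⟩ := N.surj l
  choose Q hQM hQ using C.surj
  obtain ⟨v, hv⟩ : ∃ v, Q v * Q v = a * a * (b * b) := by
    let f : V → U := fun v => ⟨Q v * Q v, hsq _ (hQM v)⟩
    have hf : Function.Injective f := fun v w h => by
      rw [← hQ v, ← hQ w]
      exact hinj _ (hQM v) _ (hQM w) (congrArg Subtype.val h)
    have hb' : Function.Bijective f := (Nat.bijective_iff_injective_and_card f).2 ⟨hf, by rw [hV, N.card]⟩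
    obtain ⟨v, hv⟩ := hb'.2 ⟨a * a * (b * b), mul_mem (hsq a ha) (hsq b hb)⟩
    exact ⟨v, congrArg Subtype.val hv⟩
  have hfa : P (g * a * g⁻¹) = P a := by rw [C.equiv g a ha, ← he1, hl]; rfl
  have hfb : P (g * b * g⁻¹) = P b := by rw [C.equiv g b hb, ← he2, hl]; rfl
  have hc : P (g * Q v * g⁻¹) = P (Q v) := by
    refine hinj _ (hcm g _ (hQM v)) _ (hQM v) ?_
    rw [← hconj, hv, ← conj_mul, hconj, hconj, huniq _ (hcm g a ha) a ha hfa, huniq _ (hcm g b hb) b hb hfb]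
  have hc' := C.frames hl (hQM v)
  rw [hc, hQ, eq_comm] at hc'
  have hfour : ∀ c : V3, c.toAdd.2.2 = 0 → c = 1 ∨ c = pt 1 0 0 ∨ c = pt 0 1 0 ∨ c = pt 1 0 0 * pt 0 1 0 := by decide
  have hab2 : a * b * (a * b) = a * a * (b * b) := by
    rcases hfour _ ((rr_sq_eq _).1 hc') with h | h | h | h <;> rw [MulEquiv.symm_apply_eq] at h
    · exfalso
      rw [map_one] at h
      apply hab
      refine hinj a ha b hb ?_
      rw [huniq (Q v) (hQM v) 1 (one_mem M) ((hQ v).trans (h.trans C.map_one.symm)), one_mul] at hv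
      rw [eq_inv_of_mul_eq_one_left hv.symm, inv_eq_of_mul_eq_one_right (N.exp _ (hsq b hb))]
    · exfalso
      rw [huniq (Q v) (hQM v) a ha ((hQ v).trans (h.trans he1)), eq_comm, mul_eq_left] at hv
      exact hnz b hb hPb hv
    · exfalso
      rw [huniq (Q v) (hQM v) b hb ((hQ v).trans (h.trans he2)), eq_comm, mul_eq_right] at hv
      exact hnz a ha hPa hv
    · rw [← hv]
      refine (huniq (Q v) (hQM v) (a * b) (mul_mem ha hb) ?_).symm
      rw [hQ v, h, map_mul, he1, he2, C.map_mul a ha b hb]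
  have h3 : b * a * b = a * b * b := mul_left_cancel (a := a) (by simpa only [mul_assoc] using hab2)
  exact (mul_right_cancel h3).symm

include hL in
theorem Natural.homocyclic {U : Subgroup G} (N : Natural π U) (M : Subgroup G) [M.Normal] (hM : M ≤ π.ker)
    (hUM : U ≤ M) (hidx : U.relIndex M = 8) (hsq : ∀ m ∈ M, m * m ∈ U)
    (htriv : ∀ c ∈ π.ker, ∀ m ∈ M, c * m * c⁻¹ * m⁻¹ ∈ U)
    (hmove : ∃ g, ∃ m ∈ M, g * m * g⁻¹ * m⁻¹ ∉ U) (hne : ∃ m ∈ M, m * m ≠ 1) : Homocyclic π M U := by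
  haveI := N.normal
  obtain ⟨h1, h2⟩ := N.rigid hL M U hUM le_rfl hidx hsq N.exp
    (fun m hm w hw => N.central m (hM hm) w hw) htriv hmove hne
  exact ⟨N.surj, hM, ‹_›, N.normal, hUM, h1, hsq, h2, hidx, N.card, N.exp, hmove, htriv⟩

include hL in
/-- Where fourth powers of frame lifts leave the homocyclic subgroup, some element is fixed. -/
theorem Homocyclic.fourth_mem {M U R1 : Subgroup G} (HM : Homocyclic π M U) (N : Natural π U)
    (hMR : M ≤ R1) (hR1 : R1 ≤ π.ker) (hidx : M.relIndex R1 = 2) {z : G} (hz : z ∈ R1) (hzM : z ∉ M)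
    (hz2 : z * z = 1) (hzfix : ∀ g, g * z * g⁻¹ * z⁻¹ ∈ U)
    (hcenz : (∀ a ∈ R1, z * a = a * z) → ∀ c ∈ π.ker, z * c = c * z)
    (hfix : ∀ y ∈ R1, y ∉ U → y * y = 1 → (∀ g, g * y * g⁻¹ = y) → False)
    {V : Type u} [CommGroup V] [Finite V] {ρ : L →* MulAut V} {P : G → V} (C : Coord π M U ρ P)
    (e : V3 ≃* V) (g : G) (hg : Frames ρ e rr (π g)) (hg4 : g * g * (g * g) ∈ R1) :
    g * g * (g * g) ∈ M := by
  classical
  by_contra hf
  have hV : Nat.card V = 8 := C.card.trans HM.index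
  have hρ := C.ne_one HM.moves
  have hcm : ∀ h, ∀ a ∈ M, h * a * h⁻¹ ∈ M := fun h a ha => C.conj_mem ha h
  have hcos : ∀ x ∈ R1, x ∈ M ∨ z⁻¹ * x ∈ M := by
    intro x hx
    by_cases h : x ∈ M
    · exact Or.inl h
    refine Or.inr (mem_subgroupOf.1 ((mul_mem_iff_of_index_two hidx).2 ⟨fun h' => absurd ?_ hzM, fun h' => absurd (mem_subgroupOf.1 h') h⟩ :
      (⟨z, hz⟩ : R1)⁻¹ * ⟨x, hx⟩ ∈ M.subgroupOf R1))
    exact inv_mem_iff.1 (mem_subgroupOf.1 h')
  set f := g * g * (g * g) with hfdef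
  set μ := z⁻¹ * f with hμdef
  have hμ : μ ∈ M := (hcos f hg4).resolve_left hf
  have hfg : g * f * g⁻¹ = f := by rw [hfdef]; group
  have huz : ∀ w ∈ U, z * w = w * z := fun w hw => N.central z (hR1 hz) w hw
  have hμfix : P (g * μ * g⁻¹) = P μ := by
    have hu := hzfix g
    have e1 : g * μ * g⁻¹ = (g * z * g⁻¹ * z⁻¹ * z)⁻¹ * f := by
      calc g * μ * g⁻¹ = (g * z * g⁻¹)⁻¹ * (g * f * g⁻¹) := by rw [hμdef]; group
        _ = _ := by rw [hfg]; group
    have e2 : g * μ * g⁻¹ = (g * z * g⁻¹ * z⁻¹)⁻¹ * μ := by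
      rw [e1, ← huz _ hu, hμdef, mul_inv_rev, mul_assoc]
    rw [e2, C.map_mul _ (HM.le' (inv_mem hu)) _ hμ, (C.eq_one _ (HM.le' (inv_mem hu))).2 (inv_mem hu), one_mul]
  -- `z` centralizes `M`
  have hg2 : Frames ρ e (rr * rr) (π (g * g)) := by rw [map_mul]; exact hg.mul ρ hg
  obtain ⟨n, hn, hPn⟩ := C.surj (e (pt 0 1 0))
  have hψK : z * n * z⁻¹ * n⁻¹ ∈ axisSq HM C e := by
    have hu : n⁻¹ * (g * g * n * (g * g)⁻¹) ∈ U := by
      rw [← C.eq_one _ (mul_mem (inv_mem hn) (hcm _ n hn)), C.map_mul _ (inv_mem hn) _ (hcm _ n hn), C.map_inv hn,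
        C.equiv _ n hn, hPn, hg2, ← MulEquiv.map_mul]
      exact (congrArg e (by decide)).trans (map_one e)
    obtain ⟨m, hm, hmu⟩ := exists_sqrt HM C hu
    have e2 : z * n * z⁻¹ = f * n * f⁻¹ := by
      calc z * n * z⁻¹ = z * (μ * n * μ⁻¹) * z⁻¹ := by rw [HM.comm μ hμ n hn, mul_inv_cancel_right]
        _ = f * n * f⁻¹ := by rw [hμdef]; group
    have e3 : z * n * z⁻¹ * n⁻¹ = (g * g * m * (g * g)⁻¹ * m) * (g * g * m * (g * g)⁻¹ * m) := by
      have hu' : g * g * n * (g * g)⁻¹ = n * (m * m) := by rw [hmu]; group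
      have hσu : g * g * (m * m) * (g * g)⁻¹ ∈ M := hcm _ _ (mul_mem hm hm)
      calc z * n * z⁻¹ * n⁻¹ = g * g * (g * g * n * (g * g)⁻¹) * (g * g)⁻¹ * n⁻¹ := by rw [e2, hfdef]; group
        _ = g * g * (n * (m * m)) * (g * g)⁻¹ * n⁻¹ := by rw [hu']
        _ = (g * g * n * (g * g)⁻¹) * (g * g * (m * m) * (g * g)⁻¹) * n⁻¹ := by group
        _ = n * ((m * m) * (g * g * (m * m) * (g * g)⁻¹)) * n⁻¹ := by rw [hu']; group
        _ = (m * m) * (g * g * (m * m) * (g * g)⁻¹) := by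
          rw [HM.comm n hn _ (mul_mem (mul_mem hm hm) hσu), mul_inv_cancel_right]
        _ = g * g * (m * m) * (g * g)⁻¹ * (m * m) := HM.comm _ (mul_mem hm hm) _ hσu
        _ = g * g * m * (g * g)⁻¹ * ((g * g * m * (g * g)⁻¹) * m) * m := by group
        _ = g * g * m * (g * g)⁻¹ * (m * (g * g * m * (g * g)⁻¹)) * m := by rw [HM.comm _ (hcm _ m hm) m hm]
        _ = _ := by group
    refine ⟨g * g * m * (g * g)⁻¹ * m, mul_mem (hcm _ m hm) hm, ?_, e3.symm⟩
    rw [C.map_mul _ (hcm _ m hm) _ hm]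
    have e4 := C.frames hg2 hm
    rcases rr_sq_mul (e.symm (P m)) with h | h
    · rw [← show (rr * rr) (e.symm (P m)) = rr (rr (e.symm (P m))) from rfl, ← e4, ← MulEquiv.map_mul,
        MulEquiv.symm_apply_eq, map_one] at h
      exact Or.inl h
    · rw [← show (rr * rr) (e.symm (P m)) = rr (rr (e.symm (P m))) from rfl, ← e4, ← MulEquiv.map_mul,
        MulEquiv.symm_apply_eq] at h
      exact Or.inr h
  have hψconj : ∀ h a, a ∈ M → h * (z * a * z⁻¹ * a⁻¹) * h⁻¹ =
      z * (h * a * h⁻¹) * z⁻¹ * (h * a * h⁻¹)⁻¹ := by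
    intro h a ha
    set u := h * z * h⁻¹ * z⁻¹ with hudef
    have hu : u ∈ U := hzfix h
    calc h * (z * a * z⁻¹ * a⁻¹) * h⁻¹
        = (u * z) * (h * a * h⁻¹) * (u * z)⁻¹ * (h * a * h⁻¹)⁻¹ := by rw [hudef]; group
      _ = z * (u * (h * a * h⁻¹)) * (z * u)⁻¹ * (h * a * h⁻¹)⁻¹ := by rw [← huz u hu]; group
      _ = z * ((h * a * h⁻¹) * u) * (z * u)⁻¹ * (h * a * h⁻¹)⁻¹ := by rw [HM.comm u (HM.le' hu) _ (hcm h a ha)]
      _ = _ := by group
  have hψwd : ∀ a ∈ M, ∀ b ∈ M, P a = P b → z * a * z⁻¹ * a⁻¹ = z * b * z⁻¹ * b⁻¹ := by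
    intro a ha b hb h
    have hu := C.div_mem ha hb h
    calc z * a * z⁻¹ * a⁻¹ = z * (a * b⁻¹) * z⁻¹ * (z * b * z⁻¹ * b⁻¹) * (a * b⁻¹)⁻¹ := by group
      _ = (a * b⁻¹) * (z * b * z⁻¹ * b⁻¹) * (a * b⁻¹)⁻¹ := by rw [huz _ hu, mul_inv_cancel_right]
      _ = z * b * z⁻¹ * b⁻¹ := by
        rw [HM.comm _ (mul_mem ha (inv_mem hb)) _ (HM.le' (HM.triv z (hR1 hz) b hb)), mul_inv_cancel_right]
  have hψn : z * n * z⁻¹ * n⁻¹ = 1 := by
    obtain ⟨m, hm, hPm, hmm⟩ := hψK
    rcases hPm with h | h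
    · rw [← hmm, sq_unique HM C hm (one_mem M) (h.trans C.map_one.symm), one_mul]
    exfalso
    obtain ⟨l, hl1, hl2⟩ := transitive_pairs hL hV C.v2 ρ hρ (a := P n) (b := P m) (a' := P n) (b' := e (pt 0 0 1))
      (by rw [hPn]; exact fun h' => absurd (e.map_eq_one_iff.1 h') (by decide))
      (by rw [h]; exact fun h' => absurd (e.map_eq_one_iff.1 h') (by decide))
      (by rw [hPn, h]; exact fun h' => absurd (e.injective h') (by decide))
      (by rw [hPn]; exact fun h' => absurd (e.map_eq_one_iff.1 h') (by decide))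
      (fun h' => absurd (e.map_eq_one_iff.1 h') (by decide))
      (by rw [hPn]; exact fun h' => absurd (e.injective h') (by decide))
    obtain ⟨h', rfl⟩ := HM.surj l
    have e5 := hψconj h' n hn
    rw [hψwd _ (hcm h' n hn) n hn (by rw [C.equiv h' n hn, hl1]), ← hmm, ← conj_mul] at e5
    have e6 := sq_inj HM C (hcm h' m hm) hm e5
    rw [C.equiv h' m hm, hl2, h] at e6
    exact absurd (e.injective e6) (by decide)
  have hzMc : ∀ a ∈ M, z * a = a * z := by
    intro a ha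
    have : z * a * z⁻¹ * a⁻¹ = 1 := by
      by_cases hPa : P a = 1
      · rw [huz a ((C.eq_one a ha).1 hPa), mul_inv_cancel_right, mul_inv_cancel]
      · obtain ⟨l, hl⟩ := transitive_eight hL hV C.v2 ρ hρ (a := P n)
          (by rw [hPn]; exact fun h' => absurd (e.map_eq_one_iff.1 h') (by decide)) hPa
        obtain ⟨h', rfl⟩ := HM.surj l
        rw [hψwd a ha _ (hcm h' n hn) (by rw [C.equiv h' n hn, hl]), ← hψconj h' n hn, hψn, mul_one, mul_inv_cancel]
    exact mul_inv_eq_iff_eq_mul.1 (mul_inv_eq_one.1 this)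
  have hzc := hcenz fun a ha => by
    rcases hcos a ha with h | h
    · exact hzMc a h
    · calc z * a = z * (z * (z⁻¹ * a)) := by group
        _ = z * ((z⁻¹ * a) * z) := by rw [hzMc _ h]
        _ = a * z := by group
  have hker : ∀ c ∈ π.ker, ∀ x, z⁻¹ * x ∈ U → c * x * c⁻¹ = x := by
    intro c hc x hx
    calc c * x * c⁻¹ = (c * z) * (z⁻¹ * x) * c⁻¹ := by group
      _ = (z * c) * (z⁻¹ * x) * c⁻¹ := by rw [hzc c hc]
      _ = z * ((z⁻¹ * x) * c) * c⁻¹ := by rw [mul_assoc z c, N.central c hc _ hx]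
      _ = x := by group
  have hzU : ∀ h : G, ∀ x, z⁻¹ * x ∈ U → z⁻¹ * (h * x * h⁻¹) ∈ U := by
    intro h x hx
    set u := h * z * h⁻¹ * z⁻¹ with hudef
    have hu : u ∈ U := hzfix h
    have e7 : z⁻¹ * (h * x * h⁻¹) = z⁻¹ * (u * z) * (h * (z⁻¹ * x) * h⁻¹) := by rw [hudef]; group
    rw [e7, ← huz u hu, inv_mul_cancel_left]
    exact mul_mem hu (N.normal.conj_mem _ hx h)
  have hs : g * g * (g * g) ∈ π.ker := hR1 hg4
  have hs1 : g * g ∉ π.ker := fun h => by
    have h1 := hg2 (pt 0 0 1)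
    rw [MonoidHom.mem_ker.1 h, map_one, MulAut.one_apply] at h1
    exact rr_sq_ne (e.injective h1.symm)
  obtain ⟨k, hk, hPk⟩ := C.surj (e (pt 0 0 1))
  set w := g * g * k * (g * g)⁻¹ * k with hw
  have hwM : w ∈ M := mul_mem (hcm _ k hk) hk
  have hσw : g * g * w * (g * g)⁻¹ = w := by
    calc g * g * (g * g * k * (g * g)⁻¹ * k) * (g * g)⁻¹
        = f * k * f⁻¹ * (g * g * k * (g * g)⁻¹) := by rw [hfdef]; group
      _ = z * (μ * k * μ⁻¹) * z⁻¹ * (g * g * k * (g * g)⁻¹) := by rw [hμdef]; group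
      _ = k * (g * g * k * (g * g)⁻¹) := by
        rw [HM.comm μ hμ k hk, mul_inv_cancel_right, hzMc k hk, mul_inv_cancel_right]
      _ = w := HM.comm _ hk _ (hcm _ k hk)
  have hσf : g * g * f * (g * g)⁻¹ = f := by rw [hfdef]; simp only [mul_assoc, mul_inv_rev, mul_inv_cancel_left, mul_inv_cancel, mul_one]
  obtain ⟨x, hx, hxfix⟩ : ∃ x, z⁻¹ * x ∈ U ∧ g * g * x * (g * g)⁻¹ = x := by
    have h1 := C.frames hg hμ
    rw [hμfix, eq_comm] at h1
    rcases (rr_fix _).1 h1 with h | h <;> rw [MulEquiv.symm_apply_eq] at h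
    · exact ⟨f, (C.eq_one μ hμ).1 (h.trans (map_one e)), hσf⟩
    · refine ⟨f * w⁻¹, ?_, ?_⟩
      · rw [← mul_assoc, ← hμdef, ← C.eq_one _ (mul_mem hμ (inv_mem hwM)), C.map_mul _ hμ _ (inv_mem hwM),
          C.map_inv hwM, h, hw, C.map_mul _ (hcm _ k hk) _ hk, C.equiv _ k hk, hPk, hg2, ← MulEquiv.map_mul,
          ← MulEquiv.map_mul]
        exact (congrArg e (by decide)).trans (map_one e)
      · rw [show g * g * (f * w⁻¹) * (g * g)⁻¹ = g * g * f * (g * g)⁻¹ * (g * g * w * (g * g)⁻¹)⁻¹ by group,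
          hσf, hσw]
  obtain ⟨y, hy, hyfix⟩ := exists_fixed_in_coset hL HM.surj HM.card hzU hker hs hs1 hx hxfix
  have hyR : y ∈ R1 := by
    have := mul_mem hz (hMR (HM.le' hy)); rwa [mul_inv_cancel_left] at this
  refine hfix y hyR (fun h => hzM ?_) ?_ hyfix
  · have := mul_mem (HM.le' h) (inv_mem (HM.le' hy))
    rwa [mul_inv_rev, inv_inv, ← mul_assoc, mul_inv_cancel, one_mul] at this
  · rw [show y * y = z * ((z⁻¹ * y) * z) * (z⁻¹ * y) by group, ← huz _ hy,
      show z * (z * (z⁻¹ * y)) * (z⁻¹ * y) = (z * z) * ((z⁻¹ * y) * (z⁻¹ * y)) by group, hz2, HM.exp _ hy, one_mul]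

include hL in
/-- There is no layer of order eight below a section of order sixteen. -/
theorem Natural.no_sixteen {U : Subgroup G} (N : Natural π U) (hsec : SecLE G) (R1 : Subgroup G) [R1.Normal]
    (hR1 : R1 ≤ π.ker) (hUR : U ≤ R1) (hidx : U.relIndex R1 = 16) (hsq : ∀ m ∈ R1, m * m ∈ U)
    (htriv : ∀ c ∈ π.ker, ∀ m ∈ R1, c * m * c⁻¹ * m⁻¹ ∈ U)
    (hmove : ∃ g, ∃ m ∈ R1, g * m * g⁻¹ * m⁻¹ ∉ U)
    (h4R : ∀ g, g * g * (g * g) ∈ π.ker → g * g ∉ π.ker → g * g * (g * g) ∈ R1)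
    (hcenz : ∀ z ∈ R1, (∀ g, g * z * g⁻¹ * z⁻¹ ∈ U) → (∀ a ∈ R1, z * a = a * z) → ∀ c ∈ π.ker, z * c = c * z)
    (hfix : ∀ y ∈ R1, y ∉ U → y * y = 1 → (∀ g, g * y * g⁻¹ = y) → False) : False := by
  classical
  haveI := N.normal
  obtain ⟨V, iV, iF, ρ, P, C⟩ := exists_coord N.surj R1 U hUR hsq htriv
  have hV : Nat.card V = 16 := C.card.trans hidx
  have hρ := C.ne_one hmove
  obtain ⟨f7, hf7, hf71⟩ := exists_seven hL
  have hcm : ∀ h, ∀ a ∈ R1, h * a * h⁻¹ ∈ R1 := fun h a ha => C.conj_mem ha h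
  have hfix7 := card_fixed_seven hL hV ρ hρ hf7 hf71
  -- fixed vectors lift to fixed cosets of involutions
  have hfixlift : ∀ z ∈ R1, (∀ g, g * z * g⁻¹ * z⁻¹ ∈ U) → z * z = 1 := by
    intro z hz h
    refine N.eq_one_of_fixed hL (hsq z hz) fun g => ?_
    set u := g * z * g⁻¹ * z⁻¹ with hudef
    calc g * (z * z) * g⁻¹ = u * z * (u * z) := by rw [hudef]; group
      _ = u * (z * u) * z := by group
      _ = u * (u * z) * z := by rw [N.central z (hR1 hz) u (h g)]
      _ = u * u * (z * z) := by group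
      _ = z * z := by rw [N.exp u (h g), one_mul]
  by_cases hS : ∃ S : Subgroup V, Nat.card S = 8 ∧ ∀ g v, v ∈ S → ρ g v ∈ S
  · obtain ⟨S, hS8, hSinv⟩ := hS
    let M : Subgroup G :=
      { carrier := {m | m ∈ R1 ∧ P m ∈ S}
        one_mem' := ⟨one_mem _, by rw [C.map_one]; exact one_mem S⟩
        mul_mem' := fun {a b} ha hb => ⟨mul_mem ha.1 hb.1, by rw [C.map_mul _ ha.1 _ hb.1]; exact mul_mem ha.2 hb.2⟩
        inv_mem' := fun {a} ha => ⟨inv_mem ha.1, by rw [C.map_inv ha.1]; exact ha.2⟩ }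
    haveI hMn : M.Normal := ⟨fun m hm g => ⟨hcm g m hm.1, by rw [C.equiv g m hm.1]; exact hSinv _ _ hm.2⟩⟩
    have hMR : M ≤ R1 := fun m hm => hm.1
    have hUM : U ≤ M := fun u hu => ⟨hUR hu, by rw [(C.eq_one u (hUR hu)).2 hu]; exact one_mem S⟩
    have hUMidx : U.relIndex M = 8 := by
      let φ : M →* V := MonoidHom.mk' (fun m => P m) fun a b => C.map_mul _ a.2.1 _ b.2.1
      have hker : φ.ker = U.subgroupOf M := by
        ext m
        rw [MonoidHom.mem_ker, mem_subgroupOf]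
        exact C.eq_one m m.2.1
      have hr : φ.range = S := by
        refine le_antisymm ?_ fun v hv => ?_
        · rintro _ ⟨m, rfl⟩; exact m.2.2
        · obtain ⟨m, hm, rfl⟩ := C.surj v
          exact ⟨⟨m, hm, hv⟩, rfl⟩
      rw [relIndex, ← hker, index_ker, hr, hS8]
    have hMidx : M.relIndex R1 = 2 := by
      have := relIndex_mul_relIndex U M R1 hUM hMR
      rw [hUMidx, hidx] at this
      omega
    have hMmove : ∃ g, ∃ m ∈ M, g * m * g⁻¹ * m⁻¹ ∉ U := by
      by_contra hcon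
      push Not at hcon
      have hle : S ≤ CfsgLib.RankFourAltFive.fixed (ρ f7) := by
        intro v hv
        obtain ⟨g, rfl⟩ := N.surj f7
        obtain ⟨m, hm, rfl⟩ := C.surj v
        rw [CfsgLib.RankFourAltFive.mem_fixed, ← C.equiv g m hm]
        have h1 := (C.eq_one _ (mul_mem (hcm g m hm) (inv_mem hm))).2 (hcon g m ⟨hm, hv⟩)
        rw [C.map_mul _ (hcm g m hm) _ (inv_mem hm), C.map_inv hm, mul_eq_one_iff_eq_inv,
          inv_eq_of_mul_eq_one_right (C.v2 _)] at h1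
        exact h1
      have := card_le_of_le hle
      rw [hS8, hfix7] at this
      omega
    have hMne : ∃ m ∈ M, m * m ≠ 1 := by
      by_contra hcon
      push Not at hcon
      have h1 := hsec.card_le M hcon
      have h3 := relIndex_mul_relIndex (⊥ : Subgroup G) U M bot_le hUM
      rw [relIndex_bot_left, relIndex_bot_left, N.card, hUMidx] at h3
      omega
    have HM := N.homocyclic hL M (hMR.trans hR1) hUM hUMidx (fun m hm => hsq m hm.1)
      (fun c hc m hm => htriv c hc m hm.1) hMmove hMne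
    obtain ⟨V', iV', iF', ρ', P', C'⟩ := exists_coord N.surj M U hUM (fun m hm => hsq m hm.1)
      (fun c hc m hm => htriv c hc m hm.1)
    refine HM.false_of_fourth hL hsec C' fun e g hg => ?_
    have hg2 : Frames ρ' e (rr * rr) (π (g * g)) := by rw [map_mul]; exact hg.mul ρ' hg
    have hs1 : g * g ∉ π.ker := fun h => by
      have h1 := hg2 (pt 0 0 1)
      rw [MonoidHom.mem_ker.1 h, map_one, MulAut.one_apply] at h1
      exact rr_sq_ne (e.injective h1.symm)
    have hk4 : g * g * (g * g) ∈ π.ker := by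
      rw [MonoidHom.mem_ker]
      refine injective_of_ne_one ρ' (C'.ne_one hMmove) (MulEquiv.ext fun v => ?_)
      obtain ⟨x, rfl⟩ := e.surjective v
      have h4 : Frames ρ' e (rr * rr * (rr * rr)) (π (g * g * (g * g))) := by
        rw [map_mul]; exact hg2.mul ρ' hg2
      rw [h4, map_one, MulAut.one_apply]
      exact congrArg e (rr_four x)
    have hgR := h4R g hk4 hs1
    by_contra hf
    -- the coset of the invariant subgroup has a fixed vector
    letI : MulAction L {v : V // v ∉ S} :=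
      { smul := fun l v => ⟨ρ l v.1, fun h => v.2 (by simpa using hSinv l⁻¹ _ h)⟩
        one_smul := fun v => Subtype.ext (by show ρ 1 v.1 = v.1; rw [map_one, MulAut.one_apply])
        mul_smul := fun a b v => Subtype.ext (by show ρ (a * b) v.1 = ρ a (ρ b v.1); rw [map_mul, MulAut.mul_apply]) }
    have hc8 : Nat.card {v : V // v ∉ S} = 8 := by
      haveI := Fintype.ofFinite V
      rw [Nat.card_eq_fintype_card, Fintype.card_subtype_compl, ← Nat.card_eq_fintype_card,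
        ← Nat.card_eq_fintype_card, hV, hS8]
    have hfixP : ρ (π (g * g)) (P (g * g * (g * g))) = P (g * g * (g * g)) := by
      rw [← C.equiv _ _ hgR]
      congr 1
      simp only [mul_assoc, mul_inv_rev, mul_inv_cancel_left, mul_inv_cancel, mul_one]
    obtain ⟨⟨ū, hū⟩, hūfix⟩ := exists_fixed_point hL hc8 (s := π (g * g))
      (by rw [← map_mul]; exact MonoidHom.mem_ker.1 hk4) (fun h => hs1 (MonoidHom.mem_ker.2 h))
      (x := (⟨P (g * g * (g * g)), fun h => hf ⟨hgR, h⟩⟩ : {v : V // v ∉ S})) (Subtype.ext hfixP)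
    obtain ⟨z, hz, rfl⟩ := C.surj ū
    have hzfix : ∀ h, h * z * h⁻¹ * z⁻¹ ∈ U := fun h => C.div_mem (hcm h z hz) hz (by
      rw [C.equiv h z hz]; exact congrArg Subtype.val (hūfix (π h)))
    exact hf (HM.fourth_mem hL N hMR hR1 hMidx hz (fun h => hū h.2) (hfixlift z hz hzfix) hzfix
      (hcenz z hz hzfix) hfix C' e g hg hgR)
  -- no invariant subgroup of order eight
  rcases fixed_or_invariant hL hV C.v2 ρ hρ with ⟨ū, hū1, hūfix⟩ | h
  swap
  · exact hS h
  obtain ⟨z, hz, rfl⟩ := C.surj ū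
  have hzfix : ∀ h, h * z * h⁻¹ * z⁻¹ ∈ U := fun h => C.div_mem (hcm h z hz) hz (by
    rw [C.equiv h z hz, hūfix])
  have hz2 := hfixlift z hz hzfix
  have hzU : z ∉ U := fun h => hū1 ((C.eq_one z hz).2 h)
  have huz : ∀ w ∈ U, z * w = w * z := fun w hw => N.central z (hR1 hz) w hw
  let F : Subgroup G :=
    { carrier := {x | x ∈ R1 ∧ (P x = 1 ∨ P x = P z)}
      one_mem' := ⟨one_mem _, Or.inl C.map_one⟩
      mul_mem' := fun {a b} ha hb => ⟨mul_mem ha.1 hb.1, by
        rw [C.map_mul _ ha.1 _ hb.1]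
        rcases ha.2 with h | h <;> rcases hb.2 with h' | h' <;> simp [h, h', C.v2]⟩
      inv_mem' := fun {a} ha => ⟨inv_mem ha.1, by rw [C.map_inv ha.1]; exact ha.2⟩ }
  haveI hFn : F.Normal := ⟨fun x hx g => ⟨hcm g x hx.1, by
    rw [C.equiv g x hx.1]
    rcases hx.2 with h | h <;> rw [h]
    · exact Or.inl (map_one _)
    · exact Or.inr (hūfix _)⟩⟩
  have hFdesc : ∀ x ∈ F, x ∈ U ∨ z⁻¹ * x ∈ U := by
    intro x hx
    rcases hx.2 with h | h
    · exact Or.inl ((C.eq_one x hx.1).1 h)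
    · refine Or.inr ?_
      rw [← C.eq_one _ (mul_mem (inv_mem hz) hx.1), C.map_mul _ (inv_mem hz) _ hx.1, C.map_inv hz, h, C.v2]
  have hUF : U ≤ F := fun u hu => ⟨hUR hu, Or.inl ((C.eq_one u (hUR hu)).2 hu)⟩
  have hFR : F ≤ R1 := fun x hx => hx.1
  have hFsq : ∀ x ∈ F, x * x = 1 := by
    intro x hx
    rcases hFdesc x hx with h | h
    · exact N.exp x h
    · rw [show x * x = z * ((z⁻¹ * x) * z) * (z⁻¹ * x) by group, ← huz _ h,
        show z * (z * (z⁻¹ * x)) * (z⁻¹ * x) = (z * z) * ((z⁻¹ * x) * (z⁻¹ * x)) by group, hz2, N.exp _ h, one_mul]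
  have hFidx : F.relIndex R1 = 8 := by
    have h1 : U.relIndex F = 2 := by
      let φ : F →* V := MonoidHom.mk' (fun m => P m) fun a b => C.map_mul _ a.2.1 _ b.2.1
      have hker : φ.ker = U.subgroupOf F := by
        ext m
        rw [MonoidHom.mem_ker, mem_subgroupOf]
        exact C.eq_one m m.2.1
      have hr : φ.range = pair (P z) (C.v2 _) := by
        refine le_antisymm ?_ fun v hv => ?_
        · rintro _ ⟨m, rfl⟩; exact m.2.2
        · rcases hv with rfl | rfl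
          · exact one_mem _
          · exact ⟨⟨z, hz, Or.inr rfl⟩, rfl⟩
      rw [relIndex, ← hker, index_ker, hr, CfsgLib.RankFourAltFive.card_pair hū1]
    have := relIndex_mul_relIndex U F R1 hUF hFR
    rw [h1, hidx] at this
    omega
  obtain ⟨V', iV', iF', ρ', P', C'⟩ := exists_coord N.surj R1 F hFR (fun m hm => hUF (hsq m hm))
    (fun c hc m hm => hUF (htriv c hc m hm))
  have hV' : Nat.card V' = 8 := C'.card.trans hFidx
  have hFmove : ∃ g, ∃ m ∈ R1, g * m * g⁻¹ * m⁻¹ ∉ F := by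
    by_contra hcon
    push Not at hcon
    refine hf71 (injective_of_ne_one ρ hρ ?_)
    obtain ⟨g, rfl⟩ := N.surj f7
    have key : ∀ v, ρ (π g) v = v ∨ ρ (π g) v = v * P z := by
      intro v
      obtain ⟨m, hm, rfl⟩ := C.surj v
      have h1 := (hcon g m hm).2
      rw [C.map_mul _ (hcm g m hm) _ (inv_mem hm), C.map_inv hm, C.equiv g m hm] at h1
      rcases h1 with h | h
      · left; rw [mul_eq_one_iff_eq_inv, inv_eq_of_mul_eq_one_right (C.v2 _)] at h; exact h
      · right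
        rw [← h, mul_comm (ρ (π g) (P m)), ← mul_assoc, C.v2, one_mul]
    have h2 : ∀ v, ρ (π g) (ρ (π g) v) = v := fun v => by
      rcases key v with h | h <;> simp only [h]
      rw [map_mul, h, hūfix, mul_assoc, C.v2, mul_one]
    rw [map_one]
    refine MulEquiv.ext fun v => ?_
    have h7 : (ρ (π g)) ^ 7 = 1 := by rw [← map_pow, hf7, map_one]
    have h2' : (ρ (π g)) ^ 2 = 1 := by rw [pow_two]; exact MulEquiv.ext h2
    rw [show 7 = 2 * 3 + 1 from rfl, pow_succ, pow_mul, h2', one_pow, one_mul] at h7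
    rw [h7]
  have hρ' := C'.ne_one hFmove
  have hinjL := injective_of_ne_one ρ' hρ'
  have hsame : ∀ (e : V3 ≃* V') (φ : MulAut V3) (l l' : L), Frames ρ' e φ l → Frames ρ' e φ l' → l = l' := by
    intro e φ l l' h h'
    refine hinjL (MulEquiv.ext fun v => ?_)
    obtain ⟨x, rfl⟩ := e.surjective v
    rw [h, h']
  have hPF : ∀ a ∈ R1, P' a = 1 → P a = 1 ∨ P a = P z := fun a ha h => ((C'.eq_one a ha).1 h).2
  -- every regular unipotent element moves the preimages of its centre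
  have hswap : ∀ (e : V3 ≃* V') (g a : G), Frames ρ' e rr (π g) → a ∈ R1 → P' a = e (pt 1 0 0) →
      g * a * g⁻¹ * a⁻¹ ∉ U := by
    intro e g a hg ha hPa hmem
    apply hS
    have hav : P a ≠ 1 ∧ P a ≠ P z := by
      constructor <;>
      · intro h
        have h1 : P' a = 1 := (C'.eq_one a ha).2 ⟨ha, by first | exact Or.inl h | exact Or.inr h⟩
        rw [hPa] at h1
        exact absurd (e.map_eq_one_iff.1 h1) (by decide)
    refine invariant_of_small_orbit hL hV C.v2 ρ hρ hū1 hūfix hav.1 hav.2 ?_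
    let St : Subgroup L := (⊤ : Subgroup L) ⊓
      { carrier := {l | ρ l (P a) = P a}
        one_mem' := by rw [Set.mem_setOf_eq, map_one, MulAut.one_apply]
        mul_mem' := fun {x y} hx hy => by rw [Set.mem_setOf_eq, map_mul, MulAut.mul_apply, hy, hx]
        inv_mem' := fun {x} hx => by
          rw [Set.mem_setOf_eq, map_inv]
          conv_lhs => rw [← hx]
          rw [MulAut.inv_apply_self] }
    have hSt : ∀ l, l ∈ St ↔ ρ l (P a) = P a := fun l => ⟨fun h => h.2, fun h => ⟨mem_top l, h⟩⟩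
    have hrr : π g ∈ St := (hSt _).2 (by
      have h1 := (C.eq_one _ (mul_mem (hcm g a ha) (inv_mem ha))).2 hmem
      rw [C.map_mul _ (hcm g a ha) _ (inv_mem ha), C.map_inv ha, mul_eq_one_iff_eq_inv,
        inv_eq_of_mul_eq_one_right (C.v2 _), C.equiv g a ha] at h1
      exact h1)
    obtain ⟨lt, hlt⟩ := exists_frames hL hV' C'.v2 ρ' hρ' e tt
    have htt : lt ∈ St := (hSt _).2 (by
      have hlt3 : lt * lt * lt = 1 := hsame e (tt * tt * tt) _ _ ((hlt.mul ρ' hlt).mul ρ' hlt) fun x => by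
        rw [map_one, MulAut.one_apply]; exact congrArg e (tt_three x).symm
      obtain ⟨h, rfl⟩ := N.surj lt
      have h1 : P' (h * a * h⁻¹ * a⁻¹) = 1 := by
        rw [C'.map_mul _ (hcm h a ha) _ (inv_mem ha), C'.map_inv ha, C'.equiv h a ha, hPa, hlt,
          ← MulEquiv.map_mul]
        exact (congrArg e (by decide)).trans (map_one e)
      have h2 := hPF _ (mul_mem (hcm h a ha) (inv_mem ha)) h1
      rw [C.map_mul _ (hcm h a ha) _ (inv_mem ha), C.map_inv ha, C.equiv h a ha] at h2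
      rcases h2 with h3 | h3
      · rw [mul_eq_one_iff_eq_inv, inv_eq_of_mul_eq_one_right (C.v2 _)] at h3; exact h3
      · exfalso
        have h4 : ρ (π h) (P a) = P a * P z := by
          rw [← h3, mul_comm (ρ (π h) (P a)), ← mul_assoc, C.v2, one_mul]
        have h5 : ρ (π h * π h * π h) (P a) = P a * P z := by
          rw [map_mul, map_mul, MulAut.mul_apply, MulAut.mul_apply, h4, map_mul (ρ (π h)), h4, hūfix,
            mul_assoc, C.v2, mul_one, h4]
        rw [hlt3, map_one, MulAut.one_apply] at h5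
        exact hū1 (left_eq_mul.1 h5))
    obtain ⟨lb, hlb⟩ := exists_frames hL hV' C'.v2 ρ' hρ' e bb
    have hbb : lb ∈ St := by
      rw [hsame e bb lb (lt * (π g * π g) * lt⁻¹) hlb fun x => by
        rw [((hlt.mul ρ' (hg.mul ρ' hg)).mul ρ' (hlt.inv ρ')) x]
        exact congrArg e (bb_eq_conj x)]
      exact mul_mem (mul_mem htt (mul_mem hrr hrr)) (inv_mem htt)
    have hwords : ∀ w ∈ words, ∃ l ∈ St, Frames ρ' e w l := by
      intro w hw
      simp only [words, List.mem_cons, List.mem_flatMap, List.mem_map] at hw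
      rcases hw with rfl | ⟨i, -, j, -, k, -, rfl⟩
      · exact ⟨π g, hrr, hg⟩
      · exact ⟨(π g * π g) ^ i * lb ^ j * lt ^ k,
          mul_mem (mul_mem (pow_mem (mul_mem hrr hrr) i) (pow_mem hbb j)) (pow_mem htt k),
          (((hg.mul ρ' hg).pow ρ' i).mul ρ' (hlb.pow ρ' j)).mul ρ' (hlt.pow ρ' k)⟩
    choose W hWSt hW using hwords
    have h13 : 13 ≤ Nat.card St := by
      let F' : Fin words.length → St := fun i => ⟨W _ (List.getElem_mem i.2), hWSt _ _⟩
      have hF : Function.Injective F' := by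
        intro i i' h
        have h1 : W _ (List.getElem_mem i.2) = W _ (List.getElem_mem i'.2) := congrArg Subtype.val h
        have hh : ∀ x, words[i.1] x = words[i'.1] x := fun x => e.injective (by
          rw [← hW _ (List.getElem_mem i.2), ← hW _ (List.getElem_mem i'.2), h1])
        have hnd := words_nodup
        refine Fin.ext ((hnd.getElem_inj_iff (hi := by simp) (hj := by simp)).1 ?_)
        simp [hh]
      have := Nat.card_le_card_of_injective F' hF
      rwa [Nat.card_eq_fintype_card, Fintype.card_fin, words_length] at this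
    letI : MulAction L V := MulAction.compHom V ρ
    have hO : Set.range (fun l => ρ l (P a)) = MulAction.orbit L (P a) := rfl
    have hstab : MulAction.stabilizer L (P a) = St := by
      ext l
      exact (hSt l).symm
    have hmul := card_mul_index (MulAction.stabilizer L (P a))
    rw [MulAction.index_stabilizer, hL, hstab, ← hO] at hmul
    nlinarith
  let ψ : G → G := fun a => z * a * z⁻¹ * a⁻¹
  have hψU : ∀ a ∈ R1, ψ a ∈ U := fun a ha => htriv z (hR1 hz) a ha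
  have hψmul : ∀ a ∈ R1, ∀ b ∈ R1, ψ (a * b) = ψ a * ψ b := by
    intro a ha b hb
    show z * (a * b) * z⁻¹ * (a * b)⁻¹ = ψ a * ψ b
    rw [show z * (a * b) * z⁻¹ * (a * b)⁻¹ = ψ a * (a * ψ b * a⁻¹) by simp only [ψ]; group,
      N.central a (hR1 ha) _ (hψU b hb), mul_inv_cancel_right]
  have hψF : ∀ x ∈ F, ψ x = 1 := by
    intro x hx
    rcases hFdesc x hx with h | h
    · show z * x * z⁻¹ * x⁻¹ = 1
      rw [huz x h, mul_inv_cancel_right, mul_inv_cancel]
    · show z * x * z⁻¹ * x⁻¹ = 1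
      have : z * x = x * z := by
        calc z * x = z * (z * (z⁻¹ * x)) := by group
          _ = z * ((z⁻¹ * x) * z) := by rw [huz _ h]
          _ = x * z := by group
      rw [this, mul_inv_cancel_right, mul_inv_cancel]
  have hψconj : ∀ h, ∀ a ∈ R1, h * ψ a * h⁻¹ = ψ (h * a * h⁻¹) := by
    intro h a ha
    set u := h * z * h⁻¹ * z⁻¹ with hudef
    have hu : u ∈ U := hzfix h
    show h * (z * a * z⁻¹ * a⁻¹) * h⁻¹ = z * (h * a * h⁻¹) * z⁻¹ * (h * a * h⁻¹)⁻¹
    calc h * (z * a * z⁻¹ * a⁻¹) * h⁻¹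
        = (u * z) * (h * a * h⁻¹) * (u * z)⁻¹ * (h * a * h⁻¹)⁻¹ := by rw [hudef]; group
      _ = z * (u * (h * a * h⁻¹)) * (z * u)⁻¹ * (h * a * h⁻¹)⁻¹ := by rw [← huz u hu]; group
      _ = z * ((h * a * h⁻¹) * u) * (z * u)⁻¹ * (h * a * h⁻¹)⁻¹ := by rw [N.central _ (hR1 (hcm h a ha)) u hu]
      _ = _ := by group
  have hψwd : ∀ a ∈ R1, ∀ b ∈ R1, P' a = P' b → ψ a = ψ b := by
    intro a ha b hb h
    have hF := C'.div_mem ha hb h
    rw [show a = a * b⁻¹ * b by group, hψmul _ (mul_mem ha (inv_mem hb)) _ hb, hψF _ hF, one_mul]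
  have hψ1 : ∀ a ∈ R1, ψ a = 1 := by
    by_contra hcon
    push Not at hcon
    obtain ⟨a0, ha0, ha01⟩ := hcon
    have hinj : ∀ b ∈ R1, ψ b = 1 → P' b = 1 := by
      intro b hb h
      by_contra hb1
      have ha0' : P' a0 ≠ 1 := fun h => ha01 (hψF _ ((C'.eq_one a0 ha0).1 h))
      obtain ⟨l, hl⟩ := transitive_eight hL hV' C'.v2 ρ' hρ' hb1 ha0'
      obtain ⟨h', rfl⟩ := N.surj l
      refine ha01 ?_
      rw [← hψwd _ (hcm h' b hb) a0 ha0 (by rw [C'.equiv h' b hb, hl]), ← hψconj h' b hb, h, mul_one, mul_inv_cancel]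
    let φ : R1 →* U := MonoidHom.mk' (fun a => ⟨ψ a, hψU a a.2⟩) fun a b => Subtype.ext (hψmul a a.2 b b.2)
    have hker : φ.ker = F.subgroupOf R1 := by
      ext m
      rw [MonoidHom.mem_ker, mem_subgroupOf]
      exact ⟨fun h => (C'.eq_one m m.2).1 (hinj m m.2 (congrArg Subtype.val h)), fun h => Subtype.ext (hψF m h)⟩
    have hr : φ.range = ⊤ := eq_top_of_card_eq _ (by
      rw [← index_ker, hker, N.card]; exact hFidx)
    obtain ⟨e, -⟩ := exists_frame_one hV' C'.v2 (a := P' a0) fun h => ha01 (hψF _ ((C'.eq_one a0 ha0).1 h))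
    obtain ⟨a, ha, hPa⟩ := C'.surj (e (pt 1 0 0))
    obtain ⟨l, hl⟩ := exists_frames hL hV' C'.v2 ρ' hρ' e rr
    obtain ⟨g, rfl⟩ := N.surj l
    obtain ⟨lt, hlt⟩ := exists_frames hL hV' C'.v2 ρ' hρ' e tt
    obtain ⟨t, rfl⟩ := N.surj lt
    obtain ⟨⟨c, hc⟩, hcv⟩ := (hr ▸ mem_top (⟨a * a, hsq a ha⟩ : U) : (⟨a * a, hsq a ha⟩ : U) ∈ φ.range)
    have hcψ : ψ c = a * a := congrArg Subtype.val hcv
    have hdiv : ∀ h : G, P' (h * a * h⁻¹) = P' a → h * a * h⁻¹ * a⁻¹ ∈ F := fun h he =>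
      C'.div_mem (hcm h a ha) ha he
    have hsqF : ∀ h : G, P' (h * a * h⁻¹) = P' a → h * a * h⁻¹ * a⁻¹ ∈ U → h * (a * a) * h⁻¹ = a * a := by
      intro h he hu
      rw [← conj_mul]
      exact sq_of_central (N.central a (hR1 ha) _ hu).symm (N.exp _ hu)
    have hga : P' (g * a * g⁻¹) = P' a := by rw [C'.equiv g a ha, hPa, hl, (rr_fix _).2 (Or.inr rfl)]
    have hta : P' (t * a * t⁻¹) = P' a := by
      rw [C'.equiv t a ha, hPa, hlt]
      exact congrArg e (by decide)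
    -- the regular unipotent element multiplies the square by the commutator
    have e1 : g * (a * a) * g⁻¹ = a * a * ψ a := by
      set x := g * a * g⁻¹ * a⁻¹ with hxdef
      have hx : z⁻¹ * x ∈ U := (hFdesc _ (hdiv g hga)).resolve_left (hswap e g a hl ha hPa)
      set u := z⁻¹ * x with hudef
      have ha' : g * a * g⁻¹ = z * u * a := by rw [hudef, hxdef]; group
      rw [← conj_mul, ha']
      calc z * u * a * (z * u * a) = z * (u * a) * (z * u) * a := by group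
        _ = z * (a * u) * (z * u) * a := by rw [N.central a (hR1 ha) u hx]
        _ = (z * a * z⁻¹ * a⁻¹) * a * (z * u) * (z * u) * a := by group
        _ = ψ a * a * ((z * u) * (z * u)) * a := by simp only [ψ]; group
        _ = ψ a * (a * a) := by
          rw [show z * u * (z * u) = z * (u * z) * u by group, ← huz u hx,
            show z * (z * u) * u = (z * z) * (u * u) by group, hz2, N.exp u hx, one_mul, mul_one, mul_assoc]
        _ = a * a * ψ a := N.central _ (N.le (hψU a ha)) _ (hsq a ha)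
    have e2 : t * (a * a) * t⁻¹ = a * a := by
      refine hsqF t hta ?_
      rcases hFdesc _ (hdiv t hta) with h | h
      · exact h
      exfalso
      set u := z⁻¹ * (t * a * t⁻¹ * a⁻¹) with hudef
      have ht' : P (t * a * t⁻¹) = P a * P z := by
        have e3 : t * a * t⁻¹ = z * u * a := by rw [hudef]; group
        rw [e3, C.map_mul _ (mul_mem hz (hUR h)) _ ha, C.map_mul _ hz _ (hUR h), (C.eq_one u (hUR h)).2 h, mul_one,
          mul_comm]
      rw [C.equiv t a ha] at ht'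
      have hlt3 : π t * π t * π t = 1 := hsame e (tt * tt * tt) _ _ ((hlt.mul ρ' hlt).mul ρ' hlt) fun x => by
        rw [map_one, MulAut.one_apply]; exact congrArg e (tt_three x).symm
      have h5 : ρ (π t * π t * π t) (P a) = P a * P z := by
        rw [map_mul, map_mul, MulAut.mul_apply, MulAut.mul_apply, ht', map_mul (ρ (π t)), ht', hūfix,
          mul_assoc, C.v2, mul_one, ht']
      rw [hlt3, map_one, MulAut.one_apply] at h5
      exact hū1 (left_eq_mul.1 h5)
    rw [← hcψ, hψconj g c hc] at e1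
    rw [← hψmul c hc a ha] at e1
    rw [← hcψ, hψconj t c hc] at e2
    have f1 : P' (g * c * g⁻¹ * (c * a)⁻¹) = 1 := hinj _ (mul_mem (hcm g c hc) (inv_mem (mul_mem hc ha))) (by
      have hb := mul_mem hc ha
      have h0 : ψ (g * c * g⁻¹ * (c * a)⁻¹) * ψ (c * a) = ψ (g * c * g⁻¹) := by
        rw [← hψmul _ (mul_mem (hcm g c hc) (inv_mem hb)) _ hb, inv_mul_cancel_right]
      rw [e1] at h0
      exact mul_eq_right.1 h0)
    have f2 : P' (t * c * t⁻¹ * c⁻¹) = 1 := hinj _ (mul_mem (hcm t c hc) (inv_mem hc)) (by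
      have h0 : ψ (t * c * t⁻¹ * c⁻¹) * ψ c = ψ (t * c * t⁻¹) := by
        rw [← hψmul _ (mul_mem (hcm t c hc) (inv_mem hc)) _ hc, inv_mul_cancel_right]
      rw [e2] at h0
      exact mul_eq_right.1 h0)
    rw [C'.map_mul _ (hcm g c hc) _ (inv_mem (mul_mem hc ha)), C'.map_inv (mul_mem hc ha), C'.equiv g c hc,
      C'.map_mul _ hc _ ha, hPa] at f1
    rw [C'.map_mul _ (hcm t c hc) _ (inv_mem hc), C'.map_inv hc, C'.equiv t c hc] at f2
    obtain ⟨x, hx⟩ := e.surjective (P' c)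
    rw [← hx, hl, ← MulEquiv.map_mul, ← MulEquiv.map_mul, MulEquiv.map_eq_one_iff] at f1
    rw [← hx, hlt, ← MulEquiv.map_mul, MulEquiv.map_eq_one_iff] at f2
    clear hx
    revert f1 f2
    revert x
    decide
  have hzR : ∀ a ∈ R1, z * a = a * z := fun a ha => mul_inv_eq_iff_eq_mul.1 (mul_inv_eq_one.1 (hψ1 a ha))
  have hzc := hcenz z hz hzfix hzR
  have hFc : ∀ m ∈ R1, ∀ w ∈ F, m * w = w * m := by
    intro m hm w hw
    rcases hFdesc w hw with h | h
    · exact N.central m (hR1 hm) w h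
    · calc m * w = m * z * (z⁻¹ * w) := by group
        _ = z * (m * (z⁻¹ * w)) := by rw [← hzR m hm]; group
        _ = z * ((z⁻¹ * w) * m) := by rw [N.central m (hR1 hm) _ h]
        _ = w * m := by group
  have hne : ∃ m ∈ R1, m * m ≠ 1 := by
    by_contra hcon
    push Not at hcon
    have h1 := hsec.card_le R1 hcon
    have h3 := relIndex_mul_relIndex (⊥ : Subgroup G) U R1 bot_le hUR
    rw [relIndex_bot_left, relIndex_bot_left, N.card, hidx] at h3
    omega
  obtain ⟨habl, -⟩ := N.rigid hL R1 F hFR hUF hFidx hsq hFsq hFc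
    (fun c hc m hm => hUF (htriv c hc m hm)) hFmove hne
  obtain ⟨e, -⟩ := exists_frame_one hV' C'.v2 (a := (exists_ne_pair hV' (1 : V')).choose)
    (exists_ne_pair hV' (1 : V')).choose_spec.1
  obtain ⟨l, hl⟩ := exists_frames hL hV' C'.v2 ρ' hρ' e rr
  obtain ⟨g, rfl⟩ := N.surj l
  have hg2 : Frames ρ' e (rr * rr) (π (g * g)) := by rw [map_mul]; exact hl.mul ρ' hl
  have hs1 : g * g ∉ π.ker := fun h => by
    have h1 := hg2 (pt 0 0 1)
    rw [MonoidHom.mem_ker.1 h, map_one, MulAut.one_apply] at h1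
    exact rr_sq_ne (e.injective h1.symm)
  have hk4 : g * g * (g * g) ∈ π.ker := by
    rw [MonoidHom.mem_ker]
    refine hsame e (rr * rr * (rr * rr)) _ _ ?_ fun x => ?_
    · rw [map_mul]; exact hg2.mul ρ' hg2
    · rw [map_one, MulAut.one_apply]; exact congrArg e (rr_four x).symm
  have hgR := h4R g hk4 hs1
  obtain ⟨k, hk, hPk⟩ := C'.surj (e (pt 0 0 1))
  set w := g * g * k * (g * g)⁻¹ * k with hw
  have hwR : w ∈ R1 := mul_mem (hcm _ k hk) hk
  have hPw : P' w = e (pt 1 0 0) := by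
    rw [hw, C'.map_mul _ (hcm _ k hk) _ hk, C'.equiv _ k hk, hPk, hg2, ← MulEquiv.map_mul]
    rfl
  have hσw : g * g * w * (g * g)⁻¹ = w := by
    calc g * g * (g * g * k * (g * g)⁻¹ * k) * (g * g)⁻¹
        = g * g * (g * g) * k * (g * g * (g * g))⁻¹ * (g * g * k * (g * g)⁻¹) := by group
      _ = k * (g * g * k * (g * g)⁻¹) := by rw [habl _ hgR k hk, mul_inv_cancel_right]
      _ = w := habl _ hk _ (hcm _ k hk)
  set z' := g * w * g⁻¹ * w with hz'
  have hz'R : z' ∈ R1 := mul_mem (hcm g w hwR) hwR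
  have hz'F : z' ∈ F := (C'.eq_one z' hz'R).1 (by
    rw [hz', C'.map_mul _ (hcm g w hwR) _ hwR, C'.equiv g w hwR, hPw, hl, (rr_fix _).2 (Or.inr rfl), C'.v2])
  have hz'U : z' ∉ U := fun h => hswap e g w hl hwR hPw (by
    have : g * w * g⁻¹ * w⁻¹ = z' * (w * w)⁻¹ := by rw [hz']; group
    rw [this]; exact mul_mem h (inv_mem (hsq w hwR)))
  have hker : ∀ c ∈ π.ker, ∀ x, z⁻¹ * x ∈ U → c * x * c⁻¹ = x := by
    intro c hc x hx
    calc c * x * c⁻¹ = (c * z) * (z⁻¹ * x) * c⁻¹ := by group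
      _ = (z * c) * (z⁻¹ * x) * c⁻¹ := by rw [hzc c hc]
      _ = z * ((z⁻¹ * x) * c) * c⁻¹ := by rw [mul_assoc z c, N.central c hc _ hx]
      _ = x := by group
  have hzinv : ∀ h : G, ∀ x, z⁻¹ * x ∈ U → z⁻¹ * (h * x * h⁻¹) ∈ U := by
    intro h x hx
    set u := h * z * h⁻¹ * z⁻¹ with hudef
    have hu : u ∈ U := hzfix h
    have e7 : z⁻¹ * (h * x * h⁻¹) = z⁻¹ * (u * z) * (h * (z⁻¹ * x) * h⁻¹) := by rw [hudef]; group
    rw [e7, ← huz u hu, inv_mul_cancel_left]
    exact mul_mem hu (N.normal.conj_mem _ hx h)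
  have hfix' : g * g * z' * (g * g)⁻¹ = z' := by
    rw [hz', show g * g * (g * w * g⁻¹ * w) * (g * g)⁻¹ = g * (g * g * w * (g * g)⁻¹) * g⁻¹ * (g * g * w * (g * g)⁻¹) by group,
      hσw]
  obtain ⟨y, hy, hyfix⟩ := exists_fixed_in_coset hL N.surj N.card hzinv hker hk4 hs1
    ((hFdesc z' hz'F).resolve_left hz'U) hfix'
  have hyR : y ∈ R1 := by
    have := mul_mem hz (hUR hy); rwa [mul_inv_cancel_left] at this
  refine hfix y hyR (fun h => hzU ?_) ?_ hyfix
  · have := mul_mem h (inv_mem hy)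
    rwa [mul_inv_rev, inv_inv, ← mul_assoc, mul_inv_cancel, one_mul] at this
  · rw [show y * y = z * ((z⁻¹ * y) * z) * (z⁻¹ * y) by group, ← huz _ hy,
      show z * (z * (z⁻¹ * y)) * (z⁻¹ * y) = (z * z) * ((z⁻¹ * y) * (z⁻¹ * y)) by group, hz2, N.exp _ hy, one_mul]

end CfsgLib.RankFourLinear
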